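import Cfsg.Agent.Lib.Schur.FiTwentyThree.MidP0
import Cfsg.Agent.Lib.Schur.FiTwentyThree.MidP1
import Cfsg.Agent.Lib.Schur.FiTwentyThree.MidP2
import Cfsg.Agent.Lib.Schur.FiTwentyThree.MidP3

set_option autoImplicit false
set_option linter.all false

namespace CfsgLib.SchurFi23

namespace Mid

open CfsgLib.CosetEnum

theorem facts_ok_upto512 : ∀ j < 512, ∃ item, checkFact facts 18364758544493064720 words 576 subs 15857 j item = true := fun j hj =>
  have h : 0 ≤ j := Nat.zero_le j
  checkFacts_spec _ _ _ _ _ _ items0 0 facts_ok0 j h (lt_of_lt_of_eq hj (by decide +kernel))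
theorem facts_ok_upto1024 : ∀ j < 1024, ∃ item, checkFact facts 18364758544493064720 words 576 subs 15857 j item = true := fun j hj =>
  (Nat.lt_or_ge j 512).elim (facts_ok_upto512 j) fun h =>
    checkFacts_spec _ _ _ _ _ _ items512 512 facts_ok512 j h (lt_of_lt_of_eq hj (by decide +kernel))
theorem facts_ok_upto1536 : ∀ j < 1536, ∃ item, checkFact facts 18364758544493064720 words 576 subs 15857 j item = true := fun j hj =>
  (Nat.lt_or_ge j 1024).elim (facts_ok_upto1024 j) fun h =>
    checkFacts_spec _ _ _ _ _ _ items1024 1024 facts_ok1024 j h (lt_of_lt_of_eq hj (by decide +kernel))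
theorem facts_ok_upto2048 : ∀ j < 2048, ∃ item, checkFact facts 18364758544493064720 words 576 subs 15857 j item = true := fun j hj =>
  (Nat.lt_or_ge j 1536).elim (facts_ok_upto1536 j) fun h =>
    checkFacts_spec _ _ _ _ _ _ items1536 1536 facts_ok1536 j h (lt_of_lt_of_eq hj (by decide +kernel))
theorem facts_ok_upto2560 : ∀ j < 2560, ∃ item, checkFact facts 18364758544493064720 words 576 subs 15857 j item = true := fun j hj =>
  (Nat.lt_or_ge j 2048).elim (facts_ok_upto2048 j) fun h =>
    checkFacts_spec _ _ _ _ _ _ items2048 2048 facts_ok2048 j h (lt_of_lt_of_eq hj (by decide +kernel))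
theorem facts_ok_upto3072 : ∀ j < 3072, ∃ item, checkFact facts 18364758544493064720 words 576 subs 15857 j item = true := fun j hj =>
  (Nat.lt_or_ge j 2560).elim (facts_ok_upto2560 j) fun h =>
    checkFacts_spec _ _ _ _ _ _ items2560 2560 facts_ok2560 j h (lt_of_lt_of_eq hj (by decide +kernel))
theorem facts_ok_upto3584 : ∀ j < 3584, ∃ item, checkFact facts 18364758544493064720 words 576 subs 15857 j item = true := fun j hj =>
  (Nat.lt_or_ge j 3072).elim (facts_ok_upto3072 j) fun h =>
    checkFacts_spec _ _ _ _ _ _ items3072 3072 facts_ok3072 j h (lt_of_lt_of_eq hj (by decide +kernel))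
theorem facts_ok_upto4096 : ∀ j < 4096, ∃ item, checkFact facts 18364758544493064720 words 576 subs 15857 j item = true := fun j hj =>
  (Nat.lt_or_ge j 3584).elim (facts_ok_upto3584 j) fun h =>
    checkFacts_spec _ _ _ _ _ _ items3584 3584 facts_ok3584 j h (lt_of_lt_of_eq hj (by decide +kernel))
theorem facts_ok_upto4608 : ∀ j < 4608, ∃ item, checkFact facts 18364758544493064720 words 576 subs 15857 j item = true := fun j hj =>
  (Nat.lt_or_ge j 4096).elim (facts_ok_upto4096 j) fun h =>
    checkFacts_spec _ _ _ _ _ _ items4096 4096 facts_ok4096 j h (lt_of_lt_of_eq hj (by decide +kernel))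
theorem facts_ok_upto5120 : ∀ j < 5120, ∃ item, checkFact facts 18364758544493064720 words 576 subs 15857 j item = true := fun j hj =>
  (Nat.lt_or_ge j 4608).elim (facts_ok_upto4608 j) fun h =>
    checkFacts_spec _ _ _ _ _ _ items4608 4608 facts_ok4608 j h (lt_of_lt_of_eq hj (by decide +kernel))
theorem facts_ok_upto5632 : ∀ j < 5632, ∃ item, checkFact facts 18364758544493064720 words 576 subs 15857 j item = true := fun j hj =>
  (Nat.lt_or_ge j 5120).elim (facts_ok_upto5120 j) fun h =>
    checkFacts_spec _ _ _ _ _ _ items5120 5120 facts_ok5120 j h (lt_of_lt_of_eq hj (by decide +kernel))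
theorem facts_ok_upto6144 : ∀ j < 6144, ∃ item, checkFact facts 18364758544493064720 words 576 subs 15857 j item = true := fun j hj =>
  (Nat.lt_or_ge j 5632).elim (facts_ok_upto5632 j) fun h =>
    checkFacts_spec _ _ _ _ _ _ items5632 5632 facts_ok5632 j h (lt_of_lt_of_eq hj (by decide +kernel))
theorem facts_ok_upto6656 : ∀ j < 6656, ∃ item, checkFact facts 18364758544493064720 words 576 subs 15857 j item = true := fun j hj =>
  (Nat.lt_or_ge j 6144).elim (facts_ok_upto6144 j) fun h =>
    checkFacts_spec _ _ _ _ _ _ items6144 6144 facts_ok6144 j h (lt_of_lt_of_eq hj (by decide +kernel))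
theorem facts_ok_upto7168 : ∀ j < 7168, ∃ item, checkFact facts 18364758544493064720 words 576 subs 15857 j item = true := fun j hj =>
  (Nat.lt_or_ge j 6656).elim (facts_ok_upto6656 j) fun h =>
    checkFacts_spec _ _ _ _ _ _ items6656 6656 facts_ok6656 j h (lt_of_lt_of_eq hj (by decide +kernel))
theorem facts_ok_upto7680 : ∀ j < 7680, ∃ item, checkFact facts 18364758544493064720 words 576 subs 15857 j item = true := fun j hj =>
  (Nat.lt_or_ge j 7168).elim (facts_ok_upto7168 j) fun h =>
    checkFacts_spec _ _ _ _ _ _ items7168 7168 facts_ok7168 j h (lt_of_lt_of_eq hj (by decide +kernel))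
theorem facts_ok_upto8192 : ∀ j < 8192, ∃ item, checkFact facts 18364758544493064720 words 576 subs 15857 j item = true := fun j hj =>
  (Nat.lt_or_ge j 7680).elim (facts_ok_upto7680 j) fun h =>
    checkFacts_spec _ _ _ _ _ _ items7680 7680 facts_ok7680 j h (lt_of_lt_of_eq hj (by decide +kernel))
theorem facts_ok_upto8704 : ∀ j < 8704, ∃ item, checkFact facts 18364758544493064720 words 576 subs 15857 j item = true := fun j hj =>
  (Nat.lt_or_ge j 8192).elim (facts_ok_upto8192 j) fun h =>
    checkFacts_spec _ _ _ _ _ _ items8192 8192 facts_ok8192 j h (lt_of_lt_of_eq hj (by decide +kernel))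
theorem facts_ok_upto9216 : ∀ j < 9216, ∃ item, checkFact facts 18364758544493064720 words 576 subs 15857 j item = true := fun j hj =>
  (Nat.lt_or_ge j 8704).elim (facts_ok_upto8704 j) fun h =>
    checkFacts_spec _ _ _ _ _ _ items8704 8704 facts_ok8704 j h (lt_of_lt_of_eq hj (by decide +kernel))
theorem facts_ok_upto9728 : ∀ j < 9728, ∃ item, checkFact facts 18364758544493064720 words 576 subs 15857 j item = true := fun j hj =>
  (Nat.lt_or_ge j 9216).elim (facts_ok_upto9216 j) fun h =>
    checkFacts_spec _ _ _ _ _ _ items9216 9216 facts_ok9216 j h (lt_of_lt_of_eq hj (by decide +kernel))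
theorem facts_ok_upto10240 : ∀ j < 10240, ∃ item, checkFact facts 18364758544493064720 words 576 subs 15857 j item = true := fun j hj =>
  (Nat.lt_or_ge j 9728).elim (facts_ok_upto9728 j) fun h =>
    checkFacts_spec _ _ _ _ _ _ items9728 9728 facts_ok9728 j h (lt_of_lt_of_eq hj (by decide +kernel))
theorem facts_ok_upto10752 : ∀ j < 10752, ∃ item, checkFact facts 18364758544493064720 words 576 subs 15857 j item = true := fun j hj =>
  (Nat.lt_or_ge j 10240).elim (facts_ok_upto10240 j) fun h =>
    checkFacts_spec _ _ _ _ _ _ items10240 10240 facts_ok10240 j h (lt_of_lt_of_eq hj (by decide +kernel))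
theorem facts_ok_upto11264 : ∀ j < 11264, ∃ item, checkFact facts 18364758544493064720 words 576 subs 15857 j item = true := fun j hj =>
  (Nat.lt_or_ge j 10752).elim (facts_ok_upto10752 j) fun h =>
    checkFacts_spec _ _ _ _ _ _ items10752 10752 facts_ok10752 j h (lt_of_lt_of_eq hj (by decide +kernel))
theorem facts_ok_upto11776 : ∀ j < 11776, ∃ item, checkFact facts 18364758544493064720 words 576 subs 15857 j item = true := fun j hj =>
  (Nat.lt_or_ge j 11264).elim (facts_ok_upto11264 j) fun h =>
    checkFacts_spec _ _ _ _ _ _ items11264 11264 facts_ok11264 j h (lt_of_lt_of_eq hj (by decide +kernel))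
theorem facts_ok_upto12288 : ∀ j < 12288, ∃ item, checkFact facts 18364758544493064720 words 576 subs 15857 j item = true := fun j hj =>
  (Nat.lt_or_ge j 11776).elim (facts_ok_upto11776 j) fun h =>
    checkFacts_spec _ _ _ _ _ _ items11776 11776 facts_ok11776 j h (lt_of_lt_of_eq hj (by decide +kernel))
theorem facts_ok_upto12800 : ∀ j < 12800, ∃ item, checkFact facts 18364758544493064720 words 576 subs 15857 j item = true := fun j hj =>
  (Nat.lt_or_ge j 12288).elim (facts_ok_upto12288 j) fun h =>
    checkFacts_spec _ _ _ _ _ _ items12288 12288 facts_ok12288 j h (lt_of_lt_of_eq hj (by decide +kernel))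
theorem facts_ok_upto13312 : ∀ j < 13312, ∃ item, checkFact facts 18364758544493064720 words 576 subs 15857 j item = true := fun j hj =>
  (Nat.lt_or_ge j 12800).elim (facts_ok_upto12800 j) fun h =>
    checkFacts_spec _ _ _ _ _ _ items12800 12800 facts_ok12800 j h (lt_of_lt_of_eq hj (by decide +kernel))
theorem facts_ok_upto13824 : ∀ j < 13824, ∃ item, checkFact facts 18364758544493064720 words 576 subs 15857 j item = true := fun j hj =>
  (Nat.lt_or_ge j 13312).elim (facts_ok_upto13312 j) fun h =>
    checkFacts_spec _ _ _ _ _ _ items13312 13312 facts_ok13312 j h (lt_of_lt_of_eq hj (by decide +kernel))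
theorem facts_ok_upto14336 : ∀ j < 14336, ∃ item, checkFact facts 18364758544493064720 words 576 subs 15857 j item = true := fun j hj =>
  (Nat.lt_or_ge j 13824).elim (facts_ok_upto13824 j) fun h =>
    checkFacts_spec _ _ _ _ _ _ items13824 13824 facts_ok13824 j h (lt_of_lt_of_eq hj (by decide +kernel))
theorem facts_ok_upto14848 : ∀ j < 14848, ∃ item, checkFact facts 18364758544493064720 words 576 subs 15857 j item = true := fun j hj =>
  (Nat.lt_or_ge j 14336).elim (facts_ok_upto14336 j) fun h =>
    checkFacts_spec _ _ _ _ _ _ items14336 14336 facts_ok14336 j h (lt_of_lt_of_eq hj (by decide +kernel))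
theorem facts_ok_upto15360 : ∀ j < 15360, ∃ item, checkFact facts 18364758544493064720 words 576 subs 15857 j item = true := fun j hj =>
  (Nat.lt_or_ge j 14848).elim (facts_ok_upto14848 j) fun h =>
    checkFacts_spec _ _ _ _ _ _ items14848 14848 facts_ok14848 j h (lt_of_lt_of_eq hj (by decide +kernel))
theorem facts_ok_upto15872 : ∀ j < 15872, ∃ item, checkFact facts 18364758544493064720 words 576 subs 15857 j item = true := fun j hj =>
  (Nat.lt_or_ge j 15360).elim (facts_ok_upto15360 j) fun h =>
    checkFacts_spec _ _ _ _ _ _ items15360 15360 facts_ok15360 j h (lt_of_lt_of_eq hj (by decide +kernel))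
theorem facts_ok_upto16384 : ∀ j < 16384, ∃ item, checkFact facts 18364758544493064720 words 576 subs 15857 j item = true := fun j hj =>
  (Nat.lt_or_ge j 15872).elim (facts_ok_upto15872 j) fun h =>
    checkFacts_spec _ _ _ _ _ _ items15872 15872 facts_ok15872 j h (lt_of_lt_of_eq hj (by decide +kernel))
theorem facts_ok_upto16896 : ∀ j < 16896, ∃ item, checkFact facts 18364758544493064720 words 576 subs 15857 j item = true := fun j hj =>
  (Nat.lt_or_ge j 16384).elim (facts_ok_upto16384 j) fun h =>
    checkFacts_spec _ _ _ _ _ _ items16384 16384 facts_ok16384 j h (lt_of_lt_of_eq hj (by decide +kernel))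
theorem facts_ok_upto17408 : ∀ j < 17408, ∃ item, checkFact facts 18364758544493064720 words 576 subs 15857 j item = true := fun j hj =>
  (Nat.lt_or_ge j 16896).elim (facts_ok_upto16896 j) fun h =>
    checkFacts_spec _ _ _ _ _ _ items16896 16896 facts_ok16896 j h (lt_of_lt_of_eq hj (by decide +kernel))
theorem facts_ok_upto17920 : ∀ j < 17920, ∃ item, checkFact facts 18364758544493064720 words 576 subs 15857 j item = true := fun j hj =>
  (Nat.lt_or_ge j 17408).elim (facts_ok_upto17408 j) fun h =>
    checkFacts_spec _ _ _ _ _ _ items17408 17408 facts_ok17408 j h (lt_of_lt_of_eq hj (by decide +kernel))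
theorem facts_ok_upto18432 : ∀ j < 18432, ∃ item, checkFact facts 18364758544493064720 words 576 subs 15857 j item = true := fun j hj =>
  (Nat.lt_or_ge j 17920).elim (facts_ok_upto17920 j) fun h =>
    checkFacts_spec _ _ _ _ _ _ items17920 17920 facts_ok17920 j h (lt_of_lt_of_eq hj (by decide +kernel))
theorem facts_ok_upto18944 : ∀ j < 18944, ∃ item, checkFact facts 18364758544493064720 words 576 subs 15857 j item = true := fun j hj =>
  (Nat.lt_or_ge j 18432).elim (facts_ok_upto18432 j) fun h =>
    checkFacts_spec _ _ _ _ _ _ items18432 18432 facts_ok18432 j h (lt_of_lt_of_eq hj (by decide +kernel))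
theorem facts_ok_upto19456 : ∀ j < 19456, ∃ item, checkFact facts 18364758544493064720 words 576 subs 15857 j item = true := fun j hj =>
  (Nat.lt_or_ge j 18944).elim (facts_ok_upto18944 j) fun h =>
    checkFacts_spec _ _ _ _ _ _ items18944 18944 facts_ok18944 j h (lt_of_lt_of_eq hj (by decide +kernel))
theorem facts_ok_upto19968 : ∀ j < 19968, ∃ item, checkFact facts 18364758544493064720 words 576 subs 15857 j item = true := fun j hj =>
  (Nat.lt_or_ge j 19456).elim (facts_ok_upto19456 j) fun h =>
    checkFacts_spec _ _ _ _ _ _ items19456 19456 facts_ok19456 j h (lt_of_lt_of_eq hj (by decide +kernel))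
theorem facts_ok_upto20480 : ∀ j < 20480, ∃ item, checkFact facts 18364758544493064720 words 576 subs 15857 j item = true := fun j hj =>
  (Nat.lt_or_ge j 19968).elim (facts_ok_upto19968 j) fun h =>
    checkFacts_spec _ _ _ _ _ _ items19968 19968 facts_ok19968 j h (lt_of_lt_of_eq hj (by decide +kernel))
theorem facts_ok_upto20992 : ∀ j < 20992, ∃ item, checkFact facts 18364758544493064720 words 576 subs 15857 j item = true := fun j hj =>
  (Nat.lt_or_ge j 20480).elim (facts_ok_upto20480 j) fun h =>
    checkFacts_spec _ _ _ _ _ _ items20480 20480 facts_ok20480 j h (lt_of_lt_of_eq hj (by decide +kernel))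
theorem facts_ok_upto21504 : ∀ j < 21504, ∃ item, checkFact facts 18364758544493064720 words 576 subs 15857 j item = true := fun j hj =>
  (Nat.lt_or_ge j 20992).elim (facts_ok_upto20992 j) fun h =>
    checkFacts_spec _ _ _ _ _ _ items20992 20992 facts_ok20992 j h (lt_of_lt_of_eq hj (by decide +kernel))
theorem facts_ok_upto22016 : ∀ j < 22016, ∃ item, checkFact facts 18364758544493064720 words 576 subs 15857 j item = true := fun j hj =>
  (Nat.lt_or_ge j 21504).elim (facts_ok_upto21504 j) fun h =>
    checkFacts_spec _ _ _ _ _ _ items21504 21504 facts_ok21504 j h (lt_of_lt_of_eq hj (by decide +kernel))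
theorem facts_ok_upto22528 : ∀ j < 22528, ∃ item, checkFact facts 18364758544493064720 words 576 subs 15857 j item = true := fun j hj =>
  (Nat.lt_or_ge j 22016).elim (facts_ok_upto22016 j) fun h =>
    checkFacts_spec _ _ _ _ _ _ items22016 22016 facts_ok22016 j h (lt_of_lt_of_eq hj (by decide +kernel))
theorem facts_ok_upto23040 : ∀ j < 23040, ∃ item, checkFact facts 18364758544493064720 words 576 subs 15857 j item = true := fun j hj =>
  (Nat.lt_or_ge j 22528).elim (facts_ok_upto22528 j) fun h =>
    checkFacts_spec _ _ _ _ _ _ items22528 22528 facts_ok22528 j h (lt_of_lt_of_eq hj (by decide +kernel))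
theorem facts_ok_upto23552 : ∀ j < 23552, ∃ item, checkFact facts 18364758544493064720 words 576 subs 15857 j item = true := fun j hj =>
  (Nat.lt_or_ge j 23040).elim (facts_ok_upto23040 j) fun h =>
    checkFacts_spec _ _ _ _ _ _ items23040 23040 facts_ok23040 j h (lt_of_lt_of_eq hj (by decide +kernel))
theorem facts_ok_upto24064 : ∀ j < 24064, ∃ item, checkFact facts 18364758544493064720 words 576 subs 15857 j item = true := fun j hj =>
  (Nat.lt_or_ge j 23552).elim (facts_ok_upto23552 j) fun h =>
    checkFacts_spec _ _ _ _ _ _ items23552 23552 facts_ok23552 j h (lt_of_lt_of_eq hj (by decide +kernel))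
theorem facts_ok_upto24576 : ∀ j < 24576, ∃ item, checkFact facts 18364758544493064720 words 576 subs 15857 j item = true := fun j hj =>
  (Nat.lt_or_ge j 24064).elim (facts_ok_upto24064 j) fun h =>
    checkFacts_spec _ _ _ _ _ _ items24064 24064 facts_ok24064 j h (lt_of_lt_of_eq hj (by decide +kernel))
theorem facts_ok_upto25088 : ∀ j < 25088, ∃ item, checkFact facts 18364758544493064720 words 576 subs 15857 j item = true := fun j hj =>
  (Nat.lt_or_ge j 24576).elim (facts_ok_upto24576 j) fun h =>
    checkFacts_spec _ _ _ _ _ _ items24576 24576 facts_ok24576 j h (lt_of_lt_of_eq hj (by decide +kernel))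
theorem facts_ok_upto25600 : ∀ j < 25600, ∃ item, checkFact facts 18364758544493064720 words 576 subs 15857 j item = true := fun j hj =>
  (Nat.lt_or_ge j 25088).elim (facts_ok_upto25088 j) fun h =>
    checkFacts_spec _ _ _ _ _ _ items25088 25088 facts_ok25088 j h (lt_of_lt_of_eq hj (by decide +kernel))
theorem facts_ok_upto26112 : ∀ j < 26112, ∃ item, checkFact facts 18364758544493064720 words 576 subs 15857 j item = true := fun j hj =>
  (Nat.lt_or_ge j 25600).elim (facts_ok_upto25600 j) fun h =>
    checkFacts_spec _ _ _ _ _ _ items25600 25600 facts_ok25600 j h (lt_of_lt_of_eq hj (by decide +kernel))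
theorem facts_ok_upto26624 : ∀ j < 26624, ∃ item, checkFact facts 18364758544493064720 words 576 subs 15857 j item = true := fun j hj =>
  (Nat.lt_or_ge j 26112).elim (facts_ok_upto26112 j) fun h =>
    checkFacts_spec _ _ _ _ _ _ items26112 26112 facts_ok26112 j h (lt_of_lt_of_eq hj (by decide +kernel))
theorem facts_ok_upto27136 : ∀ j < 27136, ∃ item, checkFact facts 18364758544493064720 words 576 subs 15857 j item = true := fun j hj =>
  (Nat.lt_or_ge j 26624).elim (facts_ok_upto26624 j) fun h =>
    checkFacts_spec _ _ _ _ _ _ items26624 26624 facts_ok26624 j h (lt_of_lt_of_eq hj (by decide +kernel))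
theorem facts_ok_upto27648 : ∀ j < 27648, ∃ item, checkFact facts 18364758544493064720 words 576 subs 15857 j item = true := fun j hj =>
  (Nat.lt_or_ge j 27136).elim (facts_ok_upto27136 j) fun h =>
    checkFacts_spec _ _ _ _ _ _ items27136 27136 facts_ok27136 j h (lt_of_lt_of_eq hj (by decide +kernel))
theorem facts_ok_upto28160 : ∀ j < 28160, ∃ item, checkFact facts 18364758544493064720 words 576 subs 15857 j item = true := fun j hj =>
  (Nat.lt_or_ge j 27648).elim (facts_ok_upto27648 j) fun h =>
    checkFacts_spec _ _ _ _ _ _ items27648 27648 facts_ok27648 j h (lt_of_lt_of_eq hj (by decide +kernel))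
theorem facts_ok_upto28672 : ∀ j < 28672, ∃ item, checkFact facts 18364758544493064720 words 576 subs 15857 j item = true := fun j hj =>
  (Nat.lt_or_ge j 28160).elim (facts_ok_upto28160 j) fun h =>
    checkFacts_spec _ _ _ _ _ _ items28160 28160 facts_ok28160 j h (lt_of_lt_of_eq hj (by decide +kernel))
theorem facts_ok_upto29184 : ∀ j < 29184, ∃ item, checkFact facts 18364758544493064720 words 576 subs 15857 j item = true := fun j hj =>
  (Nat.lt_or_ge j 28672).elim (facts_ok_upto28672 j) fun h =>
    checkFacts_spec _ _ _ _ _ _ items28672 28672 facts_ok28672 j h (lt_of_lt_of_eq hj (by decide +kernel))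
theorem facts_ok_upto29696 : ∀ j < 29696, ∃ item, checkFact facts 18364758544493064720 words 576 subs 15857 j item = true := fun j hj =>
  (Nat.lt_or_ge j 29184).elim (facts_ok_upto29184 j) fun h =>
    checkFacts_spec _ _ _ _ _ _ items29184 29184 facts_ok29184 j h (lt_of_lt_of_eq hj (by decide +kernel))
theorem facts_ok_upto30208 : ∀ j < 30208, ∃ item, checkFact facts 18364758544493064720 words 576 subs 15857 j item = true := fun j hj =>
  (Nat.lt_or_ge j 29696).elim (facts_ok_upto29696 j) fun h =>
    checkFacts_spec _ _ _ _ _ _ items29696 29696 facts_ok29696 j h (lt_of_lt_of_eq hj (by decide +kernel))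
theorem facts_ok_upto30720 : ∀ j < 30720, ∃ item, checkFact facts 18364758544493064720 words 576 subs 15857 j item = true := fun j hj =>
  (Nat.lt_or_ge j 30208).elim (facts_ok_upto30208 j) fun h =>
    checkFacts_spec _ _ _ _ _ _ items30208 30208 facts_ok30208 j h (lt_of_lt_of_eq hj (by decide +kernel))
theorem facts_ok_upto31232 : ∀ j < 31232, ∃ item, checkFact facts 18364758544493064720 words 576 subs 15857 j item = true := fun j hj =>
  (Nat.lt_or_ge j 30720).elim (facts_ok_upto30720 j) fun h =>
    checkFacts_spec _ _ _ _ _ _ items30720 30720 facts_ok30720 j h (lt_of_lt_of_eq hj (by decide +kernel))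
theorem facts_ok_upto31744 : ∀ j < 31744, ∃ item, checkFact facts 18364758544493064720 words 576 subs 15857 j item = true := fun j hj =>
  (Nat.lt_or_ge j 31232).elim (facts_ok_upto31232 j) fun h =>
    checkFacts_spec _ _ _ _ _ _ items31232 31232 facts_ok31232 j h (lt_of_lt_of_eq hj (by decide +kernel))
theorem facts_ok_upto32256 : ∀ j < 32256, ∃ item, checkFact facts 18364758544493064720 words 576 subs 15857 j item = true := fun j hj =>
  (Nat.lt_or_ge j 31744).elim (facts_ok_upto31744 j) fun h =>
    checkFacts_spec _ _ _ _ _ _ items31744 31744 facts_ok31744 j h (lt_of_lt_of_eq hj (by decide +kernel))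
theorem facts_ok_upto32768 : ∀ j < 32768, ∃ item, checkFact facts 18364758544493064720 words 576 subs 15857 j item = true := fun j hj =>
  (Nat.lt_or_ge j 32256).elim (facts_ok_upto32256 j) fun h =>
    checkFacts_spec _ _ _ _ _ _ items32256 32256 facts_ok32256 j h (lt_of_lt_of_eq hj (by decide +kernel))
theorem facts_ok_upto33280 : ∀ j < 33280, ∃ item, checkFact facts 18364758544493064720 words 576 subs 15857 j item = true := fun j hj =>
  (Nat.lt_or_ge j 32768).elim (facts_ok_upto32768 j) fun h =>
    checkFacts_spec _ _ _ _ _ _ items32768 32768 facts_ok32768 j h (lt_of_lt_of_eq hj (by decide +kernel))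
theorem facts_ok_upto33792 : ∀ j < 33792, ∃ item, checkFact facts 18364758544493064720 words 576 subs 15857 j item = true := fun j hj =>
  (Nat.lt_or_ge j 33280).elim (facts_ok_upto33280 j) fun h =>
    checkFacts_spec _ _ _ _ _ _ items33280 33280 facts_ok33280 j h (lt_of_lt_of_eq hj (by decide +kernel))
theorem facts_ok_upto34304 : ∀ j < 34304, ∃ item, checkFact facts 18364758544493064720 words 576 subs 15857 j item = true := fun j hj =>
  (Nat.lt_or_ge j 33792).elim (facts_ok_upto33792 j) fun h =>
    checkFacts_spec _ _ _ _ _ _ items33792 33792 facts_ok33792 j h (lt_of_lt_of_eq hj (by decide +kernel))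
theorem facts_ok_upto34816 : ∀ j < 34816, ∃ item, checkFact facts 18364758544493064720 words 576 subs 15857 j item = true := fun j hj =>
  (Nat.lt_or_ge j 34304).elim (facts_ok_upto34304 j) fun h =>
    checkFacts_spec _ _ _ _ _ _ items34304 34304 facts_ok34304 j h (lt_of_lt_of_eq hj (by decide +kernel))
theorem facts_ok_upto35328 : ∀ j < 35328, ∃ item, checkFact facts 18364758544493064720 words 576 subs 15857 j item = true := fun j hj =>
  (Nat.lt_or_ge j 34816).elim (facts_ok_upto34816 j) fun h =>
    checkFacts_spec _ _ _ _ _ _ items34816 34816 facts_ok34816 j h (lt_of_lt_of_eq hj (by decide +kernel))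
theorem facts_ok_upto35840 : ∀ j < 35840, ∃ item, checkFact facts 18364758544493064720 words 576 subs 15857 j item = true := fun j hj =>
  (Nat.lt_or_ge j 35328).elim (facts_ok_upto35328 j) fun h =>
    checkFacts_spec _ _ _ _ _ _ items35328 35328 facts_ok35328 j h (lt_of_lt_of_eq hj (by decide +kernel))
theorem facts_ok_upto36352 : ∀ j < 36352, ∃ item, checkFact facts 18364758544493064720 words 576 subs 15857 j item = true := fun j hj =>
  (Nat.lt_or_ge j 35840).elim (facts_ok_upto35840 j) fun h =>
    checkFacts_spec _ _ _ _ _ _ items35840 35840 facts_ok35840 j h (lt_of_lt_of_eq hj (by decide +kernel))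
theorem facts_ok_upto36864 : ∀ j < 36864, ∃ item, checkFact facts 18364758544493064720 words 576 subs 15857 j item = true := fun j hj =>
  (Nat.lt_or_ge j 36352).elim (facts_ok_upto36352 j) fun h =>
    checkFacts_spec _ _ _ _ _ _ items36352 36352 facts_ok36352 j h (lt_of_lt_of_eq hj (by decide +kernel))
theorem facts_ok_upto37376 : ∀ j < 37376, ∃ item, checkFact facts 18364758544493064720 words 576 subs 15857 j item = true := fun j hj =>
  (Nat.lt_or_ge j 36864).elim (facts_ok_upto36864 j) fun h =>
    checkFacts_spec _ _ _ _ _ _ items36864 36864 facts_ok36864 j h (lt_of_lt_of_eq hj (by decide +kernel))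
theorem facts_ok_upto37888 : ∀ j < 37888, ∃ item, checkFact facts 18364758544493064720 words 576 subs 15857 j item = true := fun j hj =>
  (Nat.lt_or_ge j 37376).elim (facts_ok_upto37376 j) fun h =>
    checkFacts_spec _ _ _ _ _ _ items37376 37376 facts_ok37376 j h (lt_of_lt_of_eq hj (by decide +kernel))
theorem facts_ok_upto38400 : ∀ j < 38400, ∃ item, checkFact facts 18364758544493064720 words 576 subs 15857 j item = true := fun j hj =>
  (Nat.lt_or_ge j 37888).elim (facts_ok_upto37888 j) fun h =>
    checkFacts_spec _ _ _ _ _ _ items37888 37888 facts_ok37888 j h (lt_of_lt_of_eq hj (by decide +kernel))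
theorem facts_ok_upto38912 : ∀ j < 38912, ∃ item, checkFact facts 18364758544493064720 words 576 subs 15857 j item = true := fun j hj =>
  (Nat.lt_or_ge j 38400).elim (facts_ok_upto38400 j) fun h =>
    checkFacts_spec _ _ _ _ _ _ items38400 38400 facts_ok38400 j h (lt_of_lt_of_eq hj (by decide +kernel))
theorem facts_ok_upto39424 : ∀ j < 39424, ∃ item, checkFact facts 18364758544493064720 words 576 subs 15857 j item = true := fun j hj =>
  (Nat.lt_or_ge j 38912).elim (facts_ok_upto38912 j) fun h =>
    checkFacts_spec _ _ _ _ _ _ items38912 38912 facts_ok38912 j h (lt_of_lt_of_eq hj (by decide +kernel))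
theorem facts_ok_upto39936 : ∀ j < 39936, ∃ item, checkFact facts 18364758544493064720 words 576 subs 15857 j item = true := fun j hj =>
  (Nat.lt_or_ge j 39424).elim (facts_ok_upto39424 j) fun h =>
    checkFacts_spec _ _ _ _ _ _ items39424 39424 facts_ok39424 j h (lt_of_lt_of_eq hj (by decide +kernel))
theorem facts_ok_upto40448 : ∀ j < 40448, ∃ item, checkFact facts 18364758544493064720 words 576 subs 15857 j item = true := fun j hj =>
  (Nat.lt_or_ge j 39936).elim (facts_ok_upto39936 j) fun h =>
    checkFacts_spec _ _ _ _ _ _ items39936 39936 facts_ok39936 j h (lt_of_lt_of_eq hj (by decide +kernel))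
theorem facts_ok_upto40960 : ∀ j < 40960, ∃ item, checkFact facts 18364758544493064720 words 576 subs 15857 j item = true := fun j hj =>
  (Nat.lt_or_ge j 40448).elim (facts_ok_upto40448 j) fun h =>
    checkFacts_spec _ _ _ _ _ _ items40448 40448 facts_ok40448 j h (lt_of_lt_of_eq hj (by decide +kernel))
theorem facts_ok_upto41472 : ∀ j < 41472, ∃ item, checkFact facts 18364758544493064720 words 576 subs 15857 j item = true := fun j hj =>
  (Nat.lt_or_ge j 40960).elim (facts_ok_upto40960 j) fun h =>
    checkFacts_spec _ _ _ _ _ _ items40960 40960 facts_ok40960 j h (lt_of_lt_of_eq hj (by decide +kernel))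
theorem facts_ok_upto41984 : ∀ j < 41984, ∃ item, checkFact facts 18364758544493064720 words 576 subs 15857 j item = true := fun j hj =>
  (Nat.lt_or_ge j 41472).elim (facts_ok_upto41472 j) fun h =>
    checkFacts_spec _ _ _ _ _ _ items41472 41472 facts_ok41472 j h (lt_of_lt_of_eq hj (by decide +kernel))
theorem facts_ok_upto42496 : ∀ j < 42496, ∃ item, checkFact facts 18364758544493064720 words 576 subs 15857 j item = true := fun j hj =>
  (Nat.lt_or_ge j 41984).elim (facts_ok_upto41984 j) fun h =>
    checkFacts_spec _ _ _ _ _ _ items41984 41984 facts_ok41984 j h (lt_of_lt_of_eq hj (by decide +kernel))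
theorem facts_ok_upto43008 : ∀ j < 43008, ∃ item, checkFact facts 18364758544493064720 words 576 subs 15857 j item = true := fun j hj =>
  (Nat.lt_or_ge j 42496).elim (facts_ok_upto42496 j) fun h =>
    checkFacts_spec _ _ _ _ _ _ items42496 42496 facts_ok42496 j h (lt_of_lt_of_eq hj (by decide +kernel))
theorem facts_ok_upto43520 : ∀ j < 43520, ∃ item, checkFact facts 18364758544493064720 words 576 subs 15857 j item = true := fun j hj =>
  (Nat.lt_or_ge j 43008).elim (facts_ok_upto43008 j) fun h =>
    checkFacts_spec _ _ _ _ _ _ items43008 43008 facts_ok43008 j h (lt_of_lt_of_eq hj (by decide +kernel))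
theorem facts_ok_upto44032 : ∀ j < 44032, ∃ item, checkFact facts 18364758544493064720 words 576 subs 15857 j item = true := fun j hj =>
  (Nat.lt_or_ge j 43520).elim (facts_ok_upto43520 j) fun h =>
    checkFacts_spec _ _ _ _ _ _ items43520 43520 facts_ok43520 j h (lt_of_lt_of_eq hj (by decide +kernel))
theorem facts_ok_upto44544 : ∀ j < 44544, ∃ item, checkFact facts 18364758544493064720 words 576 subs 15857 j item = true := fun j hj =>
  (Nat.lt_or_ge j 44032).elim (facts_ok_upto44032 j) fun h =>
    checkFacts_spec _ _ _ _ _ _ items44032 44032 facts_ok44032 j h (lt_of_lt_of_eq hj (by decide +kernel))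
theorem facts_ok_upto45056 : ∀ j < 45056, ∃ item, checkFact facts 18364758544493064720 words 576 subs 15857 j item = true := fun j hj =>
  (Nat.lt_or_ge j 44544).elim (facts_ok_upto44544 j) fun h =>
    checkFacts_spec _ _ _ _ _ _ items44544 44544 facts_ok44544 j h (lt_of_lt_of_eq hj (by decide +kernel))
theorem facts_ok_upto45568 : ∀ j < 45568, ∃ item, checkFact facts 18364758544493064720 words 576 subs 15857 j item = true := fun j hj =>
  (Nat.lt_or_ge j 45056).elim (facts_ok_upto45056 j) fun h =>
    checkFacts_spec _ _ _ _ _ _ items45056 45056 facts_ok45056 j h (lt_of_lt_of_eq hj (by decide +kernel))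
theorem facts_ok_upto46080 : ∀ j < 46080, ∃ item, checkFact facts 18364758544493064720 words 576 subs 15857 j item = true := fun j hj =>
  (Nat.lt_or_ge j 45568).elim (facts_ok_upto45568 j) fun h =>
    checkFacts_spec _ _ _ _ _ _ items45568 45568 facts_ok45568 j h (lt_of_lt_of_eq hj (by decide +kernel))
theorem facts_ok_upto46592 : ∀ j < 46592, ∃ item, checkFact facts 18364758544493064720 words 576 subs 15857 j item = true := fun j hj =>
  (Nat.lt_or_ge j 46080).elim (facts_ok_upto46080 j) fun h =>
    checkFacts_spec _ _ _ _ _ _ items46080 46080 facts_ok46080 j h (lt_of_lt_of_eq hj (by decide +kernel))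
theorem facts_ok_upto47104 : ∀ j < 47104, ∃ item, checkFact facts 18364758544493064720 words 576 subs 15857 j item = true := fun j hj =>
  (Nat.lt_or_ge j 46592).elim (facts_ok_upto46592 j) fun h =>
    checkFacts_spec _ _ _ _ _ _ items46592 46592 facts_ok46592 j h (lt_of_lt_of_eq hj (by decide +kernel))
theorem facts_ok_upto47616 : ∀ j < 47616, ∃ item, checkFact facts 18364758544493064720 words 576 subs 15857 j item = true := fun j hj =>
  (Nat.lt_or_ge j 47104).elim (facts_ok_upto47104 j) fun h =>
    checkFacts_spec _ _ _ _ _ _ items47104 47104 facts_ok47104 j h (lt_of_lt_of_eq hj (by decide +kernel))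
theorem facts_ok_upto48128 : ∀ j < 48128, ∃ item, checkFact facts 18364758544493064720 words 576 subs 15857 j item = true := fun j hj =>
  (Nat.lt_or_ge j 47616).elim (facts_ok_upto47616 j) fun h =>
    checkFacts_spec _ _ _ _ _ _ items47616 47616 facts_ok47616 j h (lt_of_lt_of_eq hj (by decide +kernel))
theorem facts_ok_upto48640 : ∀ j < 48640, ∃ item, checkFact facts 18364758544493064720 words 576 subs 15857 j item = true := fun j hj =>
  (Nat.lt_or_ge j 48128).elim (facts_ok_upto48128 j) fun h =>
    checkFacts_spec _ _ _ _ _ _ items48128 48128 facts_ok48128 j h (lt_of_lt_of_eq hj (by decide +kernel))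
theorem facts_ok_upto49152 : ∀ j < 49152, ∃ item, checkFact facts 18364758544493064720 words 576 subs 15857 j item = true := fun j hj =>
  (Nat.lt_or_ge j 48640).elim (facts_ok_upto48640 j) fun h =>
    checkFacts_spec _ _ _ _ _ _ items48640 48640 facts_ok48640 j h (lt_of_lt_of_eq hj (by decide +kernel))
theorem facts_ok_upto49664 : ∀ j < 49664, ∃ item, checkFact facts 18364758544493064720 words 576 subs 15857 j item = true := fun j hj =>
  (Nat.lt_or_ge j 49152).elim (facts_ok_upto49152 j) fun h =>
    checkFacts_spec _ _ _ _ _ _ items49152 49152 facts_ok49152 j h (lt_of_lt_of_eq hj (by decide +kernel))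
theorem facts_ok_upto50176 : ∀ j < 50176, ∃ item, checkFact facts 18364758544493064720 words 576 subs 15857 j item = true := fun j hj =>
  (Nat.lt_or_ge j 49664).elim (facts_ok_upto49664 j) fun h =>
    checkFacts_spec _ _ _ _ _ _ items49664 49664 facts_ok49664 j h (lt_of_lt_of_eq hj (by decide +kernel))
theorem facts_ok_upto50688 : ∀ j < 50688, ∃ item, checkFact facts 18364758544493064720 words 576 subs 15857 j item = true := fun j hj =>
  (Nat.lt_or_ge j 50176).elim (facts_ok_upto50176 j) fun h =>
    checkFacts_spec _ _ _ _ _ _ items50176 50176 facts_ok50176 j h (lt_of_lt_of_eq hj (by decide +kernel))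
theorem facts_ok_upto51200 : ∀ j < 51200, ∃ item, checkFact facts 18364758544493064720 words 576 subs 15857 j item = true := fun j hj =>
  (Nat.lt_or_ge j 50688).elim (facts_ok_upto50688 j) fun h =>
    checkFacts_spec _ _ _ _ _ _ items50688 50688 facts_ok50688 j h (lt_of_lt_of_eq hj (by decide +kernel))
theorem facts_ok_upto51712 : ∀ j < 51712, ∃ item, checkFact facts 18364758544493064720 words 576 subs 15857 j item = true := fun j hj =>
  (Nat.lt_or_ge j 51200).elim (facts_ok_upto51200 j) fun h =>
    checkFacts_spec _ _ _ _ _ _ items51200 51200 facts_ok51200 j h (lt_of_lt_of_eq hj (by decide +kernel))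
theorem facts_ok_upto52224 : ∀ j < 52224, ∃ item, checkFact facts 18364758544493064720 words 576 subs 15857 j item = true := fun j hj =>
  (Nat.lt_or_ge j 51712).elim (facts_ok_upto51712 j) fun h =>
    checkFacts_spec _ _ _ _ _ _ items51712 51712 facts_ok51712 j h (lt_of_lt_of_eq hj (by decide +kernel))
theorem facts_ok_upto52736 : ∀ j < 52736, ∃ item, checkFact facts 18364758544493064720 words 576 subs 15857 j item = true := fun j hj =>
  (Nat.lt_or_ge j 52224).elim (facts_ok_upto52224 j) fun h =>
    checkFacts_spec _ _ _ _ _ _ items52224 52224 facts_ok52224 j h (lt_of_lt_of_eq hj (by decide +kernel))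
theorem facts_ok_upto53248 : ∀ j < 53248, ∃ item, checkFact facts 18364758544493064720 words 576 subs 15857 j item = true := fun j hj =>
  (Nat.lt_or_ge j 52736).elim (facts_ok_upto52736 j) fun h =>
    checkFacts_spec _ _ _ _ _ _ items52736 52736 facts_ok52736 j h (lt_of_lt_of_eq hj (by decide +kernel))
theorem facts_ok_upto53760 : ∀ j < 53760, ∃ item, checkFact facts 18364758544493064720 words 576 subs 15857 j item = true := fun j hj =>
  (Nat.lt_or_ge j 53248).elim (facts_ok_upto53248 j) fun h =>
    checkFacts_spec _ _ _ _ _ _ items53248 53248 facts_ok53248 j h (lt_of_lt_of_eq hj (by decide +kernel))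
theorem facts_ok_upto54272 : ∀ j < 54272, ∃ item, checkFact facts 18364758544493064720 words 576 subs 15857 j item = true := fun j hj =>
  (Nat.lt_or_ge j 53760).elim (facts_ok_upto53760 j) fun h =>
    checkFacts_spec _ _ _ _ _ _ items53760 53760 facts_ok53760 j h (lt_of_lt_of_eq hj (by decide +kernel))
theorem facts_ok_upto54784 : ∀ j < 54784, ∃ item, checkFact facts 18364758544493064720 words 576 subs 15857 j item = true := fun j hj =>
  (Nat.lt_or_ge j 54272).elim (facts_ok_upto54272 j) fun h =>
    checkFacts_spec _ _ _ _ _ _ items54272 54272 facts_ok54272 j h (lt_of_lt_of_eq hj (by decide +kernel))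
theorem facts_ok_upto55296 : ∀ j < 55296, ∃ item, checkFact facts 18364758544493064720 words 576 subs 15857 j item = true := fun j hj =>
  (Nat.lt_or_ge j 54784).elim (facts_ok_upto54784 j) fun h =>
    checkFacts_spec _ _ _ _ _ _ items54784 54784 facts_ok54784 j h (lt_of_lt_of_eq hj (by decide +kernel))
theorem facts_ok_upto55808 : ∀ j < 55808, ∃ item, checkFact facts 18364758544493064720 words 576 subs 15857 j item = true := fun j hj =>
  (Nat.lt_or_ge j 55296).elim (facts_ok_upto55296 j) fun h =>
    checkFacts_spec _ _ _ _ _ _ items55296 55296 facts_ok55296 j h (lt_of_lt_of_eq hj (by decide +kernel))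
theorem facts_ok_upto56320 : ∀ j < 56320, ∃ item, checkFact facts 18364758544493064720 words 576 subs 15857 j item = true := fun j hj =>
  (Nat.lt_or_ge j 55808).elim (facts_ok_upto55808 j) fun h =>
    checkFacts_spec _ _ _ _ _ _ items55808 55808 facts_ok55808 j h (lt_of_lt_of_eq hj (by decide +kernel))
theorem facts_ok_upto56832 : ∀ j < 56832, ∃ item, checkFact facts 18364758544493064720 words 576 subs 15857 j item = true := fun j hj =>
  (Nat.lt_or_ge j 56320).elim (facts_ok_upto56320 j) fun h =>
    checkFacts_spec _ _ _ _ _ _ items56320 56320 facts_ok56320 j h (lt_of_lt_of_eq hj (by decide +kernel))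
theorem facts_ok_upto57344 : ∀ j < 57344, ∃ item, checkFact facts 18364758544493064720 words 576 subs 15857 j item = true := fun j hj =>
  (Nat.lt_or_ge j 56832).elim (facts_ok_upto56832 j) fun h =>
    checkFacts_spec _ _ _ _ _ _ items56832 56832 facts_ok56832 j h (lt_of_lt_of_eq hj (by decide +kernel))
theorem facts_ok_upto57856 : ∀ j < 57856, ∃ item, checkFact facts 18364758544493064720 words 576 subs 15857 j item = true := fun j hj =>
  (Nat.lt_or_ge j 57344).elim (facts_ok_upto57344 j) fun h =>
    checkFacts_spec _ _ _ _ _ _ items57344 57344 facts_ok57344 j h (lt_of_lt_of_eq hj (by decide +kernel))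
theorem facts_ok_upto58368 : ∀ j < 58368, ∃ item, checkFact facts 18364758544493064720 words 576 subs 15857 j item = true := fun j hj =>
  (Nat.lt_or_ge j 57856).elim (facts_ok_upto57856 j) fun h =>
    checkFacts_spec _ _ _ _ _ _ items57856 57856 facts_ok57856 j h (lt_of_lt_of_eq hj (by decide +kernel))
theorem facts_ok_upto58880 : ∀ j < 58880, ∃ item, checkFact facts 18364758544493064720 words 576 subs 15857 j item = true := fun j hj =>
  (Nat.lt_or_ge j 58368).elim (facts_ok_upto58368 j) fun h =>
    checkFacts_spec _ _ _ _ _ _ items58368 58368 facts_ok58368 j h (lt_of_lt_of_eq hj (by decide +kernel))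
theorem facts_ok_upto59392 : ∀ j < 59392, ∃ item, checkFact facts 18364758544493064720 words 576 subs 15857 j item = true := fun j hj =>
  (Nat.lt_or_ge j 58880).elim (facts_ok_upto58880 j) fun h =>
    checkFacts_spec _ _ _ _ _ _ items58880 58880 facts_ok58880 j h (lt_of_lt_of_eq hj (by decide +kernel))
theorem facts_ok_upto59904 : ∀ j < 59904, ∃ item, checkFact facts 18364758544493064720 words 576 subs 15857 j item = true := fun j hj =>
  (Nat.lt_or_ge j 59392).elim (facts_ok_upto59392 j) fun h =>
    checkFacts_spec _ _ _ _ _ _ items59392 59392 facts_ok59392 j h (lt_of_lt_of_eq hj (by decide +kernel))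
theorem facts_ok_upto60416 : ∀ j < 60416, ∃ item, checkFact facts 18364758544493064720 words 576 subs 15857 j item = true := fun j hj =>
  (Nat.lt_or_ge j 59904).elim (facts_ok_upto59904 j) fun h =>
    checkFacts_spec _ _ _ _ _ _ items59904 59904 facts_ok59904 j h (lt_of_lt_of_eq hj (by decide +kernel))
theorem facts_ok_upto60928 : ∀ j < 60928, ∃ item, checkFact facts 18364758544493064720 words 576 subs 15857 j item = true := fun j hj =>
  (Nat.lt_or_ge j 60416).elim (facts_ok_upto60416 j) fun h =>
    checkFacts_spec _ _ _ _ _ _ items60416 60416 facts_ok60416 j h (lt_of_lt_of_eq hj (by decide +kernel))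
theorem facts_ok_upto61440 : ∀ j < 61440, ∃ item, checkFact facts 18364758544493064720 words 576 subs 15857 j item = true := fun j hj =>
  (Nat.lt_or_ge j 60928).elim (facts_ok_upto60928 j) fun h =>
    checkFacts_spec _ _ _ _ _ _ items60928 60928 facts_ok60928 j h (lt_of_lt_of_eq hj (by decide +kernel))
theorem facts_ok_upto61952 : ∀ j < 61952, ∃ item, checkFact facts 18364758544493064720 words 576 subs 15857 j item = true := fun j hj =>
  (Nat.lt_or_ge j 61440).elim (facts_ok_upto61440 j) fun h =>
    checkFacts_spec _ _ _ _ _ _ items61440 61440 facts_ok61440 j h (lt_of_lt_of_eq hj (by decide +kernel))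
theorem facts_ok_upto62464 : ∀ j < 62464, ∃ item, checkFact facts 18364758544493064720 words 576 subs 15857 j item = true := fun j hj =>
  (Nat.lt_or_ge j 61952).elim (facts_ok_upto61952 j) fun h =>
    checkFacts_spec _ _ _ _ _ _ items61952 61952 facts_ok61952 j h (lt_of_lt_of_eq hj (by decide +kernel))
theorem facts_ok_upto62976 : ∀ j < 62976, ∃ item, checkFact facts 18364758544493064720 words 576 subs 15857 j item = true := fun j hj =>
  (Nat.lt_or_ge j 62464).elim (facts_ok_upto62464 j) fun h =>
    checkFacts_spec _ _ _ _ _ _ items62464 62464 facts_ok62464 j h (lt_of_lt_of_eq hj (by decide +kernel))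
theorem facts_ok_upto63488 : ∀ j < 63488, ∃ item, checkFact facts 18364758544493064720 words 576 subs 15857 j item = true := fun j hj =>
  (Nat.lt_or_ge j 62976).elim (facts_ok_upto62976 j) fun h =>
    checkFacts_spec _ _ _ _ _ _ items62976 62976 facts_ok62976 j h (lt_of_lt_of_eq hj (by decide +kernel))
theorem facts_ok_upto64000 : ∀ j < 64000, ∃ item, checkFact facts 18364758544493064720 words 576 subs 15857 j item = true := fun j hj =>
  (Nat.lt_or_ge j 63488).elim (facts_ok_upto63488 j) fun h =>
    checkFacts_spec _ _ _ _ _ _ items63488 63488 facts_ok63488 j h (lt_of_lt_of_eq hj (by decide +kernel))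
theorem facts_ok_upto64512 : ∀ j < 64512, ∃ item, checkFact facts 18364758544493064720 words 576 subs 15857 j item = true := fun j hj =>
  (Nat.lt_or_ge j 64000).elim (facts_ok_upto64000 j) fun h =>
    checkFacts_spec _ _ _ _ _ _ items64000 64000 facts_ok64000 j h (lt_of_lt_of_eq hj (by decide +kernel))
theorem facts_ok_upto65024 : ∀ j < 65024, ∃ item, checkFact facts 18364758544493064720 words 576 subs 15857 j item = true := fun j hj =>
  (Nat.lt_or_ge j 64512).elim (facts_ok_upto64512 j) fun h =>
    checkFacts_spec _ _ _ _ _ _ items64512 64512 facts_ok64512 j h (lt_of_lt_of_eq hj (by decide +kernel))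
theorem facts_ok_upto65536 : ∀ j < 65536, ∃ item, checkFact facts 18364758544493064720 words 576 subs 15857 j item = true := fun j hj =>
  (Nat.lt_or_ge j 65024).elim (facts_ok_upto65024 j) fun h =>
    checkFacts_spec _ _ _ _ _ _ items65024 65024 facts_ok65024 j h (lt_of_lt_of_eq hj (by decide +kernel))
theorem facts_ok_upto66048 : ∀ j < 66048, ∃ item, checkFact facts 18364758544493064720 words 576 subs 15857 j item = true := fun j hj =>
  (Nat.lt_or_ge j 65536).elim (facts_ok_upto65536 j) fun h =>
    checkFacts_spec _ _ _ _ _ _ items65536 65536 facts_ok65536 j h (lt_of_lt_of_eq hj (by decide +kernel))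
theorem facts_ok_upto66560 : ∀ j < 66560, ∃ item, checkFact facts 18364758544493064720 words 576 subs 15857 j item = true := fun j hj =>
  (Nat.lt_or_ge j 66048).elim (facts_ok_upto66048 j) fun h =>
    checkFacts_spec _ _ _ _ _ _ items66048 66048 facts_ok66048 j h (lt_of_lt_of_eq hj (by decide +kernel))
theorem facts_ok_upto67072 : ∀ j < 67072, ∃ item, checkFact facts 18364758544493064720 words 576 subs 15857 j item = true := fun j hj =>
  (Nat.lt_or_ge j 66560).elim (facts_ok_upto66560 j) fun h =>
    checkFacts_spec _ _ _ _ _ _ items66560 66560 facts_ok66560 j h (lt_of_lt_of_eq hj (by decide +kernel))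
theorem facts_ok_upto67584 : ∀ j < 67584, ∃ item, checkFact facts 18364758544493064720 words 576 subs 15857 j item = true := fun j hj =>
  (Nat.lt_or_ge j 67072).elim (facts_ok_upto67072 j) fun h =>
    checkFacts_spec _ _ _ _ _ _ items67072 67072 facts_ok67072 j h (lt_of_lt_of_eq hj (by decide +kernel))
theorem facts_ok_upto68096 : ∀ j < 68096, ∃ item, checkFact facts 18364758544493064720 words 576 subs 15857 j item = true := fun j hj =>
  (Nat.lt_or_ge j 67584).elim (facts_ok_upto67584 j) fun h =>
    checkFacts_spec _ _ _ _ _ _ items67584 67584 facts_ok67584 j h (lt_of_lt_of_eq hj (by decide +kernel))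
theorem facts_ok_upto68608 : ∀ j < 68608, ∃ item, checkFact facts 18364758544493064720 words 576 subs 15857 j item = true := fun j hj =>
  (Nat.lt_or_ge j 68096).elim (facts_ok_upto68096 j) fun h =>
    checkFacts_spec _ _ _ _ _ _ items68096 68096 facts_ok68096 j h (lt_of_lt_of_eq hj (by decide +kernel))
theorem facts_ok_upto69120 : ∀ j < 69120, ∃ item, checkFact facts 18364758544493064720 words 576 subs 15857 j item = true := fun j hj =>
  (Nat.lt_or_ge j 68608).elim (facts_ok_upto68608 j) fun h =>
    checkFacts_spec _ _ _ _ _ _ items68608 68608 facts_ok68608 j h (lt_of_lt_of_eq hj (by decide +kernel))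
theorem facts_ok_upto69632 : ∀ j < 69632, ∃ item, checkFact facts 18364758544493064720 words 576 subs 15857 j item = true := fun j hj =>
  (Nat.lt_or_ge j 69120).elim (facts_ok_upto69120 j) fun h =>
    checkFacts_spec _ _ _ _ _ _ items69120 69120 facts_ok69120 j h (lt_of_lt_of_eq hj (by decide +kernel))
theorem facts_ok_upto70144 : ∀ j < 70144, ∃ item, checkFact facts 18364758544493064720 words 576 subs 15857 j item = true := fun j hj =>
  (Nat.lt_or_ge j 69632).elim (facts_ok_upto69632 j) fun h =>
    checkFacts_spec _ _ _ _ _ _ items69632 69632 facts_ok69632 j h (lt_of_lt_of_eq hj (by decide +kernel))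
theorem facts_ok_upto70656 : ∀ j < 70656, ∃ item, checkFact facts 18364758544493064720 words 576 subs 15857 j item = true := fun j hj =>
  (Nat.lt_or_ge j 70144).elim (facts_ok_upto70144 j) fun h =>
    checkFacts_spec _ _ _ _ _ _ items70144 70144 facts_ok70144 j h (lt_of_lt_of_eq hj (by decide +kernel))
theorem facts_ok_upto71168 : ∀ j < 71168, ∃ item, checkFact facts 18364758544493064720 words 576 subs 15857 j item = true := fun j hj =>
  (Nat.lt_or_ge j 70656).elim (facts_ok_upto70656 j) fun h =>
    checkFacts_spec _ _ _ _ _ _ items70656 70656 facts_ok70656 j h (lt_of_lt_of_eq hj (by decide +kernel))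
theorem facts_ok_upto71680 : ∀ j < 71680, ∃ item, checkFact facts 18364758544493064720 words 576 subs 15857 j item = true := fun j hj =>
  (Nat.lt_or_ge j 71168).elim (facts_ok_upto71168 j) fun h =>
    checkFacts_spec _ _ _ _ _ _ items71168 71168 facts_ok71168 j h (lt_of_lt_of_eq hj (by decide +kernel))
theorem facts_ok_upto72192 : ∀ j < 72192, ∃ item, checkFact facts 18364758544493064720 words 576 subs 15857 j item = true := fun j hj =>
  (Nat.lt_or_ge j 71680).elim (facts_ok_upto71680 j) fun h =>
    checkFacts_spec _ _ _ _ _ _ items71680 71680 facts_ok71680 j h (lt_of_lt_of_eq hj (by decide +kernel))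
theorem facts_ok_upto72704 : ∀ j < 72704, ∃ item, checkFact facts 18364758544493064720 words 576 subs 15857 j item = true := fun j hj =>
  (Nat.lt_or_ge j 72192).elim (facts_ok_upto72192 j) fun h =>
    checkFacts_spec _ _ _ _ _ _ items72192 72192 facts_ok72192 j h (lt_of_lt_of_eq hj (by decide +kernel))
theorem facts_ok_upto73216 : ∀ j < 73216, ∃ item, checkFact facts 18364758544493064720 words 576 subs 15857 j item = true := fun j hj =>
  (Nat.lt_or_ge j 72704).elim (facts_ok_upto72704 j) fun h =>
    checkFacts_spec _ _ _ _ _ _ items72704 72704 facts_ok72704 j h (lt_of_lt_of_eq hj (by decide +kernel))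
theorem facts_ok_upto73728 : ∀ j < 73728, ∃ item, checkFact facts 18364758544493064720 words 576 subs 15857 j item = true := fun j hj =>
  (Nat.lt_or_ge j 73216).elim (facts_ok_upto73216 j) fun h =>
    checkFacts_spec _ _ _ _ _ _ items73216 73216 facts_ok73216 j h (lt_of_lt_of_eq hj (by decide +kernel))
theorem facts_ok_upto74240 : ∀ j < 74240, ∃ item, checkFact facts 18364758544493064720 words 576 subs 15857 j item = true := fun j hj =>
  (Nat.lt_or_ge j 73728).elim (facts_ok_upto73728 j) fun h =>
    checkFacts_spec _ _ _ _ _ _ items73728 73728 facts_ok73728 j h (lt_of_lt_of_eq hj (by decide +kernel))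
theorem facts_ok_upto74752 : ∀ j < 74752, ∃ item, checkFact facts 18364758544493064720 words 576 subs 15857 j item = true := fun j hj =>
  (Nat.lt_or_ge j 74240).elim (facts_ok_upto74240 j) fun h =>
    checkFacts_spec _ _ _ _ _ _ items74240 74240 facts_ok74240 j h (lt_of_lt_of_eq hj (by decide +kernel))
theorem facts_ok_upto75264 : ∀ j < 75264, ∃ item, checkFact facts 18364758544493064720 words 576 subs 15857 j item = true := fun j hj =>
  (Nat.lt_or_ge j 74752).elim (facts_ok_upto74752 j) fun h =>
    checkFacts_spec _ _ _ _ _ _ items74752 74752 facts_ok74752 j h (lt_of_lt_of_eq hj (by decide +kernel))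
theorem facts_ok_upto75776 : ∀ j < 75776, ∃ item, checkFact facts 18364758544493064720 words 576 subs 15857 j item = true := fun j hj =>
  (Nat.lt_or_ge j 75264).elim (facts_ok_upto75264 j) fun h =>
    checkFacts_spec _ _ _ _ _ _ items75264 75264 facts_ok75264 j h (lt_of_lt_of_eq hj (by decide +kernel))
theorem facts_ok_upto75812 : ∀ j < 75812, ∃ item, checkFact facts 18364758544493064720 words 576 subs 15857 j item = true := fun j hj =>
  (Nat.lt_or_ge j 75776).elim (facts_ok_upto75776 j) fun h =>
    checkFacts_spec _ _ _ _ _ _ items75776 75776 facts_ok75776 j h (lt_of_lt_of_eq hj (by decide +kernel))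
theorem facts_ok : ∀ j < 75812, ∃ item, checkFact facts 18364758544493064720 words 576 subs 15857 j item = true := facts_ok_upto75812
theorem rows_0 : checkRows facts 18364758544493064720 lives entryFact table 14080 9 75812 1024 0 = true := by decide +kernel
theorem rows_1024 : checkRows facts 18364758544493064720 lives entryFact table 14080 9 75812 1024 1024 = true := by decide +kernel
theorem rows_2048 : checkRows facts 18364758544493064720 lives entryFact table 14080 9 75812 1024 2048 = true := by decide +kernel
theorem rows_3072 : checkRows facts 18364758544493064720 lives entryFact table 14080 9 75812 1024 3072 = true := by decide +kernel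
theorem rows_4096 : checkRows facts 18364758544493064720 lives entryFact table 14080 9 75812 1024 4096 = true := by decide +kernel
theorem rows_5120 : checkRows facts 18364758544493064720 lives entryFact table 14080 9 75812 1024 5120 = true := by decide +kernel
theorem rows_6144 : checkRows facts 18364758544493064720 lives entryFact table 14080 9 75812 1024 6144 = true := by decide +kernel
theorem rows_7168 : checkRows facts 18364758544493064720 lives entryFact table 14080 9 75812 1024 7168 = true := by decide +kernel
theorem rows_8192 : checkRows facts 18364758544493064720 lives entryFact table 14080 9 75812 1024 8192 = true := by decide +kernel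
theorem rows_9216 : checkRows facts 18364758544493064720 lives entryFact table 14080 9 75812 1024 9216 = true := by decide +kernel
theorem rows_10240 : checkRows facts 18364758544493064720 lives entryFact table 14080 9 75812 1024 10240 = true := by decide +kernel
theorem rows_11264 : checkRows facts 18364758544493064720 lives entryFact table 14080 9 75812 1024 11264 = true := by decide +kernel
theorem rows_12288 : checkRows facts 18364758544493064720 lives entryFact table 14080 9 75812 1024 12288 = true := by decide +kernel
theorem rows_13312 : checkRows facts 18364758544493064720 lives entryFact table 14080 9 75812 768 13312 = true := by decide +kernel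
theorem rows_ok_upto1024 : ∀ k < 1024, checkRow facts 18364758544493064720 lives entryFact 14080 9 75812 k table 0 = true := fun k hk =>
  have h : 0 ≤ k := Nat.zero_le k
  checkRows_spec _ _ _ _ _ _ _ _ _ _ rows_0 k h hk
theorem rows_ok_upto2048 : ∀ k < 2048, checkRow facts 18364758544493064720 lives entryFact 14080 9 75812 k table 0 = true := fun k hk =>
  (Nat.lt_or_ge k 1024).elim (rows_ok_upto1024 k) fun h =>
    checkRows_spec _ _ _ _ _ _ _ _ _ _ rows_1024 k h hk
theorem rows_ok_upto3072 : ∀ k < 3072, checkRow facts 18364758544493064720 lives entryFact 14080 9 75812 k table 0 = true := fun k hk =>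
  (Nat.lt_or_ge k 2048).elim (rows_ok_upto2048 k) fun h =>
    checkRows_spec _ _ _ _ _ _ _ _ _ _ rows_2048 k h hk
theorem rows_ok_upto4096 : ∀ k < 4096, checkRow facts 18364758544493064720 lives entryFact 14080 9 75812 k table 0 = true := fun k hk =>
  (Nat.lt_or_ge k 3072).elim (rows_ok_upto3072 k) fun h =>
    checkRows_spec _ _ _ _ _ _ _ _ _ _ rows_3072 k h hk
theorem rows_ok_upto5120 : ∀ k < 5120, checkRow facts 18364758544493064720 lives entryFact 14080 9 75812 k table 0 = true := fun k hk =>
  (Nat.lt_or_ge k 4096).elim (rows_ok_upto4096 k) fun h =>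
    checkRows_spec _ _ _ _ _ _ _ _ _ _ rows_4096 k h hk
theorem rows_ok_upto6144 : ∀ k < 6144, checkRow facts 18364758544493064720 lives entryFact 14080 9 75812 k table 0 = true := fun k hk =>
  (Nat.lt_or_ge k 5120).elim (rows_ok_upto5120 k) fun h =>
    checkRows_spec _ _ _ _ _ _ _ _ _ _ rows_5120 k h hk
theorem rows_ok_upto7168 : ∀ k < 7168, checkRow facts 18364758544493064720 lives entryFact 14080 9 75812 k table 0 = true := fun k hk =>
  (Nat.lt_or_ge k 6144).elim (rows_ok_upto6144 k) fun h =>
    checkRows_spec _ _ _ _ _ _ _ _ _ _ rows_6144 k h hk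
theorem rows_ok_upto8192 : ∀ k < 8192, checkRow facts 18364758544493064720 lives entryFact 14080 9 75812 k table 0 = true := fun k hk =>
  (Nat.lt_or_ge k 7168).elim (rows_ok_upto7168 k) fun h =>
    checkRows_spec _ _ _ _ _ _ _ _ _ _ rows_7168 k h hk
theorem rows_ok_upto9216 : ∀ k < 9216, checkRow facts 18364758544493064720 lives entryFact 14080 9 75812 k table 0 = true := fun k hk =>
  (Nat.lt_or_ge k 8192).elim (rows_ok_upto8192 k) fun h =>
    checkRows_spec _ _ _ _ _ _ _ _ _ _ rows_8192 k h hk
theorem rows_ok_upto10240 : ∀ k < 10240, checkRow facts 18364758544493064720 lives entryFact 14080 9 75812 k table 0 = true := fun k hk =>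
  (Nat.lt_or_ge k 9216).elim (rows_ok_upto9216 k) fun h =>
    checkRows_spec _ _ _ _ _ _ _ _ _ _ rows_9216 k h hk
theorem rows_ok_upto11264 : ∀ k < 11264, checkRow facts 18364758544493064720 lives entryFact 14080 9 75812 k table 0 = true := fun k hk =>
  (Nat.lt_or_ge k 10240).elim (rows_ok_upto10240 k) fun h =>
    checkRows_spec _ _ _ _ _ _ _ _ _ _ rows_10240 k h hk
theorem rows_ok_upto12288 : ∀ k < 12288, checkRow facts 18364758544493064720 lives entryFact 14080 9 75812 k table 0 = true := fun k hk =>
  (Nat.lt_or_ge k 11264).elim (rows_ok_upto11264 k) fun h =>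
    checkRows_spec _ _ _ _ _ _ _ _ _ _ rows_11264 k h hk
theorem rows_ok_upto13312 : ∀ k < 13312, checkRow facts 18364758544493064720 lives entryFact 14080 9 75812 k table 0 = true := fun k hk =>
  (Nat.lt_or_ge k 12288).elim (rows_ok_upto12288 k) fun h =>
    checkRows_spec _ _ _ _ _ _ _ _ _ _ rows_12288 k h hk
theorem rows_ok_upto14080 : ∀ k < 14080, checkRow facts 18364758544493064720 lives entryFact 14080 9 75812 k table 0 = true := fun k hk =>
  (Nat.lt_or_ge k 13312).elim (rows_ok_upto13312 k) fun h =>
    checkRows_spec _ _ _ _ _ _ _ _ _ _ rows_13312 k h hk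
theorem rows_ok : ∀ k < 14080, checkRow facts 18364758544493064720 lives entryFact 14080 9 75812 k table 0 = true := rows_ok_upto14080
theorem words_fit : words.fits 576 14 = true := by decide +kernel
theorem words_eq : listEq (words.entries 576 14) (allCodes 18364758544493064720 9 lsl) = true := by decide +kernel
theorem subs_fit : subs.fits 576 14 = true := by decide +kernel
theorem subs_eq : listEq (subs.entries 576 14) (subCodes 18364758544493064720 lsub) = true := by decide +kernel
theorem lives_zero : Nat.beq (lives.get 20 0) 0 = true := by decide +kernel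

theorem covers {X : Type*} [Group X] {g : ℕ → X} (h : Rels lsA g) : CoversCosets (Level g [0, 1, 2, 3, 4, 5, 6, 8, 9]) (Level g [1, 2, 3, 4, 5, 6, 8, 9]) 14080 :=
  covers_level h.h15 h.hinv lsA h.words [0, 1, 2, 3, 4, 5, 6, 8, 9] [1, 2, 3, 4, 5, 6, 8, 9] 18364758544493064720 (ip := 18364758544493064720) (by decide +kernel) lsl lsub (by decide +kernel) (by decide +kernel)
    facts Mid.words subs lives entryFact Mid.table 576 14 15857 75812 14080 9 rfl rfl (by omega)
    words_fit words_eq subs_fit subs_eq facts_ok lives_zero rows_ok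

end Mid

end CfsgLib.SchurFi23
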