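import Cfsg.Agent.Lib.Schur.FiTwentyThree.TopP0
import Cfsg.Agent.Lib.Schur.FiTwentyThree.TopP1
import Cfsg.Agent.Lib.Schur.FiTwentyThree.TopP2
import Cfsg.Agent.Lib.Schur.FiTwentyThree.TopP3
import Cfsg.Agent.Lib.Schur.FiTwentyThree.TopP4
import Cfsg.Agent.Lib.Schur.FiTwentyThree.TopP5
import Cfsg.Agent.Lib.Schur.FiTwentyThree.TopP6
import Cfsg.Agent.Lib.Schur.FiTwentyThree.TopP7

set_option autoImplicit false
set_option linter.all false

namespace CfsgLib.SchurFi23

namespace Top

open CfsgLib.CosetEnum

theorem facts_ok_upto512 : ∀ j < 512, ∃ item, checkFact facts 18364758544493064720 words 576 subs 35228 j item = true := fun j hj =>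
  have h : 0 ≤ j := Nat.zero_le j
  checkFacts_spec _ _ _ _ _ _ items0 0 facts_ok0 j h (lt_of_lt_of_eq hj (by decide +kernel))
theorem facts_ok_upto1024 : ∀ j < 1024, ∃ item, checkFact facts 18364758544493064720 words 576 subs 35228 j item = true := fun j hj =>
  (Nat.lt_or_ge j 512).elim (facts_ok_upto512 j) fun h =>
    checkFacts_spec _ _ _ _ _ _ items512 512 facts_ok512 j h (lt_of_lt_of_eq hj (by decide +kernel))
theorem facts_ok_upto1536 : ∀ j < 1536, ∃ item, checkFact facts 18364758544493064720 words 576 subs 35228 j item = true := fun j hj =>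
  (Nat.lt_or_ge j 1024).elim (facts_ok_upto1024 j) fun h =>
    checkFacts_spec _ _ _ _ _ _ items1024 1024 facts_ok1024 j h (lt_of_lt_of_eq hj (by decide +kernel))
theorem facts_ok_upto2048 : ∀ j < 2048, ∃ item, checkFact facts 18364758544493064720 words 576 subs 35228 j item = true := fun j hj =>
  (Nat.lt_or_ge j 1536).elim (facts_ok_upto1536 j) fun h =>
    checkFacts_spec _ _ _ _ _ _ items1536 1536 facts_ok1536 j h (lt_of_lt_of_eq hj (by decide +kernel))
theorem facts_ok_upto2560 : ∀ j < 2560, ∃ item, checkFact facts 18364758544493064720 words 576 subs 35228 j item = true := fun j hj =>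
  (Nat.lt_or_ge j 2048).elim (facts_ok_upto2048 j) fun h =>
    checkFacts_spec _ _ _ _ _ _ items2048 2048 facts_ok2048 j h (lt_of_lt_of_eq hj (by decide +kernel))
theorem facts_ok_upto3072 : ∀ j < 3072, ∃ item, checkFact facts 18364758544493064720 words 576 subs 35228 j item = true := fun j hj =>
  (Nat.lt_or_ge j 2560).elim (facts_ok_upto2560 j) fun h =>
    checkFacts_spec _ _ _ _ _ _ items2560 2560 facts_ok2560 j h (lt_of_lt_of_eq hj (by decide +kernel))
theorem facts_ok_upto3584 : ∀ j < 3584, ∃ item, checkFact facts 18364758544493064720 words 576 subs 35228 j item = true := fun j hj =>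
  (Nat.lt_or_ge j 3072).elim (facts_ok_upto3072 j) fun h =>
    checkFacts_spec _ _ _ _ _ _ items3072 3072 facts_ok3072 j h (lt_of_lt_of_eq hj (by decide +kernel))
theorem facts_ok_upto4096 : ∀ j < 4096, ∃ item, checkFact facts 18364758544493064720 words 576 subs 35228 j item = true := fun j hj =>
  (Nat.lt_or_ge j 3584).elim (facts_ok_upto3584 j) fun h =>
    checkFacts_spec _ _ _ _ _ _ items3584 3584 facts_ok3584 j h (lt_of_lt_of_eq hj (by decide +kernel))
theorem facts_ok_upto4608 : ∀ j < 4608, ∃ item, checkFact facts 18364758544493064720 words 576 subs 35228 j item = true := fun j hj =>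
  (Nat.lt_or_ge j 4096).elim (facts_ok_upto4096 j) fun h =>
    checkFacts_spec _ _ _ _ _ _ items4096 4096 facts_ok4096 j h (lt_of_lt_of_eq hj (by decide +kernel))
theorem facts_ok_upto5120 : ∀ j < 5120, ∃ item, checkFact facts 18364758544493064720 words 576 subs 35228 j item = true := fun j hj =>
  (Nat.lt_or_ge j 4608).elim (facts_ok_upto4608 j) fun h =>
    checkFacts_spec _ _ _ _ _ _ items4608 4608 facts_ok4608 j h (lt_of_lt_of_eq hj (by decide +kernel))
theorem facts_ok_upto5632 : ∀ j < 5632, ∃ item, checkFact facts 18364758544493064720 words 576 subs 35228 j item = true := fun j hj =>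
  (Nat.lt_or_ge j 5120).elim (facts_ok_upto5120 j) fun h =>
    checkFacts_spec _ _ _ _ _ _ items5120 5120 facts_ok5120 j h (lt_of_lt_of_eq hj (by decide +kernel))
theorem facts_ok_upto6144 : ∀ j < 6144, ∃ item, checkFact facts 18364758544493064720 words 576 subs 35228 j item = true := fun j hj =>
  (Nat.lt_or_ge j 5632).elim (facts_ok_upto5632 j) fun h =>
    checkFacts_spec _ _ _ _ _ _ items5632 5632 facts_ok5632 j h (lt_of_lt_of_eq hj (by decide +kernel))
theorem facts_ok_upto6656 : ∀ j < 6656, ∃ item, checkFact facts 18364758544493064720 words 576 subs 35228 j item = true := fun j hj =>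
  (Nat.lt_or_ge j 6144).elim (facts_ok_upto6144 j) fun h =>
    checkFacts_spec _ _ _ _ _ _ items6144 6144 facts_ok6144 j h (lt_of_lt_of_eq hj (by decide +kernel))
theorem facts_ok_upto7168 : ∀ j < 7168, ∃ item, checkFact facts 18364758544493064720 words 576 subs 35228 j item = true := fun j hj =>
  (Nat.lt_or_ge j 6656).elim (facts_ok_upto6656 j) fun h =>
    checkFacts_spec _ _ _ _ _ _ items6656 6656 facts_ok6656 j h (lt_of_lt_of_eq hj (by decide +kernel))
theorem facts_ok_upto7680 : ∀ j < 7680, ∃ item, checkFact facts 18364758544493064720 words 576 subs 35228 j item = true := fun j hj =>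
  (Nat.lt_or_ge j 7168).elim (facts_ok_upto7168 j) fun h =>
    checkFacts_spec _ _ _ _ _ _ items7168 7168 facts_ok7168 j h (lt_of_lt_of_eq hj (by decide +kernel))
theorem facts_ok_upto8192 : ∀ j < 8192, ∃ item, checkFact facts 18364758544493064720 words 576 subs 35228 j item = true := fun j hj =>
  (Nat.lt_or_ge j 7680).elim (facts_ok_upto7680 j) fun h =>
    checkFacts_spec _ _ _ _ _ _ items7680 7680 facts_ok7680 j h (lt_of_lt_of_eq hj (by decide +kernel))
theorem facts_ok_upto8704 : ∀ j < 8704, ∃ item, checkFact facts 18364758544493064720 words 576 subs 35228 j item = true := fun j hj =>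
  (Nat.lt_or_ge j 8192).elim (facts_ok_upto8192 j) fun h =>
    checkFacts_spec _ _ _ _ _ _ items8192 8192 facts_ok8192 j h (lt_of_lt_of_eq hj (by decide +kernel))
theorem facts_ok_upto9216 : ∀ j < 9216, ∃ item, checkFact facts 18364758544493064720 words 576 subs 35228 j item = true := fun j hj =>
  (Nat.lt_or_ge j 8704).elim (facts_ok_upto8704 j) fun h =>
    checkFacts_spec _ _ _ _ _ _ items8704 8704 facts_ok8704 j h (lt_of_lt_of_eq hj (by decide +kernel))
theorem facts_ok_upto9728 : ∀ j < 9728, ∃ item, checkFact facts 18364758544493064720 words 576 subs 35228 j item = true := fun j hj =>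
  (Nat.lt_or_ge j 9216).elim (facts_ok_upto9216 j) fun h =>
    checkFacts_spec _ _ _ _ _ _ items9216 9216 facts_ok9216 j h (lt_of_lt_of_eq hj (by decide +kernel))
theorem facts_ok_upto10240 : ∀ j < 10240, ∃ item, checkFact facts 18364758544493064720 words 576 subs 35228 j item = true := fun j hj =>
  (Nat.lt_or_ge j 9728).elim (facts_ok_upto9728 j) fun h =>
    checkFacts_spec _ _ _ _ _ _ items9728 9728 facts_ok9728 j h (lt_of_lt_of_eq hj (by decide +kernel))
theorem facts_ok_upto10752 : ∀ j < 10752, ∃ item, checkFact facts 18364758544493064720 words 576 subs 35228 j item = true := fun j hj =>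
  (Nat.lt_or_ge j 10240).elim (facts_ok_upto10240 j) fun h =>
    checkFacts_spec _ _ _ _ _ _ items10240 10240 facts_ok10240 j h (lt_of_lt_of_eq hj (by decide +kernel))
theorem facts_ok_upto11264 : ∀ j < 11264, ∃ item, checkFact facts 18364758544493064720 words 576 subs 35228 j item = true := fun j hj =>
  (Nat.lt_or_ge j 10752).elim (facts_ok_upto10752 j) fun h =>
    checkFacts_spec _ _ _ _ _ _ items10752 10752 facts_ok10752 j h (lt_of_lt_of_eq hj (by decide +kernel))
theorem facts_ok_upto11776 : ∀ j < 11776, ∃ item, checkFact facts 18364758544493064720 words 576 subs 35228 j item = true := fun j hj =>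
  (Nat.lt_or_ge j 11264).elim (facts_ok_upto11264 j) fun h =>
    checkFacts_spec _ _ _ _ _ _ items11264 11264 facts_ok11264 j h (lt_of_lt_of_eq hj (by decide +kernel))
theorem facts_ok_upto12288 : ∀ j < 12288, ∃ item, checkFact facts 18364758544493064720 words 576 subs 35228 j item = true := fun j hj =>
  (Nat.lt_or_ge j 11776).elim (facts_ok_upto11776 j) fun h =>
    checkFacts_spec _ _ _ _ _ _ items11776 11776 facts_ok11776 j h (lt_of_lt_of_eq hj (by decide +kernel))
theorem facts_ok_upto12800 : ∀ j < 12800, ∃ item, checkFact facts 18364758544493064720 words 576 subs 35228 j item = true := fun j hj =>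
  (Nat.lt_or_ge j 12288).elim (facts_ok_upto12288 j) fun h =>
    checkFacts_spec _ _ _ _ _ _ items12288 12288 facts_ok12288 j h (lt_of_lt_of_eq hj (by decide +kernel))
theorem facts_ok_upto13312 : ∀ j < 13312, ∃ item, checkFact facts 18364758544493064720 words 576 subs 35228 j item = true := fun j hj =>
  (Nat.lt_or_ge j 12800).elim (facts_ok_upto12800 j) fun h =>
    checkFacts_spec _ _ _ _ _ _ items12800 12800 facts_ok12800 j h (lt_of_lt_of_eq hj (by decide +kernel))
theorem facts_ok_upto13824 : ∀ j < 13824, ∃ item, checkFact facts 18364758544493064720 words 576 subs 35228 j item = true := fun j hj =>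
  (Nat.lt_or_ge j 13312).elim (facts_ok_upto13312 j) fun h =>
    checkFacts_spec _ _ _ _ _ _ items13312 13312 facts_ok13312 j h (lt_of_lt_of_eq hj (by decide +kernel))
theorem facts_ok_upto14336 : ∀ j < 14336, ∃ item, checkFact facts 18364758544493064720 words 576 subs 35228 j item = true := fun j hj =>
  (Nat.lt_or_ge j 13824).elim (facts_ok_upto13824 j) fun h =>
    checkFacts_spec _ _ _ _ _ _ items13824 13824 facts_ok13824 j h (lt_of_lt_of_eq hj (by decide +kernel))
theorem facts_ok_upto14848 : ∀ j < 14848, ∃ item, checkFact facts 18364758544493064720 words 576 subs 35228 j item = true := fun j hj =>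
  (Nat.lt_or_ge j 14336).elim (facts_ok_upto14336 j) fun h =>
    checkFacts_spec _ _ _ _ _ _ items14336 14336 facts_ok14336 j h (lt_of_lt_of_eq hj (by decide +kernel))
theorem facts_ok_upto15360 : ∀ j < 15360, ∃ item, checkFact facts 18364758544493064720 words 576 subs 35228 j item = true := fun j hj =>
  (Nat.lt_or_ge j 14848).elim (facts_ok_upto14848 j) fun h =>
    checkFacts_spec _ _ _ _ _ _ items14848 14848 facts_ok14848 j h (lt_of_lt_of_eq hj (by decide +kernel))
theorem facts_ok_upto15872 : ∀ j < 15872, ∃ item, checkFact facts 18364758544493064720 words 576 subs 35228 j item = true := fun j hj =>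
  (Nat.lt_or_ge j 15360).elim (facts_ok_upto15360 j) fun h =>
    checkFacts_spec _ _ _ _ _ _ items15360 15360 facts_ok15360 j h (lt_of_lt_of_eq hj (by decide +kernel))
theorem facts_ok_upto16384 : ∀ j < 16384, ∃ item, checkFact facts 18364758544493064720 words 576 subs 35228 j item = true := fun j hj =>
  (Nat.lt_or_ge j 15872).elim (facts_ok_upto15872 j) fun h =>
    checkFacts_spec _ _ _ _ _ _ items15872 15872 facts_ok15872 j h (lt_of_lt_of_eq hj (by decide +kernel))
theorem facts_ok_upto16896 : ∀ j < 16896, ∃ item, checkFact facts 18364758544493064720 words 576 subs 35228 j item = true := fun j hj =>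
  (Nat.lt_or_ge j 16384).elim (facts_ok_upto16384 j) fun h =>
    checkFacts_spec _ _ _ _ _ _ items16384 16384 facts_ok16384 j h (lt_of_lt_of_eq hj (by decide +kernel))
theorem facts_ok_upto17408 : ∀ j < 17408, ∃ item, checkFact facts 18364758544493064720 words 576 subs 35228 j item = true := fun j hj =>
  (Nat.lt_or_ge j 16896).elim (facts_ok_upto16896 j) fun h =>
    checkFacts_spec _ _ _ _ _ _ items16896 16896 facts_ok16896 j h (lt_of_lt_of_eq hj (by decide +kernel))
theorem facts_ok_upto17920 : ∀ j < 17920, ∃ item, checkFact facts 18364758544493064720 words 576 subs 35228 j item = true := fun j hj =>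
  (Nat.lt_or_ge j 17408).elim (facts_ok_upto17408 j) fun h =>
    checkFacts_spec _ _ _ _ _ _ items17408 17408 facts_ok17408 j h (lt_of_lt_of_eq hj (by decide +kernel))
theorem facts_ok_upto18432 : ∀ j < 18432, ∃ item, checkFact facts 18364758544493064720 words 576 subs 35228 j item = true := fun j hj =>
  (Nat.lt_or_ge j 17920).elim (facts_ok_upto17920 j) fun h =>
    checkFacts_spec _ _ _ _ _ _ items17920 17920 facts_ok17920 j h (lt_of_lt_of_eq hj (by decide +kernel))
theorem facts_ok_upto18944 : ∀ j < 18944, ∃ item, checkFact facts 18364758544493064720 words 576 subs 35228 j item = true := fun j hj =>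
  (Nat.lt_or_ge j 18432).elim (facts_ok_upto18432 j) fun h =>
    checkFacts_spec _ _ _ _ _ _ items18432 18432 facts_ok18432 j h (lt_of_lt_of_eq hj (by decide +kernel))
theorem facts_ok_upto19456 : ∀ j < 19456, ∃ item, checkFact facts 18364758544493064720 words 576 subs 35228 j item = true := fun j hj =>
  (Nat.lt_or_ge j 18944).elim (facts_ok_upto18944 j) fun h =>
    checkFacts_spec _ _ _ _ _ _ items18944 18944 facts_ok18944 j h (lt_of_lt_of_eq hj (by decide +kernel))
theorem facts_ok_upto19968 : ∀ j < 19968, ∃ item, checkFact facts 18364758544493064720 words 576 subs 35228 j item = true := fun j hj =>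
  (Nat.lt_or_ge j 19456).elim (facts_ok_upto19456 j) fun h =>
    checkFacts_spec _ _ _ _ _ _ items19456 19456 facts_ok19456 j h (lt_of_lt_of_eq hj (by decide +kernel))
theorem facts_ok_upto20480 : ∀ j < 20480, ∃ item, checkFact facts 18364758544493064720 words 576 subs 35228 j item = true := fun j hj =>
  (Nat.lt_or_ge j 19968).elim (facts_ok_upto19968 j) fun h =>
    checkFacts_spec _ _ _ _ _ _ items19968 19968 facts_ok19968 j h (lt_of_lt_of_eq hj (by decide +kernel))
theorem facts_ok_upto20992 : ∀ j < 20992, ∃ item, checkFact facts 18364758544493064720 words 576 subs 35228 j item = true := fun j hj =>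
  (Nat.lt_or_ge j 20480).elim (facts_ok_upto20480 j) fun h =>
    checkFacts_spec _ _ _ _ _ _ items20480 20480 facts_ok20480 j h (lt_of_lt_of_eq hj (by decide +kernel))
theorem facts_ok_upto21504 : ∀ j < 21504, ∃ item, checkFact facts 18364758544493064720 words 576 subs 35228 j item = true := fun j hj =>
  (Nat.lt_or_ge j 20992).elim (facts_ok_upto20992 j) fun h =>
    checkFacts_spec _ _ _ _ _ _ items20992 20992 facts_ok20992 j h (lt_of_lt_of_eq hj (by decide +kernel))
theorem facts_ok_upto22016 : ∀ j < 22016, ∃ item, checkFact facts 18364758544493064720 words 576 subs 35228 j item = true := fun j hj =>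
  (Nat.lt_or_ge j 21504).elim (facts_ok_upto21504 j) fun h =>
    checkFacts_spec _ _ _ _ _ _ items21504 21504 facts_ok21504 j h (lt_of_lt_of_eq hj (by decide +kernel))
theorem facts_ok_upto22528 : ∀ j < 22528, ∃ item, checkFact facts 18364758544493064720 words 576 subs 35228 j item = true := fun j hj =>
  (Nat.lt_or_ge j 22016).elim (facts_ok_upto22016 j) fun h =>
    checkFacts_spec _ _ _ _ _ _ items22016 22016 facts_ok22016 j h (lt_of_lt_of_eq hj (by decide +kernel))
theorem facts_ok_upto23040 : ∀ j < 23040, ∃ item, checkFact facts 18364758544493064720 words 576 subs 35228 j item = true := fun j hj =>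
  (Nat.lt_or_ge j 22528).elim (facts_ok_upto22528 j) fun h =>
    checkFacts_spec _ _ _ _ _ _ items22528 22528 facts_ok22528 j h (lt_of_lt_of_eq hj (by decide +kernel))
theorem facts_ok_upto23552 : ∀ j < 23552, ∃ item, checkFact facts 18364758544493064720 words 576 subs 35228 j item = true := fun j hj =>
  (Nat.lt_or_ge j 23040).elim (facts_ok_upto23040 j) fun h =>
    checkFacts_spec _ _ _ _ _ _ items23040 23040 facts_ok23040 j h (lt_of_lt_of_eq hj (by decide +kernel))
theorem facts_ok_upto24064 : ∀ j < 24064, ∃ item, checkFact facts 18364758544493064720 words 576 subs 35228 j item = true := fun j hj =>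
  (Nat.lt_or_ge j 23552).elim (facts_ok_upto23552 j) fun h =>
    checkFacts_spec _ _ _ _ _ _ items23552 23552 facts_ok23552 j h (lt_of_lt_of_eq hj (by decide +kernel))
theorem facts_ok_upto24576 : ∀ j < 24576, ∃ item, checkFact facts 18364758544493064720 words 576 subs 35228 j item = true := fun j hj =>
  (Nat.lt_or_ge j 24064).elim (facts_ok_upto24064 j) fun h =>
    checkFacts_spec _ _ _ _ _ _ items24064 24064 facts_ok24064 j h (lt_of_lt_of_eq hj (by decide +kernel))
theorem facts_ok_upto25088 : ∀ j < 25088, ∃ item, checkFact facts 18364758544493064720 words 576 subs 35228 j item = true := fun j hj =>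
  (Nat.lt_or_ge j 24576).elim (facts_ok_upto24576 j) fun h =>
    checkFacts_spec _ _ _ _ _ _ items24576 24576 facts_ok24576 j h (lt_of_lt_of_eq hj (by decide +kernel))
theorem facts_ok_upto25600 : ∀ j < 25600, ∃ item, checkFact facts 18364758544493064720 words 576 subs 35228 j item = true := fun j hj =>
  (Nat.lt_or_ge j 25088).elim (facts_ok_upto25088 j) fun h =>
    checkFacts_spec _ _ _ _ _ _ items25088 25088 facts_ok25088 j h (lt_of_lt_of_eq hj (by decide +kernel))
theorem facts_ok_upto26112 : ∀ j < 26112, ∃ item, checkFact facts 18364758544493064720 words 576 subs 35228 j item = true := fun j hj =>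
  (Nat.lt_or_ge j 25600).elim (facts_ok_upto25600 j) fun h =>
    checkFacts_spec _ _ _ _ _ _ items25600 25600 facts_ok25600 j h (lt_of_lt_of_eq hj (by decide +kernel))
theorem facts_ok_upto26624 : ∀ j < 26624, ∃ item, checkFact facts 18364758544493064720 words 576 subs 35228 j item = true := fun j hj =>
  (Nat.lt_or_ge j 26112).elim (facts_ok_upto26112 j) fun h =>
    checkFacts_spec _ _ _ _ _ _ items26112 26112 facts_ok26112 j h (lt_of_lt_of_eq hj (by decide +kernel))
theorem facts_ok_upto27136 : ∀ j < 27136, ∃ item, checkFact facts 18364758544493064720 words 576 subs 35228 j item = true := fun j hj =>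
  (Nat.lt_or_ge j 26624).elim (facts_ok_upto26624 j) fun h =>
    checkFacts_spec _ _ _ _ _ _ items26624 26624 facts_ok26624 j h (lt_of_lt_of_eq hj (by decide +kernel))
theorem facts_ok_upto27648 : ∀ j < 27648, ∃ item, checkFact facts 18364758544493064720 words 576 subs 35228 j item = true := fun j hj =>
  (Nat.lt_or_ge j 27136).elim (facts_ok_upto27136 j) fun h =>
    checkFacts_spec _ _ _ _ _ _ items27136 27136 facts_ok27136 j h (lt_of_lt_of_eq hj (by decide +kernel))
theorem facts_ok_upto28160 : ∀ j < 28160, ∃ item, checkFact facts 18364758544493064720 words 576 subs 35228 j item = true := fun j hj =>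
  (Nat.lt_or_ge j 27648).elim (facts_ok_upto27648 j) fun h =>
    checkFacts_spec _ _ _ _ _ _ items27648 27648 facts_ok27648 j h (lt_of_lt_of_eq hj (by decide +kernel))
theorem facts_ok_upto28672 : ∀ j < 28672, ∃ item, checkFact facts 18364758544493064720 words 576 subs 35228 j item = true := fun j hj =>
  (Nat.lt_or_ge j 28160).elim (facts_ok_upto28160 j) fun h =>
    checkFacts_spec _ _ _ _ _ _ items28160 28160 facts_ok28160 j h (lt_of_lt_of_eq hj (by decide +kernel))
theorem facts_ok_upto29184 : ∀ j < 29184, ∃ item, checkFact facts 18364758544493064720 words 576 subs 35228 j item = true := fun j hj =>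
  (Nat.lt_or_ge j 28672).elim (facts_ok_upto28672 j) fun h =>
    checkFacts_spec _ _ _ _ _ _ items28672 28672 facts_ok28672 j h (lt_of_lt_of_eq hj (by decide +kernel))
theorem facts_ok_upto29696 : ∀ j < 29696, ∃ item, checkFact facts 18364758544493064720 words 576 subs 35228 j item = true := fun j hj =>
  (Nat.lt_or_ge j 29184).elim (facts_ok_upto29184 j) fun h =>
    checkFacts_spec _ _ _ _ _ _ items29184 29184 facts_ok29184 j h (lt_of_lt_of_eq hj (by decide +kernel))
theorem facts_ok_upto30208 : ∀ j < 30208, ∃ item, checkFact facts 18364758544493064720 words 576 subs 35228 j item = true := fun j hj =>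
  (Nat.lt_or_ge j 29696).elim (facts_ok_upto29696 j) fun h =>
    checkFacts_spec _ _ _ _ _ _ items29696 29696 facts_ok29696 j h (lt_of_lt_of_eq hj (by decide +kernel))
theorem facts_ok_upto30720 : ∀ j < 30720, ∃ item, checkFact facts 18364758544493064720 words 576 subs 35228 j item = true := fun j hj =>
  (Nat.lt_or_ge j 30208).elim (facts_ok_upto30208 j) fun h =>
    checkFacts_spec _ _ _ _ _ _ items30208 30208 facts_ok30208 j h (lt_of_lt_of_eq hj (by decide +kernel))
theorem facts_ok_upto31232 : ∀ j < 31232, ∃ item, checkFact facts 18364758544493064720 words 576 subs 35228 j item = true := fun j hj =>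
  (Nat.lt_or_ge j 30720).elim (facts_ok_upto30720 j) fun h =>
    checkFacts_spec _ _ _ _ _ _ items30720 30720 facts_ok30720 j h (lt_of_lt_of_eq hj (by decide +kernel))
theorem facts_ok_upto31744 : ∀ j < 31744, ∃ item, checkFact facts 18364758544493064720 words 576 subs 35228 j item = true := fun j hj =>
  (Nat.lt_or_ge j 31232).elim (facts_ok_upto31232 j) fun h =>
    checkFacts_spec _ _ _ _ _ _ items31232 31232 facts_ok31232 j h (lt_of_lt_of_eq hj (by decide +kernel))
theorem facts_ok_upto32256 : ∀ j < 32256, ∃ item, checkFact facts 18364758544493064720 words 576 subs 35228 j item = true := fun j hj =>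
  (Nat.lt_or_ge j 31744).elim (facts_ok_upto31744 j) fun h =>
    checkFacts_spec _ _ _ _ _ _ items31744 31744 facts_ok31744 j h (lt_of_lt_of_eq hj (by decide +kernel))
theorem facts_ok_upto32768 : ∀ j < 32768, ∃ item, checkFact facts 18364758544493064720 words 576 subs 35228 j item = true := fun j hj =>
  (Nat.lt_or_ge j 32256).elim (facts_ok_upto32256 j) fun h =>
    checkFacts_spec _ _ _ _ _ _ items32256 32256 facts_ok32256 j h (lt_of_lt_of_eq hj (by decide +kernel))
theorem facts_ok_upto33280 : ∀ j < 33280, ∃ item, checkFact facts 18364758544493064720 words 576 subs 35228 j item = true := fun j hj =>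
  (Nat.lt_or_ge j 32768).elim (facts_ok_upto32768 j) fun h =>
    checkFacts_spec _ _ _ _ _ _ items32768 32768 facts_ok32768 j h (lt_of_lt_of_eq hj (by decide +kernel))
theorem facts_ok_upto33792 : ∀ j < 33792, ∃ item, checkFact facts 18364758544493064720 words 576 subs 35228 j item = true := fun j hj =>
  (Nat.lt_or_ge j 33280).elim (facts_ok_upto33280 j) fun h =>
    checkFacts_spec _ _ _ _ _ _ items33280 33280 facts_ok33280 j h (lt_of_lt_of_eq hj (by decide +kernel))
theorem facts_ok_upto34304 : ∀ j < 34304, ∃ item, checkFact facts 18364758544493064720 words 576 subs 35228 j item = true := fun j hj =>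
  (Nat.lt_or_ge j 33792).elim (facts_ok_upto33792 j) fun h =>
    checkFacts_spec _ _ _ _ _ _ items33792 33792 facts_ok33792 j h (lt_of_lt_of_eq hj (by decide +kernel))
theorem facts_ok_upto34816 : ∀ j < 34816, ∃ item, checkFact facts 18364758544493064720 words 576 subs 35228 j item = true := fun j hj =>
  (Nat.lt_or_ge j 34304).elim (facts_ok_upto34304 j) fun h =>
    checkFacts_spec _ _ _ _ _ _ items34304 34304 facts_ok34304 j h (lt_of_lt_of_eq hj (by decide +kernel))
theorem facts_ok_upto35328 : ∀ j < 35328, ∃ item, checkFact facts 18364758544493064720 words 576 subs 35228 j item = true := fun j hj =>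
  (Nat.lt_or_ge j 34816).elim (facts_ok_upto34816 j) fun h =>
    checkFacts_spec _ _ _ _ _ _ items34816 34816 facts_ok34816 j h (lt_of_lt_of_eq hj (by decide +kernel))
theorem facts_ok_upto35840 : ∀ j < 35840, ∃ item, checkFact facts 18364758544493064720 words 576 subs 35228 j item = true := fun j hj =>
  (Nat.lt_or_ge j 35328).elim (facts_ok_upto35328 j) fun h =>
    checkFacts_spec _ _ _ _ _ _ items35328 35328 facts_ok35328 j h (lt_of_lt_of_eq hj (by decide +kernel))
theorem facts_ok_upto36352 : ∀ j < 36352, ∃ item, checkFact facts 18364758544493064720 words 576 subs 35228 j item = true := fun j hj =>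
  (Nat.lt_or_ge j 35840).elim (facts_ok_upto35840 j) fun h =>
    checkFacts_spec _ _ _ _ _ _ items35840 35840 facts_ok35840 j h (lt_of_lt_of_eq hj (by decide +kernel))
theorem facts_ok_upto36864 : ∀ j < 36864, ∃ item, checkFact facts 18364758544493064720 words 576 subs 35228 j item = true := fun j hj =>
  (Nat.lt_or_ge j 36352).elim (facts_ok_upto36352 j) fun h =>
    checkFacts_spec _ _ _ _ _ _ items36352 36352 facts_ok36352 j h (lt_of_lt_of_eq hj (by decide +kernel))
theorem facts_ok_upto37376 : ∀ j < 37376, ∃ item, checkFact facts 18364758544493064720 words 576 subs 35228 j item = true := fun j hj =>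
  (Nat.lt_or_ge j 36864).elim (facts_ok_upto36864 j) fun h =>
    checkFacts_spec _ _ _ _ _ _ items36864 36864 facts_ok36864 j h (lt_of_lt_of_eq hj (by decide +kernel))
theorem facts_ok_upto37888 : ∀ j < 37888, ∃ item, checkFact facts 18364758544493064720 words 576 subs 35228 j item = true := fun j hj =>
  (Nat.lt_or_ge j 37376).elim (facts_ok_upto37376 j) fun h =>
    checkFacts_spec _ _ _ _ _ _ items37376 37376 facts_ok37376 j h (lt_of_lt_of_eq hj (by decide +kernel))
theorem facts_ok_upto38400 : ∀ j < 38400, ∃ item, checkFact facts 18364758544493064720 words 576 subs 35228 j item = true := fun j hj =>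
  (Nat.lt_or_ge j 37888).elim (facts_ok_upto37888 j) fun h =>
    checkFacts_spec _ _ _ _ _ _ items37888 37888 facts_ok37888 j h (lt_of_lt_of_eq hj (by decide +kernel))
theorem facts_ok_upto38912 : ∀ j < 38912, ∃ item, checkFact facts 18364758544493064720 words 576 subs 35228 j item = true := fun j hj =>
  (Nat.lt_or_ge j 38400).elim (facts_ok_upto38400 j) fun h =>
    checkFacts_spec _ _ _ _ _ _ items38400 38400 facts_ok38400 j h (lt_of_lt_of_eq hj (by decide +kernel))
theorem facts_ok_upto39424 : ∀ j < 39424, ∃ item, checkFact facts 18364758544493064720 words 576 subs 35228 j item = true := fun j hj =>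
  (Nat.lt_or_ge j 38912).elim (facts_ok_upto38912 j) fun h =>
    checkFacts_spec _ _ _ _ _ _ items38912 38912 facts_ok38912 j h (lt_of_lt_of_eq hj (by decide +kernel))
theorem facts_ok_upto39936 : ∀ j < 39936, ∃ item, checkFact facts 18364758544493064720 words 576 subs 35228 j item = true := fun j hj =>
  (Nat.lt_or_ge j 39424).elim (facts_ok_upto39424 j) fun h =>
    checkFacts_spec _ _ _ _ _ _ items39424 39424 facts_ok39424 j h (lt_of_lt_of_eq hj (by decide +kernel))
theorem facts_ok_upto40448 : ∀ j < 40448, ∃ item, checkFact facts 18364758544493064720 words 576 subs 35228 j item = true := fun j hj =>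
  (Nat.lt_or_ge j 39936).elim (facts_ok_upto39936 j) fun h =>
    checkFacts_spec _ _ _ _ _ _ items39936 39936 facts_ok39936 j h (lt_of_lt_of_eq hj (by decide +kernel))
theorem facts_ok_upto40960 : ∀ j < 40960, ∃ item, checkFact facts 18364758544493064720 words 576 subs 35228 j item = true := fun j hj =>
  (Nat.lt_or_ge j 40448).elim (facts_ok_upto40448 j) fun h =>
    checkFacts_spec _ _ _ _ _ _ items40448 40448 facts_ok40448 j h (lt_of_lt_of_eq hj (by decide +kernel))
theorem facts_ok_upto41472 : ∀ j < 41472, ∃ item, checkFact facts 18364758544493064720 words 576 subs 35228 j item = true := fun j hj =>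
  (Nat.lt_or_ge j 40960).elim (facts_ok_upto40960 j) fun h =>
    checkFacts_spec _ _ _ _ _ _ items40960 40960 facts_ok40960 j h (lt_of_lt_of_eq hj (by decide +kernel))
theorem facts_ok_upto41984 : ∀ j < 41984, ∃ item, checkFact facts 18364758544493064720 words 576 subs 35228 j item = true := fun j hj =>
  (Nat.lt_or_ge j 41472).elim (facts_ok_upto41472 j) fun h =>
    checkFacts_spec _ _ _ _ _ _ items41472 41472 facts_ok41472 j h (lt_of_lt_of_eq hj (by decide +kernel))
theorem facts_ok_upto42496 : ∀ j < 42496, ∃ item, checkFact facts 18364758544493064720 words 576 subs 35228 j item = true := fun j hj =>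
  (Nat.lt_or_ge j 41984).elim (facts_ok_upto41984 j) fun h =>
    checkFacts_spec _ _ _ _ _ _ items41984 41984 facts_ok41984 j h (lt_of_lt_of_eq hj (by decide +kernel))
theorem facts_ok_upto43008 : ∀ j < 43008, ∃ item, checkFact facts 18364758544493064720 words 576 subs 35228 j item = true := fun j hj =>
  (Nat.lt_or_ge j 42496).elim (facts_ok_upto42496 j) fun h =>
    checkFacts_spec _ _ _ _ _ _ items42496 42496 facts_ok42496 j h (lt_of_lt_of_eq hj (by decide +kernel))
theorem facts_ok_upto43520 : ∀ j < 43520, ∃ item, checkFact facts 18364758544493064720 words 576 subs 35228 j item = true := fun j hj =>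
  (Nat.lt_or_ge j 43008).elim (facts_ok_upto43008 j) fun h =>
    checkFacts_spec _ _ _ _ _ _ items43008 43008 facts_ok43008 j h (lt_of_lt_of_eq hj (by decide +kernel))
theorem facts_ok_upto44032 : ∀ j < 44032, ∃ item, checkFact facts 18364758544493064720 words 576 subs 35228 j item = true := fun j hj =>
  (Nat.lt_or_ge j 43520).elim (facts_ok_upto43520 j) fun h =>
    checkFacts_spec _ _ _ _ _ _ items43520 43520 facts_ok43520 j h (lt_of_lt_of_eq hj (by decide +kernel))
theorem facts_ok_upto44544 : ∀ j < 44544, ∃ item, checkFact facts 18364758544493064720 words 576 subs 35228 j item = true := fun j hj =>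
  (Nat.lt_or_ge j 44032).elim (facts_ok_upto44032 j) fun h =>
    checkFacts_spec _ _ _ _ _ _ items44032 44032 facts_ok44032 j h (lt_of_lt_of_eq hj (by decide +kernel))
theorem facts_ok_upto45056 : ∀ j < 45056, ∃ item, checkFact facts 18364758544493064720 words 576 subs 35228 j item = true := fun j hj =>
  (Nat.lt_or_ge j 44544).elim (facts_ok_upto44544 j) fun h =>
    checkFacts_spec _ _ _ _ _ _ items44544 44544 facts_ok44544 j h (lt_of_lt_of_eq hj (by decide +kernel))
theorem facts_ok_upto45568 : ∀ j < 45568, ∃ item, checkFact facts 18364758544493064720 words 576 subs 35228 j item = true := fun j hj =>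
  (Nat.lt_or_ge j 45056).elim (facts_ok_upto45056 j) fun h =>
    checkFacts_spec _ _ _ _ _ _ items45056 45056 facts_ok45056 j h (lt_of_lt_of_eq hj (by decide +kernel))
theorem facts_ok_upto46080 : ∀ j < 46080, ∃ item, checkFact facts 18364758544493064720 words 576 subs 35228 j item = true := fun j hj =>
  (Nat.lt_or_ge j 45568).elim (facts_ok_upto45568 j) fun h =>
    checkFacts_spec _ _ _ _ _ _ items45568 45568 facts_ok45568 j h (lt_of_lt_of_eq hj (by decide +kernel))
theorem facts_ok_upto46592 : ∀ j < 46592, ∃ item, checkFact facts 18364758544493064720 words 576 subs 35228 j item = true := fun j hj =>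
  (Nat.lt_or_ge j 46080).elim (facts_ok_upto46080 j) fun h =>
    checkFacts_spec _ _ _ _ _ _ items46080 46080 facts_ok46080 j h (lt_of_lt_of_eq hj (by decide +kernel))
theorem facts_ok_upto47104 : ∀ j < 47104, ∃ item, checkFact facts 18364758544493064720 words 576 subs 35228 j item = true := fun j hj =>
  (Nat.lt_or_ge j 46592).elim (facts_ok_upto46592 j) fun h =>
    checkFacts_spec _ _ _ _ _ _ items46592 46592 facts_ok46592 j h (lt_of_lt_of_eq hj (by decide +kernel))
theorem facts_ok_upto47616 : ∀ j < 47616, ∃ item, checkFact facts 18364758544493064720 words 576 subs 35228 j item = true := fun j hj =>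
  (Nat.lt_or_ge j 47104).elim (facts_ok_upto47104 j) fun h =>
    checkFacts_spec _ _ _ _ _ _ items47104 47104 facts_ok47104 j h (lt_of_lt_of_eq hj (by decide +kernel))
theorem facts_ok_upto48128 : ∀ j < 48128, ∃ item, checkFact facts 18364758544493064720 words 576 subs 35228 j item = true := fun j hj =>
  (Nat.lt_or_ge j 47616).elim (facts_ok_upto47616 j) fun h =>
    checkFacts_spec _ _ _ _ _ _ items47616 47616 facts_ok47616 j h (lt_of_lt_of_eq hj (by decide +kernel))
theorem facts_ok_upto48640 : ∀ j < 48640, ∃ item, checkFact facts 18364758544493064720 words 576 subs 35228 j item = true := fun j hj =>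
  (Nat.lt_or_ge j 48128).elim (facts_ok_upto48128 j) fun h =>
    checkFacts_spec _ _ _ _ _ _ items48128 48128 facts_ok48128 j h (lt_of_lt_of_eq hj (by decide +kernel))
theorem facts_ok_upto49152 : ∀ j < 49152, ∃ item, checkFact facts 18364758544493064720 words 576 subs 35228 j item = true := fun j hj =>
  (Nat.lt_or_ge j 48640).elim (facts_ok_upto48640 j) fun h =>
    checkFacts_spec _ _ _ _ _ _ items48640 48640 facts_ok48640 j h (lt_of_lt_of_eq hj (by decide +kernel))
theorem facts_ok_upto49664 : ∀ j < 49664, ∃ item, checkFact facts 18364758544493064720 words 576 subs 35228 j item = true := fun j hj =>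
  (Nat.lt_or_ge j 49152).elim (facts_ok_upto49152 j) fun h =>
    checkFacts_spec _ _ _ _ _ _ items49152 49152 facts_ok49152 j h (lt_of_lt_of_eq hj (by decide +kernel))
theorem facts_ok_upto50176 : ∀ j < 50176, ∃ item, checkFact facts 18364758544493064720 words 576 subs 35228 j item = true := fun j hj =>
  (Nat.lt_or_ge j 49664).elim (facts_ok_upto49664 j) fun h =>
    checkFacts_spec _ _ _ _ _ _ items49664 49664 facts_ok49664 j h (lt_of_lt_of_eq hj (by decide +kernel))
theorem facts_ok_upto50688 : ∀ j < 50688, ∃ item, checkFact facts 18364758544493064720 words 576 subs 35228 j item = true := fun j hj =>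
  (Nat.lt_or_ge j 50176).elim (facts_ok_upto50176 j) fun h =>
    checkFacts_spec _ _ _ _ _ _ items50176 50176 facts_ok50176 j h (lt_of_lt_of_eq hj (by decide +kernel))
theorem facts_ok_upto51200 : ∀ j < 51200, ∃ item, checkFact facts 18364758544493064720 words 576 subs 35228 j item = true := fun j hj =>
  (Nat.lt_or_ge j 50688).elim (facts_ok_upto50688 j) fun h =>
    checkFacts_spec _ _ _ _ _ _ items50688 50688 facts_ok50688 j h (lt_of_lt_of_eq hj (by decide +kernel))
theorem facts_ok_upto51712 : ∀ j < 51712, ∃ item, checkFact facts 18364758544493064720 words 576 subs 35228 j item = true := fun j hj =>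
  (Nat.lt_or_ge j 51200).elim (facts_ok_upto51200 j) fun h =>
    checkFacts_spec _ _ _ _ _ _ items51200 51200 facts_ok51200 j h (lt_of_lt_of_eq hj (by decide +kernel))
theorem facts_ok_upto52224 : ∀ j < 52224, ∃ item, checkFact facts 18364758544493064720 words 576 subs 35228 j item = true := fun j hj =>
  (Nat.lt_or_ge j 51712).elim (facts_ok_upto51712 j) fun h =>
    checkFacts_spec _ _ _ _ _ _ items51712 51712 facts_ok51712 j h (lt_of_lt_of_eq hj (by decide +kernel))
theorem facts_ok_upto52736 : ∀ j < 52736, ∃ item, checkFact facts 18364758544493064720 words 576 subs 35228 j item = true := fun j hj =>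
  (Nat.lt_or_ge j 52224).elim (facts_ok_upto52224 j) fun h =>
    checkFacts_spec _ _ _ _ _ _ items52224 52224 facts_ok52224 j h (lt_of_lt_of_eq hj (by decide +kernel))
theorem facts_ok_upto53248 : ∀ j < 53248, ∃ item, checkFact facts 18364758544493064720 words 576 subs 35228 j item = true := fun j hj =>
  (Nat.lt_or_ge j 52736).elim (facts_ok_upto52736 j) fun h =>
    checkFacts_spec _ _ _ _ _ _ items52736 52736 facts_ok52736 j h (lt_of_lt_of_eq hj (by decide +kernel))
theorem facts_ok_upto53760 : ∀ j < 53760, ∃ item, checkFact facts 18364758544493064720 words 576 subs 35228 j item = true := fun j hj =>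
  (Nat.lt_or_ge j 53248).elim (facts_ok_upto53248 j) fun h =>
    checkFacts_spec _ _ _ _ _ _ items53248 53248 facts_ok53248 j h (lt_of_lt_of_eq hj (by decide +kernel))
theorem facts_ok_upto54272 : ∀ j < 54272, ∃ item, checkFact facts 18364758544493064720 words 576 subs 35228 j item = true := fun j hj =>
  (Nat.lt_or_ge j 53760).elim (facts_ok_upto53760 j) fun h =>
    checkFacts_spec _ _ _ _ _ _ items53760 53760 facts_ok53760 j h (lt_of_lt_of_eq hj (by decide +kernel))
theorem facts_ok_upto54784 : ∀ j < 54784, ∃ item, checkFact facts 18364758544493064720 words 576 subs 35228 j item = true := fun j hj =>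
  (Nat.lt_or_ge j 54272).elim (facts_ok_upto54272 j) fun h =>
    checkFacts_spec _ _ _ _ _ _ items54272 54272 facts_ok54272 j h (lt_of_lt_of_eq hj (by decide +kernel))
theorem facts_ok_upto55296 : ∀ j < 55296, ∃ item, checkFact facts 18364758544493064720 words 576 subs 35228 j item = true := fun j hj =>
  (Nat.lt_or_ge j 54784).elim (facts_ok_upto54784 j) fun h =>
    checkFacts_spec _ _ _ _ _ _ items54784 54784 facts_ok54784 j h (lt_of_lt_of_eq hj (by decide +kernel))
theorem facts_ok_upto55808 : ∀ j < 55808, ∃ item, checkFact facts 18364758544493064720 words 576 subs 35228 j item = true := fun j hj =>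
  (Nat.lt_or_ge j 55296).elim (facts_ok_upto55296 j) fun h =>
    checkFacts_spec _ _ _ _ _ _ items55296 55296 facts_ok55296 j h (lt_of_lt_of_eq hj (by decide +kernel))
theorem facts_ok_upto56320 : ∀ j < 56320, ∃ item, checkFact facts 18364758544493064720 words 576 subs 35228 j item = true := fun j hj =>
  (Nat.lt_or_ge j 55808).elim (facts_ok_upto55808 j) fun h =>
    checkFacts_spec _ _ _ _ _ _ items55808 55808 facts_ok55808 j h (lt_of_lt_of_eq hj (by decide +kernel))
theorem facts_ok_upto56832 : ∀ j < 56832, ∃ item, checkFact facts 18364758544493064720 words 576 subs 35228 j item = true := fun j hj =>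
  (Nat.lt_or_ge j 56320).elim (facts_ok_upto56320 j) fun h =>
    checkFacts_spec _ _ _ _ _ _ items56320 56320 facts_ok56320 j h (lt_of_lt_of_eq hj (by decide +kernel))
theorem facts_ok_upto57344 : ∀ j < 57344, ∃ item, checkFact facts 18364758544493064720 words 576 subs 35228 j item = true := fun j hj =>
  (Nat.lt_or_ge j 56832).elim (facts_ok_upto56832 j) fun h =>
    checkFacts_spec _ _ _ _ _ _ items56832 56832 facts_ok56832 j h (lt_of_lt_of_eq hj (by decide +kernel))
theorem facts_ok_upto57856 : ∀ j < 57856, ∃ item, checkFact facts 18364758544493064720 words 576 subs 35228 j item = true := fun j hj =>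
  (Nat.lt_or_ge j 57344).elim (facts_ok_upto57344 j) fun h =>
    checkFacts_spec _ _ _ _ _ _ items57344 57344 facts_ok57344 j h (lt_of_lt_of_eq hj (by decide +kernel))
theorem facts_ok_upto58368 : ∀ j < 58368, ∃ item, checkFact facts 18364758544493064720 words 576 subs 35228 j item = true := fun j hj =>
  (Nat.lt_or_ge j 57856).elim (facts_ok_upto57856 j) fun h =>
    checkFacts_spec _ _ _ _ _ _ items57856 57856 facts_ok57856 j h (lt_of_lt_of_eq hj (by decide +kernel))
theorem facts_ok_upto58880 : ∀ j < 58880, ∃ item, checkFact facts 18364758544493064720 words 576 subs 35228 j item = true := fun j hj =>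
  (Nat.lt_or_ge j 58368).elim (facts_ok_upto58368 j) fun h =>
    checkFacts_spec _ _ _ _ _ _ items58368 58368 facts_ok58368 j h (lt_of_lt_of_eq hj (by decide +kernel))
theorem facts_ok_upto59392 : ∀ j < 59392, ∃ item, checkFact facts 18364758544493064720 words 576 subs 35228 j item = true := fun j hj =>
  (Nat.lt_or_ge j 58880).elim (facts_ok_upto58880 j) fun h =>
    checkFacts_spec _ _ _ _ _ _ items58880 58880 facts_ok58880 j h (lt_of_lt_of_eq hj (by decide +kernel))
theorem facts_ok_upto59904 : ∀ j < 59904, ∃ item, checkFact facts 18364758544493064720 words 576 subs 35228 j item = true := fun j hj =>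
  (Nat.lt_or_ge j 59392).elim (facts_ok_upto59392 j) fun h =>
    checkFacts_spec _ _ _ _ _ _ items59392 59392 facts_ok59392 j h (lt_of_lt_of_eq hj (by decide +kernel))
theorem facts_ok_upto60416 : ∀ j < 60416, ∃ item, checkFact facts 18364758544493064720 words 576 subs 35228 j item = true := fun j hj =>
  (Nat.lt_or_ge j 59904).elim (facts_ok_upto59904 j) fun h =>
    checkFacts_spec _ _ _ _ _ _ items59904 59904 facts_ok59904 j h (lt_of_lt_of_eq hj (by decide +kernel))
theorem facts_ok_upto60928 : ∀ j < 60928, ∃ item, checkFact facts 18364758544493064720 words 576 subs 35228 j item = true := fun j hj =>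
  (Nat.lt_or_ge j 60416).elim (facts_ok_upto60416 j) fun h =>
    checkFacts_spec _ _ _ _ _ _ items60416 60416 facts_ok60416 j h (lt_of_lt_of_eq hj (by decide +kernel))
theorem facts_ok_upto61440 : ∀ j < 61440, ∃ item, checkFact facts 18364758544493064720 words 576 subs 35228 j item = true := fun j hj =>
  (Nat.lt_or_ge j 60928).elim (facts_ok_upto60928 j) fun h =>
    checkFacts_spec _ _ _ _ _ _ items60928 60928 facts_ok60928 j h (lt_of_lt_of_eq hj (by decide +kernel))
theorem facts_ok_upto61952 : ∀ j < 61952, ∃ item, checkFact facts 18364758544493064720 words 576 subs 35228 j item = true := fun j hj =>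
  (Nat.lt_or_ge j 61440).elim (facts_ok_upto61440 j) fun h =>
    checkFacts_spec _ _ _ _ _ _ items61440 61440 facts_ok61440 j h (lt_of_lt_of_eq hj (by decide +kernel))
theorem facts_ok_upto62464 : ∀ j < 62464, ∃ item, checkFact facts 18364758544493064720 words 576 subs 35228 j item = true := fun j hj =>
  (Nat.lt_or_ge j 61952).elim (facts_ok_upto61952 j) fun h =>
    checkFacts_spec _ _ _ _ _ _ items61952 61952 facts_ok61952 j h (lt_of_lt_of_eq hj (by decide +kernel))
theorem facts_ok_upto62976 : ∀ j < 62976, ∃ item, checkFact facts 18364758544493064720 words 576 subs 35228 j item = true := fun j hj =>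
  (Nat.lt_or_ge j 62464).elim (facts_ok_upto62464 j) fun h =>
    checkFacts_spec _ _ _ _ _ _ items62464 62464 facts_ok62464 j h (lt_of_lt_of_eq hj (by decide +kernel))
theorem facts_ok_upto63488 : ∀ j < 63488, ∃ item, checkFact facts 18364758544493064720 words 576 subs 35228 j item = true := fun j hj =>
  (Nat.lt_or_ge j 62976).elim (facts_ok_upto62976 j) fun h =>
    checkFacts_spec _ _ _ _ _ _ items62976 62976 facts_ok62976 j h (lt_of_lt_of_eq hj (by decide +kernel))
theorem facts_ok_upto64000 : ∀ j < 64000, ∃ item, checkFact facts 18364758544493064720 words 576 subs 35228 j item = true := fun j hj =>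
  (Nat.lt_or_ge j 63488).elim (facts_ok_upto63488 j) fun h =>
    checkFacts_spec _ _ _ _ _ _ items63488 63488 facts_ok63488 j h (lt_of_lt_of_eq hj (by decide +kernel))
theorem facts_ok_upto64512 : ∀ j < 64512, ∃ item, checkFact facts 18364758544493064720 words 576 subs 35228 j item = true := fun j hj =>
  (Nat.lt_or_ge j 64000).elim (facts_ok_upto64000 j) fun h =>
    checkFacts_spec _ _ _ _ _ _ items64000 64000 facts_ok64000 j h (lt_of_lt_of_eq hj (by decide +kernel))
theorem facts_ok_upto65024 : ∀ j < 65024, ∃ item, checkFact facts 18364758544493064720 words 576 subs 35228 j item = true := fun j hj =>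
  (Nat.lt_or_ge j 64512).elim (facts_ok_upto64512 j) fun h =>
    checkFacts_spec _ _ _ _ _ _ items64512 64512 facts_ok64512 j h (lt_of_lt_of_eq hj (by decide +kernel))
theorem facts_ok_upto65536 : ∀ j < 65536, ∃ item, checkFact facts 18364758544493064720 words 576 subs 35228 j item = true := fun j hj =>
  (Nat.lt_or_ge j 65024).elim (facts_ok_upto65024 j) fun h =>
    checkFacts_spec _ _ _ _ _ _ items65024 65024 facts_ok65024 j h (lt_of_lt_of_eq hj (by decide +kernel))
theorem facts_ok_upto66048 : ∀ j < 66048, ∃ item, checkFact facts 18364758544493064720 words 576 subs 35228 j item = true := fun j hj =>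
  (Nat.lt_or_ge j 65536).elim (facts_ok_upto65536 j) fun h =>
    checkFacts_spec _ _ _ _ _ _ items65536 65536 facts_ok65536 j h (lt_of_lt_of_eq hj (by decide +kernel))
theorem facts_ok_upto66560 : ∀ j < 66560, ∃ item, checkFact facts 18364758544493064720 words 576 subs 35228 j item = true := fun j hj =>
  (Nat.lt_or_ge j 66048).elim (facts_ok_upto66048 j) fun h =>
    checkFacts_spec _ _ _ _ _ _ items66048 66048 facts_ok66048 j h (lt_of_lt_of_eq hj (by decide +kernel))
theorem facts_ok_upto67072 : ∀ j < 67072, ∃ item, checkFact facts 18364758544493064720 words 576 subs 35228 j item = true := fun j hj =>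
  (Nat.lt_or_ge j 66560).elim (facts_ok_upto66560 j) fun h =>
    checkFacts_spec _ _ _ _ _ _ items66560 66560 facts_ok66560 j h (lt_of_lt_of_eq hj (by decide +kernel))
theorem facts_ok_upto67584 : ∀ j < 67584, ∃ item, checkFact facts 18364758544493064720 words 576 subs 35228 j item = true := fun j hj =>
  (Nat.lt_or_ge j 67072).elim (facts_ok_upto67072 j) fun h =>
    checkFacts_spec _ _ _ _ _ _ items67072 67072 facts_ok67072 j h (lt_of_lt_of_eq hj (by decide +kernel))
theorem facts_ok_upto68096 : ∀ j < 68096, ∃ item, checkFact facts 18364758544493064720 words 576 subs 35228 j item = true := fun j hj =>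
  (Nat.lt_or_ge j 67584).elim (facts_ok_upto67584 j) fun h =>
    checkFacts_spec _ _ _ _ _ _ items67584 67584 facts_ok67584 j h (lt_of_lt_of_eq hj (by decide +kernel))
theorem facts_ok_upto68608 : ∀ j < 68608, ∃ item, checkFact facts 18364758544493064720 words 576 subs 35228 j item = true := fun j hj =>
  (Nat.lt_or_ge j 68096).elim (facts_ok_upto68096 j) fun h =>
    checkFacts_spec _ _ _ _ _ _ items68096 68096 facts_ok68096 j h (lt_of_lt_of_eq hj (by decide +kernel))
theorem facts_ok_upto69120 : ∀ j < 69120, ∃ item, checkFact facts 18364758544493064720 words 576 subs 35228 j item = true := fun j hj =>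
  (Nat.lt_or_ge j 68608).elim (facts_ok_upto68608 j) fun h =>
    checkFacts_spec _ _ _ _ _ _ items68608 68608 facts_ok68608 j h (lt_of_lt_of_eq hj (by decide +kernel))
theorem facts_ok_upto69632 : ∀ j < 69632, ∃ item, checkFact facts 18364758544493064720 words 576 subs 35228 j item = true := fun j hj =>
  (Nat.lt_or_ge j 69120).elim (facts_ok_upto69120 j) fun h =>
    checkFacts_spec _ _ _ _ _ _ items69120 69120 facts_ok69120 j h (lt_of_lt_of_eq hj (by decide +kernel))
theorem facts_ok_upto70144 : ∀ j < 70144, ∃ item, checkFact facts 18364758544493064720 words 576 subs 35228 j item = true := fun j hj =>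
  (Nat.lt_or_ge j 69632).elim (facts_ok_upto69632 j) fun h =>
    checkFacts_spec _ _ _ _ _ _ items69632 69632 facts_ok69632 j h (lt_of_lt_of_eq hj (by decide +kernel))
theorem facts_ok_upto70656 : ∀ j < 70656, ∃ item, checkFact facts 18364758544493064720 words 576 subs 35228 j item = true := fun j hj =>
  (Nat.lt_or_ge j 70144).elim (facts_ok_upto70144 j) fun h =>
    checkFacts_spec _ _ _ _ _ _ items70144 70144 facts_ok70144 j h (lt_of_lt_of_eq hj (by decide +kernel))
theorem facts_ok_upto71168 : ∀ j < 71168, ∃ item, checkFact facts 18364758544493064720 words 576 subs 35228 j item = true := fun j hj =>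
  (Nat.lt_or_ge j 70656).elim (facts_ok_upto70656 j) fun h =>
    checkFacts_spec _ _ _ _ _ _ items70656 70656 facts_ok70656 j h (lt_of_lt_of_eq hj (by decide +kernel))
theorem facts_ok_upto71680 : ∀ j < 71680, ∃ item, checkFact facts 18364758544493064720 words 576 subs 35228 j item = true := fun j hj =>
  (Nat.lt_or_ge j 71168).elim (facts_ok_upto71168 j) fun h =>
    checkFacts_spec _ _ _ _ _ _ items71168 71168 facts_ok71168 j h (lt_of_lt_of_eq hj (by decide +kernel))
theorem facts_ok_upto72192 : ∀ j < 72192, ∃ item, checkFact facts 18364758544493064720 words 576 subs 35228 j item = true := fun j hj =>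
  (Nat.lt_or_ge j 71680).elim (facts_ok_upto71680 j) fun h =>
    checkFacts_spec _ _ _ _ _ _ items71680 71680 facts_ok71680 j h (lt_of_lt_of_eq hj (by decide +kernel))
theorem facts_ok_upto72704 : ∀ j < 72704, ∃ item, checkFact facts 18364758544493064720 words 576 subs 35228 j item = true := fun j hj =>
  (Nat.lt_or_ge j 72192).elim (facts_ok_upto72192 j) fun h =>
    checkFacts_spec _ _ _ _ _ _ items72192 72192 facts_ok72192 j h (lt_of_lt_of_eq hj (by decide +kernel))
theorem facts_ok_upto73216 : ∀ j < 73216, ∃ item, checkFact facts 18364758544493064720 words 576 subs 35228 j item = true := fun j hj =>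
  (Nat.lt_or_ge j 72704).elim (facts_ok_upto72704 j) fun h =>
    checkFacts_spec _ _ _ _ _ _ items72704 72704 facts_ok72704 j h (lt_of_lt_of_eq hj (by decide +kernel))
theorem facts_ok_upto73728 : ∀ j < 73728, ∃ item, checkFact facts 18364758544493064720 words 576 subs 35228 j item = true := fun j hj =>
  (Nat.lt_or_ge j 73216).elim (facts_ok_upto73216 j) fun h =>
    checkFacts_spec _ _ _ _ _ _ items73216 73216 facts_ok73216 j h (lt_of_lt_of_eq hj (by decide +kernel))
theorem facts_ok_upto74240 : ∀ j < 74240, ∃ item, checkFact facts 18364758544493064720 words 576 subs 35228 j item = true := fun j hj =>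
  (Nat.lt_or_ge j 73728).elim (facts_ok_upto73728 j) fun h =>
    checkFacts_spec _ _ _ _ _ _ items73728 73728 facts_ok73728 j h (lt_of_lt_of_eq hj (by decide +kernel))
theorem facts_ok_upto74752 : ∀ j < 74752, ∃ item, checkFact facts 18364758544493064720 words 576 subs 35228 j item = true := fun j hj =>
  (Nat.lt_or_ge j 74240).elim (facts_ok_upto74240 j) fun h =>
    checkFacts_spec _ _ _ _ _ _ items74240 74240 facts_ok74240 j h (lt_of_lt_of_eq hj (by decide +kernel))
theorem facts_ok_upto75264 : ∀ j < 75264, ∃ item, checkFact facts 18364758544493064720 words 576 subs 35228 j item = true := fun j hj =>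
  (Nat.lt_or_ge j 74752).elim (facts_ok_upto74752 j) fun h =>
    checkFacts_spec _ _ _ _ _ _ items74752 74752 facts_ok74752 j h (lt_of_lt_of_eq hj (by decide +kernel))
theorem facts_ok_upto75776 : ∀ j < 75776, ∃ item, checkFact facts 18364758544493064720 words 576 subs 35228 j item = true := fun j hj =>
  (Nat.lt_or_ge j 75264).elim (facts_ok_upto75264 j) fun h =>
    checkFacts_spec _ _ _ _ _ _ items75264 75264 facts_ok75264 j h (lt_of_lt_of_eq hj (by decide +kernel))
theorem facts_ok_upto76288 : ∀ j < 76288, ∃ item, checkFact facts 18364758544493064720 words 576 subs 35228 j item = true := fun j hj =>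
  (Nat.lt_or_ge j 75776).elim (facts_ok_upto75776 j) fun h =>
    checkFacts_spec _ _ _ _ _ _ items75776 75776 facts_ok75776 j h (lt_of_lt_of_eq hj (by decide +kernel))
theorem facts_ok_upto76800 : ∀ j < 76800, ∃ item, checkFact facts 18364758544493064720 words 576 subs 35228 j item = true := fun j hj =>
  (Nat.lt_or_ge j 76288).elim (facts_ok_upto76288 j) fun h =>
    checkFacts_spec _ _ _ _ _ _ items76288 76288 facts_ok76288 j h (lt_of_lt_of_eq hj (by decide +kernel))
theorem facts_ok_upto77312 : ∀ j < 77312, ∃ item, checkFact facts 18364758544493064720 words 576 subs 35228 j item = true := fun j hj =>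
  (Nat.lt_or_ge j 76800).elim (facts_ok_upto76800 j) fun h =>
    checkFacts_spec _ _ _ _ _ _ items76800 76800 facts_ok76800 j h (lt_of_lt_of_eq hj (by decide +kernel))
theorem facts_ok_upto77824 : ∀ j < 77824, ∃ item, checkFact facts 18364758544493064720 words 576 subs 35228 j item = true := fun j hj =>
  (Nat.lt_or_ge j 77312).elim (facts_ok_upto77312 j) fun h =>
    checkFacts_spec _ _ _ _ _ _ items77312 77312 facts_ok77312 j h (lt_of_lt_of_eq hj (by decide +kernel))
theorem facts_ok_upto78336 : ∀ j < 78336, ∃ item, checkFact facts 18364758544493064720 words 576 subs 35228 j item = true := fun j hj =>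
  (Nat.lt_or_ge j 77824).elim (facts_ok_upto77824 j) fun h =>
    checkFacts_spec _ _ _ _ _ _ items77824 77824 facts_ok77824 j h (lt_of_lt_of_eq hj (by decide +kernel))
theorem facts_ok_upto78848 : ∀ j < 78848, ∃ item, checkFact facts 18364758544493064720 words 576 subs 35228 j item = true := fun j hj =>
  (Nat.lt_or_ge j 78336).elim (facts_ok_upto78336 j) fun h =>
    checkFacts_spec _ _ _ _ _ _ items78336 78336 facts_ok78336 j h (lt_of_lt_of_eq hj (by decide +kernel))
theorem facts_ok_upto79360 : ∀ j < 79360, ∃ item, checkFact facts 18364758544493064720 words 576 subs 35228 j item = true := fun j hj =>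
  (Nat.lt_or_ge j 78848).elim (facts_ok_upto78848 j) fun h =>
    checkFacts_spec _ _ _ _ _ _ items78848 78848 facts_ok78848 j h (lt_of_lt_of_eq hj (by decide +kernel))
theorem facts_ok_upto79872 : ∀ j < 79872, ∃ item, checkFact facts 18364758544493064720 words 576 subs 35228 j item = true := fun j hj =>
  (Nat.lt_or_ge j 79360).elim (facts_ok_upto79360 j) fun h =>
    checkFacts_spec _ _ _ _ _ _ items79360 79360 facts_ok79360 j h (lt_of_lt_of_eq hj (by decide +kernel))
theorem facts_ok_upto80384 : ∀ j < 80384, ∃ item, checkFact facts 18364758544493064720 words 576 subs 35228 j item = true := fun j hj =>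
  (Nat.lt_or_ge j 79872).elim (facts_ok_upto79872 j) fun h =>
    checkFacts_spec _ _ _ _ _ _ items79872 79872 facts_ok79872 j h (lt_of_lt_of_eq hj (by decide +kernel))
theorem facts_ok_upto80896 : ∀ j < 80896, ∃ item, checkFact facts 18364758544493064720 words 576 subs 35228 j item = true := fun j hj =>
  (Nat.lt_or_ge j 80384).elim (facts_ok_upto80384 j) fun h =>
    checkFacts_spec _ _ _ _ _ _ items80384 80384 facts_ok80384 j h (lt_of_lt_of_eq hj (by decide +kernel))
theorem facts_ok_upto81408 : ∀ j < 81408, ∃ item, checkFact facts 18364758544493064720 words 576 subs 35228 j item = true := fun j hj =>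
  (Nat.lt_or_ge j 80896).elim (facts_ok_upto80896 j) fun h =>
    checkFacts_spec _ _ _ _ _ _ items80896 80896 facts_ok80896 j h (lt_of_lt_of_eq hj (by decide +kernel))
theorem facts_ok_upto81920 : ∀ j < 81920, ∃ item, checkFact facts 18364758544493064720 words 576 subs 35228 j item = true := fun j hj =>
  (Nat.lt_or_ge j 81408).elim (facts_ok_upto81408 j) fun h =>
    checkFacts_spec _ _ _ _ _ _ items81408 81408 facts_ok81408 j h (lt_of_lt_of_eq hj (by decide +kernel))
theorem facts_ok_upto82432 : ∀ j < 82432, ∃ item, checkFact facts 18364758544493064720 words 576 subs 35228 j item = true := fun j hj =>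
  (Nat.lt_or_ge j 81920).elim (facts_ok_upto81920 j) fun h =>
    checkFacts_spec _ _ _ _ _ _ items81920 81920 facts_ok81920 j h (lt_of_lt_of_eq hj (by decide +kernel))
theorem facts_ok_upto82944 : ∀ j < 82944, ∃ item, checkFact facts 18364758544493064720 words 576 subs 35228 j item = true := fun j hj =>
  (Nat.lt_or_ge j 82432).elim (facts_ok_upto82432 j) fun h =>
    checkFacts_spec _ _ _ _ _ _ items82432 82432 facts_ok82432 j h (lt_of_lt_of_eq hj (by decide +kernel))
theorem facts_ok_upto83456 : ∀ j < 83456, ∃ item, checkFact facts 18364758544493064720 words 576 subs 35228 j item = true := fun j hj =>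
  (Nat.lt_or_ge j 82944).elim (facts_ok_upto82944 j) fun h =>
    checkFacts_spec _ _ _ _ _ _ items82944 82944 facts_ok82944 j h (lt_of_lt_of_eq hj (by decide +kernel))
theorem facts_ok_upto83968 : ∀ j < 83968, ∃ item, checkFact facts 18364758544493064720 words 576 subs 35228 j item = true := fun j hj =>
  (Nat.lt_or_ge j 83456).elim (facts_ok_upto83456 j) fun h =>
    checkFacts_spec _ _ _ _ _ _ items83456 83456 facts_ok83456 j h (lt_of_lt_of_eq hj (by decide +kernel))
theorem facts_ok_upto84480 : ∀ j < 84480, ∃ item, checkFact facts 18364758544493064720 words 576 subs 35228 j item = true := fun j hj =>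
  (Nat.lt_or_ge j 83968).elim (facts_ok_upto83968 j) fun h =>
    checkFacts_spec _ _ _ _ _ _ items83968 83968 facts_ok83968 j h (lt_of_lt_of_eq hj (by decide +kernel))
theorem facts_ok_upto84992 : ∀ j < 84992, ∃ item, checkFact facts 18364758544493064720 words 576 subs 35228 j item = true := fun j hj =>
  (Nat.lt_or_ge j 84480).elim (facts_ok_upto84480 j) fun h =>
    checkFacts_spec _ _ _ _ _ _ items84480 84480 facts_ok84480 j h (lt_of_lt_of_eq hj (by decide +kernel))
theorem facts_ok_upto85504 : ∀ j < 85504, ∃ item, checkFact facts 18364758544493064720 words 576 subs 35228 j item = true := fun j hj =>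
  (Nat.lt_or_ge j 84992).elim (facts_ok_upto84992 j) fun h =>
    checkFacts_spec _ _ _ _ _ _ items84992 84992 facts_ok84992 j h (lt_of_lt_of_eq hj (by decide +kernel))
theorem facts_ok_upto86016 : ∀ j < 86016, ∃ item, checkFact facts 18364758544493064720 words 576 subs 35228 j item = true := fun j hj =>
  (Nat.lt_or_ge j 85504).elim (facts_ok_upto85504 j) fun h =>
    checkFacts_spec _ _ _ _ _ _ items85504 85504 facts_ok85504 j h (lt_of_lt_of_eq hj (by decide +kernel))
theorem facts_ok_upto86528 : ∀ j < 86528, ∃ item, checkFact facts 18364758544493064720 words 576 subs 35228 j item = true := fun j hj =>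
  (Nat.lt_or_ge j 86016).elim (facts_ok_upto86016 j) fun h =>
    checkFacts_spec _ _ _ _ _ _ items86016 86016 facts_ok86016 j h (lt_of_lt_of_eq hj (by decide +kernel))
theorem facts_ok_upto87040 : ∀ j < 87040, ∃ item, checkFact facts 18364758544493064720 words 576 subs 35228 j item = true := fun j hj =>
  (Nat.lt_or_ge j 86528).elim (facts_ok_upto86528 j) fun h =>
    checkFacts_spec _ _ _ _ _ _ items86528 86528 facts_ok86528 j h (lt_of_lt_of_eq hj (by decide +kernel))
theorem facts_ok_upto87552 : ∀ j < 87552, ∃ item, checkFact facts 18364758544493064720 words 576 subs 35228 j item = true := fun j hj =>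
  (Nat.lt_or_ge j 87040).elim (facts_ok_upto87040 j) fun h =>
    checkFacts_spec _ _ _ _ _ _ items87040 87040 facts_ok87040 j h (lt_of_lt_of_eq hj (by decide +kernel))
theorem facts_ok_upto88064 : ∀ j < 88064, ∃ item, checkFact facts 18364758544493064720 words 576 subs 35228 j item = true := fun j hj =>
  (Nat.lt_or_ge j 87552).elim (facts_ok_upto87552 j) fun h =>
    checkFacts_spec _ _ _ _ _ _ items87552 87552 facts_ok87552 j h (lt_of_lt_of_eq hj (by decide +kernel))
theorem facts_ok_upto88576 : ∀ j < 88576, ∃ item, checkFact facts 18364758544493064720 words 576 subs 35228 j item = true := fun j hj =>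
  (Nat.lt_or_ge j 88064).elim (facts_ok_upto88064 j) fun h =>
    checkFacts_spec _ _ _ _ _ _ items88064 88064 facts_ok88064 j h (lt_of_lt_of_eq hj (by decide +kernel))
theorem facts_ok_upto89088 : ∀ j < 89088, ∃ item, checkFact facts 18364758544493064720 words 576 subs 35228 j item = true := fun j hj =>
  (Nat.lt_or_ge j 88576).elim (facts_ok_upto88576 j) fun h =>
    checkFacts_spec _ _ _ _ _ _ items88576 88576 facts_ok88576 j h (lt_of_lt_of_eq hj (by decide +kernel))
theorem facts_ok_upto89600 : ∀ j < 89600, ∃ item, checkFact facts 18364758544493064720 words 576 subs 35228 j item = true := fun j hj =>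
  (Nat.lt_or_ge j 89088).elim (facts_ok_upto89088 j) fun h =>
    checkFacts_spec _ _ _ _ _ _ items89088 89088 facts_ok89088 j h (lt_of_lt_of_eq hj (by decide +kernel))
theorem facts_ok_upto90112 : ∀ j < 90112, ∃ item, checkFact facts 18364758544493064720 words 576 subs 35228 j item = true := fun j hj =>
  (Nat.lt_or_ge j 89600).elim (facts_ok_upto89600 j) fun h =>
    checkFacts_spec _ _ _ _ _ _ items89600 89600 facts_ok89600 j h (lt_of_lt_of_eq hj (by decide +kernel))
theorem facts_ok_upto90624 : ∀ j < 90624, ∃ item, checkFact facts 18364758544493064720 words 576 subs 35228 j item = true := fun j hj =>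
  (Nat.lt_or_ge j 90112).elim (facts_ok_upto90112 j) fun h =>
    checkFacts_spec _ _ _ _ _ _ items90112 90112 facts_ok90112 j h (lt_of_lt_of_eq hj (by decide +kernel))
theorem facts_ok_upto91136 : ∀ j < 91136, ∃ item, checkFact facts 18364758544493064720 words 576 subs 35228 j item = true := fun j hj =>
  (Nat.lt_or_ge j 90624).elim (facts_ok_upto90624 j) fun h =>
    checkFacts_spec _ _ _ _ _ _ items90624 90624 facts_ok90624 j h (lt_of_lt_of_eq hj (by decide +kernel))
theorem facts_ok_upto91648 : ∀ j < 91648, ∃ item, checkFact facts 18364758544493064720 words 576 subs 35228 j item = true := fun j hj =>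
  (Nat.lt_or_ge j 91136).elim (facts_ok_upto91136 j) fun h =>
    checkFacts_spec _ _ _ _ _ _ items91136 91136 facts_ok91136 j h (lt_of_lt_of_eq hj (by decide +kernel))
theorem facts_ok_upto92160 : ∀ j < 92160, ∃ item, checkFact facts 18364758544493064720 words 576 subs 35228 j item = true := fun j hj =>
  (Nat.lt_or_ge j 91648).elim (facts_ok_upto91648 j) fun h =>
    checkFacts_spec _ _ _ _ _ _ items91648 91648 facts_ok91648 j h (lt_of_lt_of_eq hj (by decide +kernel))
theorem facts_ok_upto92672 : ∀ j < 92672, ∃ item, checkFact facts 18364758544493064720 words 576 subs 35228 j item = true := fun j hj =>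
  (Nat.lt_or_ge j 92160).elim (facts_ok_upto92160 j) fun h =>
    checkFacts_spec _ _ _ _ _ _ items92160 92160 facts_ok92160 j h (lt_of_lt_of_eq hj (by decide +kernel))
theorem facts_ok_upto93184 : ∀ j < 93184, ∃ item, checkFact facts 18364758544493064720 words 576 subs 35228 j item = true := fun j hj =>
  (Nat.lt_or_ge j 92672).elim (facts_ok_upto92672 j) fun h =>
    checkFacts_spec _ _ _ _ _ _ items92672 92672 facts_ok92672 j h (lt_of_lt_of_eq hj (by decide +kernel))
theorem facts_ok_upto93696 : ∀ j < 93696, ∃ item, checkFact facts 18364758544493064720 words 576 subs 35228 j item = true := fun j hj =>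
  (Nat.lt_or_ge j 93184).elim (facts_ok_upto93184 j) fun h =>
    checkFacts_spec _ _ _ _ _ _ items93184 93184 facts_ok93184 j h (lt_of_lt_of_eq hj (by decide +kernel))
theorem facts_ok_upto94208 : ∀ j < 94208, ∃ item, checkFact facts 18364758544493064720 words 576 subs 35228 j item = true := fun j hj =>
  (Nat.lt_or_ge j 93696).elim (facts_ok_upto93696 j) fun h =>
    checkFacts_spec _ _ _ _ _ _ items93696 93696 facts_ok93696 j h (lt_of_lt_of_eq hj (by decide +kernel))
theorem facts_ok_upto94720 : ∀ j < 94720, ∃ item, checkFact facts 18364758544493064720 words 576 subs 35228 j item = true := fun j hj =>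
  (Nat.lt_or_ge j 94208).elim (facts_ok_upto94208 j) fun h =>
    checkFacts_spec _ _ _ _ _ _ items94208 94208 facts_ok94208 j h (lt_of_lt_of_eq hj (by decide +kernel))
theorem facts_ok_upto95232 : ∀ j < 95232, ∃ item, checkFact facts 18364758544493064720 words 576 subs 35228 j item = true := fun j hj =>
  (Nat.lt_or_ge j 94720).elim (facts_ok_upto94720 j) fun h =>
    checkFacts_spec _ _ _ _ _ _ items94720 94720 facts_ok94720 j h (lt_of_lt_of_eq hj (by decide +kernel))
theorem facts_ok_upto95744 : ∀ j < 95744, ∃ item, checkFact facts 18364758544493064720 words 576 subs 35228 j item = true := fun j hj =>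
  (Nat.lt_or_ge j 95232).elim (facts_ok_upto95232 j) fun h =>
    checkFacts_spec _ _ _ _ _ _ items95232 95232 facts_ok95232 j h (lt_of_lt_of_eq hj (by decide +kernel))
theorem facts_ok_upto96256 : ∀ j < 96256, ∃ item, checkFact facts 18364758544493064720 words 576 subs 35228 j item = true := fun j hj =>
  (Nat.lt_or_ge j 95744).elim (facts_ok_upto95744 j) fun h =>
    checkFacts_spec _ _ _ _ _ _ items95744 95744 facts_ok95744 j h (lt_of_lt_of_eq hj (by decide +kernel))
theorem facts_ok_upto96768 : ∀ j < 96768, ∃ item, checkFact facts 18364758544493064720 words 576 subs 35228 j item = true := fun j hj =>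
  (Nat.lt_or_ge j 96256).elim (facts_ok_upto96256 j) fun h =>
    checkFacts_spec _ _ _ _ _ _ items96256 96256 facts_ok96256 j h (lt_of_lt_of_eq hj (by decide +kernel))
theorem facts_ok_upto97280 : ∀ j < 97280, ∃ item, checkFact facts 18364758544493064720 words 576 subs 35228 j item = true := fun j hj =>
  (Nat.lt_or_ge j 96768).elim (facts_ok_upto96768 j) fun h =>
    checkFacts_spec _ _ _ _ _ _ items96768 96768 facts_ok96768 j h (lt_of_lt_of_eq hj (by decide +kernel))
theorem facts_ok_upto97792 : ∀ j < 97792, ∃ item, checkFact facts 18364758544493064720 words 576 subs 35228 j item = true := fun j hj =>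
  (Nat.lt_or_ge j 97280).elim (facts_ok_upto97280 j) fun h =>
    checkFacts_spec _ _ _ _ _ _ items97280 97280 facts_ok97280 j h (lt_of_lt_of_eq hj (by decide +kernel))
theorem facts_ok_upto98304 : ∀ j < 98304, ∃ item, checkFact facts 18364758544493064720 words 576 subs 35228 j item = true := fun j hj =>
  (Nat.lt_or_ge j 97792).elim (facts_ok_upto97792 j) fun h =>
    checkFacts_spec _ _ _ _ _ _ items97792 97792 facts_ok97792 j h (lt_of_lt_of_eq hj (by decide +kernel))
theorem facts_ok_upto98816 : ∀ j < 98816, ∃ item, checkFact facts 18364758544493064720 words 576 subs 35228 j item = true := fun j hj =>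
  (Nat.lt_or_ge j 98304).elim (facts_ok_upto98304 j) fun h =>
    checkFacts_spec _ _ _ _ _ _ items98304 98304 facts_ok98304 j h (lt_of_lt_of_eq hj (by decide +kernel))
theorem facts_ok_upto99328 : ∀ j < 99328, ∃ item, checkFact facts 18364758544493064720 words 576 subs 35228 j item = true := fun j hj =>
  (Nat.lt_or_ge j 98816).elim (facts_ok_upto98816 j) fun h =>
    checkFacts_spec _ _ _ _ _ _ items98816 98816 facts_ok98816 j h (lt_of_lt_of_eq hj (by decide +kernel))
theorem facts_ok_upto99840 : ∀ j < 99840, ∃ item, checkFact facts 18364758544493064720 words 576 subs 35228 j item = true := fun j hj =>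
  (Nat.lt_or_ge j 99328).elim (facts_ok_upto99328 j) fun h =>
    checkFacts_spec _ _ _ _ _ _ items99328 99328 facts_ok99328 j h (lt_of_lt_of_eq hj (by decide +kernel))
theorem facts_ok_upto100352 : ∀ j < 100352, ∃ item, checkFact facts 18364758544493064720 words 576 subs 35228 j item = true := fun j hj =>
  (Nat.lt_or_ge j 99840).elim (facts_ok_upto99840 j) fun h =>
    checkFacts_spec _ _ _ _ _ _ items99840 99840 facts_ok99840 j h (lt_of_lt_of_eq hj (by decide +kernel))
theorem facts_ok_upto100864 : ∀ j < 100864, ∃ item, checkFact facts 18364758544493064720 words 576 subs 35228 j item = true := fun j hj =>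
  (Nat.lt_or_ge j 100352).elim (facts_ok_upto100352 j) fun h =>
    checkFacts_spec _ _ _ _ _ _ items100352 100352 facts_ok100352 j h (lt_of_lt_of_eq hj (by decide +kernel))
theorem facts_ok_upto101376 : ∀ j < 101376, ∃ item, checkFact facts 18364758544493064720 words 576 subs 35228 j item = true := fun j hj =>
  (Nat.lt_or_ge j 100864).elim (facts_ok_upto100864 j) fun h =>
    checkFacts_spec _ _ _ _ _ _ items100864 100864 facts_ok100864 j h (lt_of_lt_of_eq hj (by decide +kernel))
theorem facts_ok_upto101888 : ∀ j < 101888, ∃ item, checkFact facts 18364758544493064720 words 576 subs 35228 j item = true := fun j hj =>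
  (Nat.lt_or_ge j 101376).elim (facts_ok_upto101376 j) fun h =>
    checkFacts_spec _ _ _ _ _ _ items101376 101376 facts_ok101376 j h (lt_of_lt_of_eq hj (by decide +kernel))
theorem facts_ok_upto102400 : ∀ j < 102400, ∃ item, checkFact facts 18364758544493064720 words 576 subs 35228 j item = true := fun j hj =>
  (Nat.lt_or_ge j 101888).elim (facts_ok_upto101888 j) fun h =>
    checkFacts_spec _ _ _ _ _ _ items101888 101888 facts_ok101888 j h (lt_of_lt_of_eq hj (by decide +kernel))
theorem facts_ok_upto102912 : ∀ j < 102912, ∃ item, checkFact facts 18364758544493064720 words 576 subs 35228 j item = true := fun j hj =>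
  (Nat.lt_or_ge j 102400).elim (facts_ok_upto102400 j) fun h =>
    checkFacts_spec _ _ _ _ _ _ items102400 102400 facts_ok102400 j h (lt_of_lt_of_eq hj (by decide +kernel))
theorem facts_ok_upto103424 : ∀ j < 103424, ∃ item, checkFact facts 18364758544493064720 words 576 subs 35228 j item = true := fun j hj =>
  (Nat.lt_or_ge j 102912).elim (facts_ok_upto102912 j) fun h =>
    checkFacts_spec _ _ _ _ _ _ items102912 102912 facts_ok102912 j h (lt_of_lt_of_eq hj (by decide +kernel))
theorem facts_ok_upto103936 : ∀ j < 103936, ∃ item, checkFact facts 18364758544493064720 words 576 subs 35228 j item = true := fun j hj =>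
  (Nat.lt_or_ge j 103424).elim (facts_ok_upto103424 j) fun h =>
    checkFacts_spec _ _ _ _ _ _ items103424 103424 facts_ok103424 j h (lt_of_lt_of_eq hj (by decide +kernel))
theorem facts_ok_upto104448 : ∀ j < 104448, ∃ item, checkFact facts 18364758544493064720 words 576 subs 35228 j item = true := fun j hj =>
  (Nat.lt_or_ge j 103936).elim (facts_ok_upto103936 j) fun h =>
    checkFacts_spec _ _ _ _ _ _ items103936 103936 facts_ok103936 j h (lt_of_lt_of_eq hj (by decide +kernel))
theorem facts_ok_upto104960 : ∀ j < 104960, ∃ item, checkFact facts 18364758544493064720 words 576 subs 35228 j item = true := fun j hj =>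
  (Nat.lt_or_ge j 104448).elim (facts_ok_upto104448 j) fun h =>
    checkFacts_spec _ _ _ _ _ _ items104448 104448 facts_ok104448 j h (lt_of_lt_of_eq hj (by decide +kernel))
theorem facts_ok_upto105472 : ∀ j < 105472, ∃ item, checkFact facts 18364758544493064720 words 576 subs 35228 j item = true := fun j hj =>
  (Nat.lt_or_ge j 104960).elim (facts_ok_upto104960 j) fun h =>
    checkFacts_spec _ _ _ _ _ _ items104960 104960 facts_ok104960 j h (lt_of_lt_of_eq hj (by decide +kernel))
theorem facts_ok_upto105984 : ∀ j < 105984, ∃ item, checkFact facts 18364758544493064720 words 576 subs 35228 j item = true := fun j hj =>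
  (Nat.lt_or_ge j 105472).elim (facts_ok_upto105472 j) fun h =>
    checkFacts_spec _ _ _ _ _ _ items105472 105472 facts_ok105472 j h (lt_of_lt_of_eq hj (by decide +kernel))
theorem facts_ok_upto106496 : ∀ j < 106496, ∃ item, checkFact facts 18364758544493064720 words 576 subs 35228 j item = true := fun j hj =>
  (Nat.lt_or_ge j 105984).elim (facts_ok_upto105984 j) fun h =>
    checkFacts_spec _ _ _ _ _ _ items105984 105984 facts_ok105984 j h (lt_of_lt_of_eq hj (by decide +kernel))
theorem facts_ok_upto107008 : ∀ j < 107008, ∃ item, checkFact facts 18364758544493064720 words 576 subs 35228 j item = true := fun j hj =>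
  (Nat.lt_or_ge j 106496).elim (facts_ok_upto106496 j) fun h =>
    checkFacts_spec _ _ _ _ _ _ items106496 106496 facts_ok106496 j h (lt_of_lt_of_eq hj (by decide +kernel))
theorem facts_ok_upto107520 : ∀ j < 107520, ∃ item, checkFact facts 18364758544493064720 words 576 subs 35228 j item = true := fun j hj =>
  (Nat.lt_or_ge j 107008).elim (facts_ok_upto107008 j) fun h =>
    checkFacts_spec _ _ _ _ _ _ items107008 107008 facts_ok107008 j h (lt_of_lt_of_eq hj (by decide +kernel))
theorem facts_ok_upto108032 : ∀ j < 108032, ∃ item, checkFact facts 18364758544493064720 words 576 subs 35228 j item = true := fun j hj =>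
  (Nat.lt_or_ge j 107520).elim (facts_ok_upto107520 j) fun h =>
    checkFacts_spec _ _ _ _ _ _ items107520 107520 facts_ok107520 j h (lt_of_lt_of_eq hj (by decide +kernel))
theorem facts_ok_upto108544 : ∀ j < 108544, ∃ item, checkFact facts 18364758544493064720 words 576 subs 35228 j item = true := fun j hj =>
  (Nat.lt_or_ge j 108032).elim (facts_ok_upto108032 j) fun h =>
    checkFacts_spec _ _ _ _ _ _ items108032 108032 facts_ok108032 j h (lt_of_lt_of_eq hj (by decide +kernel))
theorem facts_ok_upto109056 : ∀ j < 109056, ∃ item, checkFact facts 18364758544493064720 words 576 subs 35228 j item = true := fun j hj =>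
  (Nat.lt_or_ge j 108544).elim (facts_ok_upto108544 j) fun h =>
    checkFacts_spec _ _ _ _ _ _ items108544 108544 facts_ok108544 j h (lt_of_lt_of_eq hj (by decide +kernel))
theorem facts_ok_upto109568 : ∀ j < 109568, ∃ item, checkFact facts 18364758544493064720 words 576 subs 35228 j item = true := fun j hj =>
  (Nat.lt_or_ge j 109056).elim (facts_ok_upto109056 j) fun h =>
    checkFacts_spec _ _ _ _ _ _ items109056 109056 facts_ok109056 j h (lt_of_lt_of_eq hj (by decide +kernel))
theorem facts_ok_upto110080 : ∀ j < 110080, ∃ item, checkFact facts 18364758544493064720 words 576 subs 35228 j item = true := fun j hj =>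
  (Nat.lt_or_ge j 109568).elim (facts_ok_upto109568 j) fun h =>
    checkFacts_spec _ _ _ _ _ _ items109568 109568 facts_ok109568 j h (lt_of_lt_of_eq hj (by decide +kernel))
theorem facts_ok_upto110592 : ∀ j < 110592, ∃ item, checkFact facts 18364758544493064720 words 576 subs 35228 j item = true := fun j hj =>
  (Nat.lt_or_ge j 110080).elim (facts_ok_upto110080 j) fun h =>
    checkFacts_spec _ _ _ _ _ _ items110080 110080 facts_ok110080 j h (lt_of_lt_of_eq hj (by decide +kernel))
theorem facts_ok_upto111104 : ∀ j < 111104, ∃ item, checkFact facts 18364758544493064720 words 576 subs 35228 j item = true := fun j hj =>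
  (Nat.lt_or_ge j 110592).elim (facts_ok_upto110592 j) fun h =>
    checkFacts_spec _ _ _ _ _ _ items110592 110592 facts_ok110592 j h (lt_of_lt_of_eq hj (by decide +kernel))
theorem facts_ok_upto111616 : ∀ j < 111616, ∃ item, checkFact facts 18364758544493064720 words 576 subs 35228 j item = true := fun j hj =>
  (Nat.lt_or_ge j 111104).elim (facts_ok_upto111104 j) fun h =>
    checkFacts_spec _ _ _ _ _ _ items111104 111104 facts_ok111104 j h (lt_of_lt_of_eq hj (by decide +kernel))
theorem facts_ok_upto112128 : ∀ j < 112128, ∃ item, checkFact facts 18364758544493064720 words 576 subs 35228 j item = true := fun j hj =>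
  (Nat.lt_or_ge j 111616).elim (facts_ok_upto111616 j) fun h =>
    checkFacts_spec _ _ _ _ _ _ items111616 111616 facts_ok111616 j h (lt_of_lt_of_eq hj (by decide +kernel))
theorem facts_ok_upto112640 : ∀ j < 112640, ∃ item, checkFact facts 18364758544493064720 words 576 subs 35228 j item = true := fun j hj =>
  (Nat.lt_or_ge j 112128).elim (facts_ok_upto112128 j) fun h =>
    checkFacts_spec _ _ _ _ _ _ items112128 112128 facts_ok112128 j h (lt_of_lt_of_eq hj (by decide +kernel))
theorem facts_ok_upto113152 : ∀ j < 113152, ∃ item, checkFact facts 18364758544493064720 words 576 subs 35228 j item = true := fun j hj =>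
  (Nat.lt_or_ge j 112640).elim (facts_ok_upto112640 j) fun h =>
    checkFacts_spec _ _ _ _ _ _ items112640 112640 facts_ok112640 j h (lt_of_lt_of_eq hj (by decide +kernel))
theorem facts_ok_upto113664 : ∀ j < 113664, ∃ item, checkFact facts 18364758544493064720 words 576 subs 35228 j item = true := fun j hj =>
  (Nat.lt_or_ge j 113152).elim (facts_ok_upto113152 j) fun h =>
    checkFacts_spec _ _ _ _ _ _ items113152 113152 facts_ok113152 j h (lt_of_lt_of_eq hj (by decide +kernel))
theorem facts_ok_upto114176 : ∀ j < 114176, ∃ item, checkFact facts 18364758544493064720 words 576 subs 35228 j item = true := fun j hj =>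
  (Nat.lt_or_ge j 113664).elim (facts_ok_upto113664 j) fun h =>
    checkFacts_spec _ _ _ _ _ _ items113664 113664 facts_ok113664 j h (lt_of_lt_of_eq hj (by decide +kernel))
theorem facts_ok_upto114688 : ∀ j < 114688, ∃ item, checkFact facts 18364758544493064720 words 576 subs 35228 j item = true := fun j hj =>
  (Nat.lt_or_ge j 114176).elim (facts_ok_upto114176 j) fun h =>
    checkFacts_spec _ _ _ _ _ _ items114176 114176 facts_ok114176 j h (lt_of_lt_of_eq hj (by decide +kernel))
theorem facts_ok_upto115200 : ∀ j < 115200, ∃ item, checkFact facts 18364758544493064720 words 576 subs 35228 j item = true := fun j hj =>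
  (Nat.lt_or_ge j 114688).elim (facts_ok_upto114688 j) fun h =>
    checkFacts_spec _ _ _ _ _ _ items114688 114688 facts_ok114688 j h (lt_of_lt_of_eq hj (by decide +kernel))
theorem facts_ok_upto115712 : ∀ j < 115712, ∃ item, checkFact facts 18364758544493064720 words 576 subs 35228 j item = true := fun j hj =>
  (Nat.lt_or_ge j 115200).elim (facts_ok_upto115200 j) fun h =>
    checkFacts_spec _ _ _ _ _ _ items115200 115200 facts_ok115200 j h (lt_of_lt_of_eq hj (by decide +kernel))
theorem facts_ok_upto116224 : ∀ j < 116224, ∃ item, checkFact facts 18364758544493064720 words 576 subs 35228 j item = true := fun j hj =>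
  (Nat.lt_or_ge j 115712).elim (facts_ok_upto115712 j) fun h =>
    checkFacts_spec _ _ _ _ _ _ items115712 115712 facts_ok115712 j h (lt_of_lt_of_eq hj (by decide +kernel))
theorem facts_ok_upto116736 : ∀ j < 116736, ∃ item, checkFact facts 18364758544493064720 words 576 subs 35228 j item = true := fun j hj =>
  (Nat.lt_or_ge j 116224).elim (facts_ok_upto116224 j) fun h =>
    checkFacts_spec _ _ _ _ _ _ items116224 116224 facts_ok116224 j h (lt_of_lt_of_eq hj (by decide +kernel))
theorem facts_ok_upto117248 : ∀ j < 117248, ∃ item, checkFact facts 18364758544493064720 words 576 subs 35228 j item = true := fun j hj =>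
  (Nat.lt_or_ge j 116736).elim (facts_ok_upto116736 j) fun h =>
    checkFacts_spec _ _ _ _ _ _ items116736 116736 facts_ok116736 j h (lt_of_lt_of_eq hj (by decide +kernel))
theorem facts_ok_upto117760 : ∀ j < 117760, ∃ item, checkFact facts 18364758544493064720 words 576 subs 35228 j item = true := fun j hj =>
  (Nat.lt_or_ge j 117248).elim (facts_ok_upto117248 j) fun h =>
    checkFacts_spec _ _ _ _ _ _ items117248 117248 facts_ok117248 j h (lt_of_lt_of_eq hj (by decide +kernel))
theorem facts_ok_upto118272 : ∀ j < 118272, ∃ item, checkFact facts 18364758544493064720 words 576 subs 35228 j item = true := fun j hj =>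
  (Nat.lt_or_ge j 117760).elim (facts_ok_upto117760 j) fun h =>
    checkFacts_spec _ _ _ _ _ _ items117760 117760 facts_ok117760 j h (lt_of_lt_of_eq hj (by decide +kernel))
theorem facts_ok_upto118784 : ∀ j < 118784, ∃ item, checkFact facts 18364758544493064720 words 576 subs 35228 j item = true := fun j hj =>
  (Nat.lt_or_ge j 118272).elim (facts_ok_upto118272 j) fun h =>
    checkFacts_spec _ _ _ _ _ _ items118272 118272 facts_ok118272 j h (lt_of_lt_of_eq hj (by decide +kernel))
theorem facts_ok_upto119296 : ∀ j < 119296, ∃ item, checkFact facts 18364758544493064720 words 576 subs 35228 j item = true := fun j hj =>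
  (Nat.lt_or_ge j 118784).elim (facts_ok_upto118784 j) fun h =>
    checkFacts_spec _ _ _ _ _ _ items118784 118784 facts_ok118784 j h (lt_of_lt_of_eq hj (by decide +kernel))
theorem facts_ok_upto119808 : ∀ j < 119808, ∃ item, checkFact facts 18364758544493064720 words 576 subs 35228 j item = true := fun j hj =>
  (Nat.lt_or_ge j 119296).elim (facts_ok_upto119296 j) fun h =>
    checkFacts_spec _ _ _ _ _ _ items119296 119296 facts_ok119296 j h (lt_of_lt_of_eq hj (by decide +kernel))
theorem facts_ok_upto120320 : ∀ j < 120320, ∃ item, checkFact facts 18364758544493064720 words 576 subs 35228 j item = true := fun j hj =>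
  (Nat.lt_or_ge j 119808).elim (facts_ok_upto119808 j) fun h =>
    checkFacts_spec _ _ _ _ _ _ items119808 119808 facts_ok119808 j h (lt_of_lt_of_eq hj (by decide +kernel))
theorem facts_ok_upto120832 : ∀ j < 120832, ∃ item, checkFact facts 18364758544493064720 words 576 subs 35228 j item = true := fun j hj =>
  (Nat.lt_or_ge j 120320).elim (facts_ok_upto120320 j) fun h =>
    checkFacts_spec _ _ _ _ _ _ items120320 120320 facts_ok120320 j h (lt_of_lt_of_eq hj (by decide +kernel))
theorem facts_ok_upto121344 : ∀ j < 121344, ∃ item, checkFact facts 18364758544493064720 words 576 subs 35228 j item = true := fun j hj =>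
  (Nat.lt_or_ge j 120832).elim (facts_ok_upto120832 j) fun h =>
    checkFacts_spec _ _ _ _ _ _ items120832 120832 facts_ok120832 j h (lt_of_lt_of_eq hj (by decide +kernel))
theorem facts_ok_upto121856 : ∀ j < 121856, ∃ item, checkFact facts 18364758544493064720 words 576 subs 35228 j item = true := fun j hj =>
  (Nat.lt_or_ge j 121344).elim (facts_ok_upto121344 j) fun h =>
    checkFacts_spec _ _ _ _ _ _ items121344 121344 facts_ok121344 j h (lt_of_lt_of_eq hj (by decide +kernel))
theorem facts_ok_upto122368 : ∀ j < 122368, ∃ item, checkFact facts 18364758544493064720 words 576 subs 35228 j item = true := fun j hj =>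
  (Nat.lt_or_ge j 121856).elim (facts_ok_upto121856 j) fun h =>
    checkFacts_spec _ _ _ _ _ _ items121856 121856 facts_ok121856 j h (lt_of_lt_of_eq hj (by decide +kernel))
theorem facts_ok_upto122880 : ∀ j < 122880, ∃ item, checkFact facts 18364758544493064720 words 576 subs 35228 j item = true := fun j hj =>
  (Nat.lt_or_ge j 122368).elim (facts_ok_upto122368 j) fun h =>
    checkFacts_spec _ _ _ _ _ _ items122368 122368 facts_ok122368 j h (lt_of_lt_of_eq hj (by decide +kernel))
theorem facts_ok_upto123392 : ∀ j < 123392, ∃ item, checkFact facts 18364758544493064720 words 576 subs 35228 j item = true := fun j hj =>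
  (Nat.lt_or_ge j 122880).elim (facts_ok_upto122880 j) fun h =>
    checkFacts_spec _ _ _ _ _ _ items122880 122880 facts_ok122880 j h (lt_of_lt_of_eq hj (by decide +kernel))
theorem facts_ok_upto123904 : ∀ j < 123904, ∃ item, checkFact facts 18364758544493064720 words 576 subs 35228 j item = true := fun j hj =>
  (Nat.lt_or_ge j 123392).elim (facts_ok_upto123392 j) fun h =>
    checkFacts_spec _ _ _ _ _ _ items123392 123392 facts_ok123392 j h (lt_of_lt_of_eq hj (by decide +kernel))
theorem facts_ok_upto124416 : ∀ j < 124416, ∃ item, checkFact facts 18364758544493064720 words 576 subs 35228 j item = true := fun j hj =>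
  (Nat.lt_or_ge j 123904).elim (facts_ok_upto123904 j) fun h =>
    checkFacts_spec _ _ _ _ _ _ items123904 123904 facts_ok123904 j h (lt_of_lt_of_eq hj (by decide +kernel))
theorem facts_ok_upto124928 : ∀ j < 124928, ∃ item, checkFact facts 18364758544493064720 words 576 subs 35228 j item = true := fun j hj =>
  (Nat.lt_or_ge j 124416).elim (facts_ok_upto124416 j) fun h =>
    checkFacts_spec _ _ _ _ _ _ items124416 124416 facts_ok124416 j h (lt_of_lt_of_eq hj (by decide +kernel))
theorem facts_ok_upto125440 : ∀ j < 125440, ∃ item, checkFact facts 18364758544493064720 words 576 subs 35228 j item = true := fun j hj =>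
  (Nat.lt_or_ge j 124928).elim (facts_ok_upto124928 j) fun h =>
    checkFacts_spec _ _ _ _ _ _ items124928 124928 facts_ok124928 j h (lt_of_lt_of_eq hj (by decide +kernel))
theorem facts_ok_upto125952 : ∀ j < 125952, ∃ item, checkFact facts 18364758544493064720 words 576 subs 35228 j item = true := fun j hj =>
  (Nat.lt_or_ge j 125440).elim (facts_ok_upto125440 j) fun h =>
    checkFacts_spec _ _ _ _ _ _ items125440 125440 facts_ok125440 j h (lt_of_lt_of_eq hj (by decide +kernel))
theorem facts_ok_upto126464 : ∀ j < 126464, ∃ item, checkFact facts 18364758544493064720 words 576 subs 35228 j item = true := fun j hj =>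
  (Nat.lt_or_ge j 125952).elim (facts_ok_upto125952 j) fun h =>
    checkFacts_spec _ _ _ _ _ _ items125952 125952 facts_ok125952 j h (lt_of_lt_of_eq hj (by decide +kernel))
theorem facts_ok_upto126976 : ∀ j < 126976, ∃ item, checkFact facts 18364758544493064720 words 576 subs 35228 j item = true := fun j hj =>
  (Nat.lt_or_ge j 126464).elim (facts_ok_upto126464 j) fun h =>
    checkFacts_spec _ _ _ _ _ _ items126464 126464 facts_ok126464 j h (lt_of_lt_of_eq hj (by decide +kernel))
theorem facts_ok_upto127488 : ∀ j < 127488, ∃ item, checkFact facts 18364758544493064720 words 576 subs 35228 j item = true := fun j hj =>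
  (Nat.lt_or_ge j 126976).elim (facts_ok_upto126976 j) fun h =>
    checkFacts_spec _ _ _ _ _ _ items126976 126976 facts_ok126976 j h (lt_of_lt_of_eq hj (by decide +kernel))
theorem facts_ok_upto128000 : ∀ j < 128000, ∃ item, checkFact facts 18364758544493064720 words 576 subs 35228 j item = true := fun j hj =>
  (Nat.lt_or_ge j 127488).elim (facts_ok_upto127488 j) fun h =>
    checkFacts_spec _ _ _ _ _ _ items127488 127488 facts_ok127488 j h (lt_of_lt_of_eq hj (by decide +kernel))
theorem facts_ok_upto128512 : ∀ j < 128512, ∃ item, checkFact facts 18364758544493064720 words 576 subs 35228 j item = true := fun j hj =>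
  (Nat.lt_or_ge j 128000).elim (facts_ok_upto128000 j) fun h =>
    checkFacts_spec _ _ _ _ _ _ items128000 128000 facts_ok128000 j h (lt_of_lt_of_eq hj (by decide +kernel))
theorem facts_ok_upto129024 : ∀ j < 129024, ∃ item, checkFact facts 18364758544493064720 words 576 subs 35228 j item = true := fun j hj =>
  (Nat.lt_or_ge j 128512).elim (facts_ok_upto128512 j) fun h =>
    checkFacts_spec _ _ _ _ _ _ items128512 128512 facts_ok128512 j h (lt_of_lt_of_eq hj (by decide +kernel))
theorem facts_ok_upto129536 : ∀ j < 129536, ∃ item, checkFact facts 18364758544493064720 words 576 subs 35228 j item = true := fun j hj =>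
  (Nat.lt_or_ge j 129024).elim (facts_ok_upto129024 j) fun h =>
    checkFacts_spec _ _ _ _ _ _ items129024 129024 facts_ok129024 j h (lt_of_lt_of_eq hj (by decide +kernel))
theorem facts_ok_upto130048 : ∀ j < 130048, ∃ item, checkFact facts 18364758544493064720 words 576 subs 35228 j item = true := fun j hj =>
  (Nat.lt_or_ge j 129536).elim (facts_ok_upto129536 j) fun h =>
    checkFacts_spec _ _ _ _ _ _ items129536 129536 facts_ok129536 j h (lt_of_lt_of_eq hj (by decide +kernel))
theorem facts_ok_upto130560 : ∀ j < 130560, ∃ item, checkFact facts 18364758544493064720 words 576 subs 35228 j item = true := fun j hj =>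
  (Nat.lt_or_ge j 130048).elim (facts_ok_upto130048 j) fun h =>
    checkFacts_spec _ _ _ _ _ _ items130048 130048 facts_ok130048 j h (lt_of_lt_of_eq hj (by decide +kernel))
theorem facts_ok_upto131072 : ∀ j < 131072, ∃ item, checkFact facts 18364758544493064720 words 576 subs 35228 j item = true := fun j hj =>
  (Nat.lt_or_ge j 130560).elim (facts_ok_upto130560 j) fun h =>
    checkFacts_spec _ _ _ _ _ _ items130560 130560 facts_ok130560 j h (lt_of_lt_of_eq hj (by decide +kernel))
theorem facts_ok_upto131584 : ∀ j < 131584, ∃ item, checkFact facts 18364758544493064720 words 576 subs 35228 j item = true := fun j hj =>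
  (Nat.lt_or_ge j 131072).elim (facts_ok_upto131072 j) fun h =>
    checkFacts_spec _ _ _ _ _ _ items131072 131072 facts_ok131072 j h (lt_of_lt_of_eq hj (by decide +kernel))
theorem facts_ok_upto132096 : ∀ j < 132096, ∃ item, checkFact facts 18364758544493064720 words 576 subs 35228 j item = true := fun j hj =>
  (Nat.lt_or_ge j 131584).elim (facts_ok_upto131584 j) fun h =>
    checkFacts_spec _ _ _ _ _ _ items131584 131584 facts_ok131584 j h (lt_of_lt_of_eq hj (by decide +kernel))
theorem facts_ok_upto132608 : ∀ j < 132608, ∃ item, checkFact facts 18364758544493064720 words 576 subs 35228 j item = true := fun j hj =>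
  (Nat.lt_or_ge j 132096).elim (facts_ok_upto132096 j) fun h =>
    checkFacts_spec _ _ _ _ _ _ items132096 132096 facts_ok132096 j h (lt_of_lt_of_eq hj (by decide +kernel))
theorem facts_ok_upto133120 : ∀ j < 133120, ∃ item, checkFact facts 18364758544493064720 words 576 subs 35228 j item = true := fun j hj =>
  (Nat.lt_or_ge j 132608).elim (facts_ok_upto132608 j) fun h =>
    checkFacts_spec _ _ _ _ _ _ items132608 132608 facts_ok132608 j h (lt_of_lt_of_eq hj (by decide +kernel))
theorem facts_ok_upto133632 : ∀ j < 133632, ∃ item, checkFact facts 18364758544493064720 words 576 subs 35228 j item = true := fun j hj =>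
  (Nat.lt_or_ge j 133120).elim (facts_ok_upto133120 j) fun h =>
    checkFacts_spec _ _ _ _ _ _ items133120 133120 facts_ok133120 j h (lt_of_lt_of_eq hj (by decide +kernel))
theorem facts_ok_upto134144 : ∀ j < 134144, ∃ item, checkFact facts 18364758544493064720 words 576 subs 35228 j item = true := fun j hj =>
  (Nat.lt_or_ge j 133632).elim (facts_ok_upto133632 j) fun h =>
    checkFacts_spec _ _ _ _ _ _ items133632 133632 facts_ok133632 j h (lt_of_lt_of_eq hj (by decide +kernel))
theorem facts_ok_upto134656 : ∀ j < 134656, ∃ item, checkFact facts 18364758544493064720 words 576 subs 35228 j item = true := fun j hj =>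
  (Nat.lt_or_ge j 134144).elim (facts_ok_upto134144 j) fun h =>
    checkFacts_spec _ _ _ _ _ _ items134144 134144 facts_ok134144 j h (lt_of_lt_of_eq hj (by decide +kernel))
theorem facts_ok_upto135168 : ∀ j < 135168, ∃ item, checkFact facts 18364758544493064720 words 576 subs 35228 j item = true := fun j hj =>
  (Nat.lt_or_ge j 134656).elim (facts_ok_upto134656 j) fun h =>
    checkFacts_spec _ _ _ _ _ _ items134656 134656 facts_ok134656 j h (lt_of_lt_of_eq hj (by decide +kernel))
theorem facts_ok_upto135680 : ∀ j < 135680, ∃ item, checkFact facts 18364758544493064720 words 576 subs 35228 j item = true := fun j hj =>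
  (Nat.lt_or_ge j 135168).elim (facts_ok_upto135168 j) fun h =>
    checkFacts_spec _ _ _ _ _ _ items135168 135168 facts_ok135168 j h (lt_of_lt_of_eq hj (by decide +kernel))
theorem facts_ok_upto136192 : ∀ j < 136192, ∃ item, checkFact facts 18364758544493064720 words 576 subs 35228 j item = true := fun j hj =>
  (Nat.lt_or_ge j 135680).elim (facts_ok_upto135680 j) fun h =>
    checkFacts_spec _ _ _ _ _ _ items135680 135680 facts_ok135680 j h (lt_of_lt_of_eq hj (by decide +kernel))
theorem facts_ok_upto136704 : ∀ j < 136704, ∃ item, checkFact facts 18364758544493064720 words 576 subs 35228 j item = true := fun j hj =>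
  (Nat.lt_or_ge j 136192).elim (facts_ok_upto136192 j) fun h =>
    checkFacts_spec _ _ _ _ _ _ items136192 136192 facts_ok136192 j h (lt_of_lt_of_eq hj (by decide +kernel))
theorem facts_ok_upto137216 : ∀ j < 137216, ∃ item, checkFact facts 18364758544493064720 words 576 subs 35228 j item = true := fun j hj =>
  (Nat.lt_or_ge j 136704).elim (facts_ok_upto136704 j) fun h =>
    checkFacts_spec _ _ _ _ _ _ items136704 136704 facts_ok136704 j h (lt_of_lt_of_eq hj (by decide +kernel))
theorem facts_ok_upto137728 : ∀ j < 137728, ∃ item, checkFact facts 18364758544493064720 words 576 subs 35228 j item = true := fun j hj =>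
  (Nat.lt_or_ge j 137216).elim (facts_ok_upto137216 j) fun h =>
    checkFacts_spec _ _ _ _ _ _ items137216 137216 facts_ok137216 j h (lt_of_lt_of_eq hj (by decide +kernel))
theorem facts_ok_upto138240 : ∀ j < 138240, ∃ item, checkFact facts 18364758544493064720 words 576 subs 35228 j item = true := fun j hj =>
  (Nat.lt_or_ge j 137728).elim (facts_ok_upto137728 j) fun h =>
    checkFacts_spec _ _ _ _ _ _ items137728 137728 facts_ok137728 j h (lt_of_lt_of_eq hj (by decide +kernel))
theorem facts_ok_upto138752 : ∀ j < 138752, ∃ item, checkFact facts 18364758544493064720 words 576 subs 35228 j item = true := fun j hj =>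
  (Nat.lt_or_ge j 138240).elim (facts_ok_upto138240 j) fun h =>
    checkFacts_spec _ _ _ _ _ _ items138240 138240 facts_ok138240 j h (lt_of_lt_of_eq hj (by decide +kernel))
theorem facts_ok_upto139264 : ∀ j < 139264, ∃ item, checkFact facts 18364758544493064720 words 576 subs 35228 j item = true := fun j hj =>
  (Nat.lt_or_ge j 138752).elim (facts_ok_upto138752 j) fun h =>
    checkFacts_spec _ _ _ _ _ _ items138752 138752 facts_ok138752 j h (lt_of_lt_of_eq hj (by decide +kernel))
theorem facts_ok_upto139776 : ∀ j < 139776, ∃ item, checkFact facts 18364758544493064720 words 576 subs 35228 j item = true := fun j hj =>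
  (Nat.lt_or_ge j 139264).elim (facts_ok_upto139264 j) fun h =>
    checkFacts_spec _ _ _ _ _ _ items139264 139264 facts_ok139264 j h (lt_of_lt_of_eq hj (by decide +kernel))
theorem facts_ok_upto140288 : ∀ j < 140288, ∃ item, checkFact facts 18364758544493064720 words 576 subs 35228 j item = true := fun j hj =>
  (Nat.lt_or_ge j 139776).elim (facts_ok_upto139776 j) fun h =>
    checkFacts_spec _ _ _ _ _ _ items139776 139776 facts_ok139776 j h (lt_of_lt_of_eq hj (by decide +kernel))
theorem facts_ok_upto140800 : ∀ j < 140800, ∃ item, checkFact facts 18364758544493064720 words 576 subs 35228 j item = true := fun j hj =>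
  (Nat.lt_or_ge j 140288).elim (facts_ok_upto140288 j) fun h =>
    checkFacts_spec _ _ _ _ _ _ items140288 140288 facts_ok140288 j h (lt_of_lt_of_eq hj (by decide +kernel))
theorem facts_ok_upto141312 : ∀ j < 141312, ∃ item, checkFact facts 18364758544493064720 words 576 subs 35228 j item = true := fun j hj =>
  (Nat.lt_or_ge j 140800).elim (facts_ok_upto140800 j) fun h =>
    checkFacts_spec _ _ _ _ _ _ items140800 140800 facts_ok140800 j h (lt_of_lt_of_eq hj (by decide +kernel))
theorem facts_ok_upto141824 : ∀ j < 141824, ∃ item, checkFact facts 18364758544493064720 words 576 subs 35228 j item = true := fun j hj =>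
  (Nat.lt_or_ge j 141312).elim (facts_ok_upto141312 j) fun h =>
    checkFacts_spec _ _ _ _ _ _ items141312 141312 facts_ok141312 j h (lt_of_lt_of_eq hj (by decide +kernel))
theorem facts_ok_upto142336 : ∀ j < 142336, ∃ item, checkFact facts 18364758544493064720 words 576 subs 35228 j item = true := fun j hj =>
  (Nat.lt_or_ge j 141824).elim (facts_ok_upto141824 j) fun h =>
    checkFacts_spec _ _ _ _ _ _ items141824 141824 facts_ok141824 j h (lt_of_lt_of_eq hj (by decide +kernel))
theorem facts_ok_upto142848 : ∀ j < 142848, ∃ item, checkFact facts 18364758544493064720 words 576 subs 35228 j item = true := fun j hj =>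
  (Nat.lt_or_ge j 142336).elim (facts_ok_upto142336 j) fun h =>
    checkFacts_spec _ _ _ _ _ _ items142336 142336 facts_ok142336 j h (lt_of_lt_of_eq hj (by decide +kernel))
theorem facts_ok_upto143360 : ∀ j < 143360, ∃ item, checkFact facts 18364758544493064720 words 576 subs 35228 j item = true := fun j hj =>
  (Nat.lt_or_ge j 142848).elim (facts_ok_upto142848 j) fun h =>
    checkFacts_spec _ _ _ _ _ _ items142848 142848 facts_ok142848 j h (lt_of_lt_of_eq hj (by decide +kernel))
theorem facts_ok_upto143872 : ∀ j < 143872, ∃ item, checkFact facts 18364758544493064720 words 576 subs 35228 j item = true := fun j hj =>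
  (Nat.lt_or_ge j 143360).elim (facts_ok_upto143360 j) fun h =>
    checkFacts_spec _ _ _ _ _ _ items143360 143360 facts_ok143360 j h (lt_of_lt_of_eq hj (by decide +kernel))
theorem facts_ok_upto144384 : ∀ j < 144384, ∃ item, checkFact facts 18364758544493064720 words 576 subs 35228 j item = true := fun j hj =>
  (Nat.lt_or_ge j 143872).elim (facts_ok_upto143872 j) fun h =>
    checkFacts_spec _ _ _ _ _ _ items143872 143872 facts_ok143872 j h (lt_of_lt_of_eq hj (by decide +kernel))
theorem facts_ok_upto144896 : ∀ j < 144896, ∃ item, checkFact facts 18364758544493064720 words 576 subs 35228 j item = true := fun j hj =>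
  (Nat.lt_or_ge j 144384).elim (facts_ok_upto144384 j) fun h =>
    checkFacts_spec _ _ _ _ _ _ items144384 144384 facts_ok144384 j h (lt_of_lt_of_eq hj (by decide +kernel))
theorem facts_ok_upto145408 : ∀ j < 145408, ∃ item, checkFact facts 18364758544493064720 words 576 subs 35228 j item = true := fun j hj =>
  (Nat.lt_or_ge j 144896).elim (facts_ok_upto144896 j) fun h =>
    checkFacts_spec _ _ _ _ _ _ items144896 144896 facts_ok144896 j h (lt_of_lt_of_eq hj (by decide +kernel))
theorem facts_ok_upto145920 : ∀ j < 145920, ∃ item, checkFact facts 18364758544493064720 words 576 subs 35228 j item = true := fun j hj =>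
  (Nat.lt_or_ge j 145408).elim (facts_ok_upto145408 j) fun h =>
    checkFacts_spec _ _ _ _ _ _ items145408 145408 facts_ok145408 j h (lt_of_lt_of_eq hj (by decide +kernel))
theorem facts_ok_upto146432 : ∀ j < 146432, ∃ item, checkFact facts 18364758544493064720 words 576 subs 35228 j item = true := fun j hj =>
  (Nat.lt_or_ge j 145920).elim (facts_ok_upto145920 j) fun h =>
    checkFacts_spec _ _ _ _ _ _ items145920 145920 facts_ok145920 j h (lt_of_lt_of_eq hj (by decide +kernel))
theorem facts_ok_upto146944 : ∀ j < 146944, ∃ item, checkFact facts 18364758544493064720 words 576 subs 35228 j item = true := fun j hj =>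
  (Nat.lt_or_ge j 146432).elim (facts_ok_upto146432 j) fun h =>
    checkFacts_spec _ _ _ _ _ _ items146432 146432 facts_ok146432 j h (lt_of_lt_of_eq hj (by decide +kernel))
theorem facts_ok_upto147456 : ∀ j < 147456, ∃ item, checkFact facts 18364758544493064720 words 576 subs 35228 j item = true := fun j hj =>
  (Nat.lt_or_ge j 146944).elim (facts_ok_upto146944 j) fun h =>
    checkFacts_spec _ _ _ _ _ _ items146944 146944 facts_ok146944 j h (lt_of_lt_of_eq hj (by decide +kernel))
theorem facts_ok_upto147968 : ∀ j < 147968, ∃ item, checkFact facts 18364758544493064720 words 576 subs 35228 j item = true := fun j hj =>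
  (Nat.lt_or_ge j 147456).elim (facts_ok_upto147456 j) fun h =>
    checkFacts_spec _ _ _ _ _ _ items147456 147456 facts_ok147456 j h (lt_of_lt_of_eq hj (by decide +kernel))
theorem facts_ok_upto148480 : ∀ j < 148480, ∃ item, checkFact facts 18364758544493064720 words 576 subs 35228 j item = true := fun j hj =>
  (Nat.lt_or_ge j 147968).elim (facts_ok_upto147968 j) fun h =>
    checkFacts_spec _ _ _ _ _ _ items147968 147968 facts_ok147968 j h (lt_of_lt_of_eq hj (by decide +kernel))
theorem facts_ok_upto148992 : ∀ j < 148992, ∃ item, checkFact facts 18364758544493064720 words 576 subs 35228 j item = true := fun j hj =>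
  (Nat.lt_or_ge j 148480).elim (facts_ok_upto148480 j) fun h =>
    checkFacts_spec _ _ _ _ _ _ items148480 148480 facts_ok148480 j h (lt_of_lt_of_eq hj (by decide +kernel))
theorem facts_ok_upto149504 : ∀ j < 149504, ∃ item, checkFact facts 18364758544493064720 words 576 subs 35228 j item = true := fun j hj =>
  (Nat.lt_or_ge j 148992).elim (facts_ok_upto148992 j) fun h =>
    checkFacts_spec _ _ _ _ _ _ items148992 148992 facts_ok148992 j h (lt_of_lt_of_eq hj (by decide +kernel))
theorem facts_ok_upto150016 : ∀ j < 150016, ∃ item, checkFact facts 18364758544493064720 words 576 subs 35228 j item = true := fun j hj =>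
  (Nat.lt_or_ge j 149504).elim (facts_ok_upto149504 j) fun h =>
    checkFacts_spec _ _ _ _ _ _ items149504 149504 facts_ok149504 j h (lt_of_lt_of_eq hj (by decide +kernel))
theorem facts_ok_upto150528 : ∀ j < 150528, ∃ item, checkFact facts 18364758544493064720 words 576 subs 35228 j item = true := fun j hj =>
  (Nat.lt_or_ge j 150016).elim (facts_ok_upto150016 j) fun h =>
    checkFacts_spec _ _ _ _ _ _ items150016 150016 facts_ok150016 j h (lt_of_lt_of_eq hj (by decide +kernel))
theorem facts_ok_upto151040 : ∀ j < 151040, ∃ item, checkFact facts 18364758544493064720 words 576 subs 35228 j item = true := fun j hj =>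
  (Nat.lt_or_ge j 150528).elim (facts_ok_upto150528 j) fun h =>
    checkFacts_spec _ _ _ _ _ _ items150528 150528 facts_ok150528 j h (lt_of_lt_of_eq hj (by decide +kernel))
theorem facts_ok_upto151552 : ∀ j < 151552, ∃ item, checkFact facts 18364758544493064720 words 576 subs 35228 j item = true := fun j hj =>
  (Nat.lt_or_ge j 151040).elim (facts_ok_upto151040 j) fun h =>
    checkFacts_spec _ _ _ _ _ _ items151040 151040 facts_ok151040 j h (lt_of_lt_of_eq hj (by decide +kernel))
theorem facts_ok_upto152064 : ∀ j < 152064, ∃ item, checkFact facts 18364758544493064720 words 576 subs 35228 j item = true := fun j hj =>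
  (Nat.lt_or_ge j 151552).elim (facts_ok_upto151552 j) fun h =>
    checkFacts_spec _ _ _ _ _ _ items151552 151552 facts_ok151552 j h (lt_of_lt_of_eq hj (by decide +kernel))
theorem facts_ok_upto152576 : ∀ j < 152576, ∃ item, checkFact facts 18364758544493064720 words 576 subs 35228 j item = true := fun j hj =>
  (Nat.lt_or_ge j 152064).elim (facts_ok_upto152064 j) fun h =>
    checkFacts_spec _ _ _ _ _ _ items152064 152064 facts_ok152064 j h (lt_of_lt_of_eq hj (by decide +kernel))
theorem facts_ok_upto153088 : ∀ j < 153088, ∃ item, checkFact facts 18364758544493064720 words 576 subs 35228 j item = true := fun j hj =>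
  (Nat.lt_or_ge j 152576).elim (facts_ok_upto152576 j) fun h =>
    checkFacts_spec _ _ _ _ _ _ items152576 152576 facts_ok152576 j h (lt_of_lt_of_eq hj (by decide +kernel))
theorem facts_ok_upto153600 : ∀ j < 153600, ∃ item, checkFact facts 18364758544493064720 words 576 subs 35228 j item = true := fun j hj =>
  (Nat.lt_or_ge j 153088).elim (facts_ok_upto153088 j) fun h =>
    checkFacts_spec _ _ _ _ _ _ items153088 153088 facts_ok153088 j h (lt_of_lt_of_eq hj (by decide +kernel))
theorem facts_ok_upto154112 : ∀ j < 154112, ∃ item, checkFact facts 18364758544493064720 words 576 subs 35228 j item = true := fun j hj =>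
  (Nat.lt_or_ge j 153600).elim (facts_ok_upto153600 j) fun h =>
    checkFacts_spec _ _ _ _ _ _ items153600 153600 facts_ok153600 j h (lt_of_lt_of_eq hj (by decide +kernel))
theorem facts_ok_upto154624 : ∀ j < 154624, ∃ item, checkFact facts 18364758544493064720 words 576 subs 35228 j item = true := fun j hj =>
  (Nat.lt_or_ge j 154112).elim (facts_ok_upto154112 j) fun h =>
    checkFacts_spec _ _ _ _ _ _ items154112 154112 facts_ok154112 j h (lt_of_lt_of_eq hj (by decide +kernel))
theorem facts_ok_upto155136 : ∀ j < 155136, ∃ item, checkFact facts 18364758544493064720 words 576 subs 35228 j item = true := fun j hj =>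
  (Nat.lt_or_ge j 154624).elim (facts_ok_upto154624 j) fun h =>
    checkFacts_spec _ _ _ _ _ _ items154624 154624 facts_ok154624 j h (lt_of_lt_of_eq hj (by decide +kernel))
theorem facts_ok_upto155648 : ∀ j < 155648, ∃ item, checkFact facts 18364758544493064720 words 576 subs 35228 j item = true := fun j hj =>
  (Nat.lt_or_ge j 155136).elim (facts_ok_upto155136 j) fun h =>
    checkFacts_spec _ _ _ _ _ _ items155136 155136 facts_ok155136 j h (lt_of_lt_of_eq hj (by decide +kernel))
theorem facts_ok_upto156160 : ∀ j < 156160, ∃ item, checkFact facts 18364758544493064720 words 576 subs 35228 j item = true := fun j hj =>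
  (Nat.lt_or_ge j 155648).elim (facts_ok_upto155648 j) fun h =>
    checkFacts_spec _ _ _ _ _ _ items155648 155648 facts_ok155648 j h (lt_of_lt_of_eq hj (by decide +kernel))
theorem facts_ok_upto156672 : ∀ j < 156672, ∃ item, checkFact facts 18364758544493064720 words 576 subs 35228 j item = true := fun j hj =>
  (Nat.lt_or_ge j 156160).elim (facts_ok_upto156160 j) fun h =>
    checkFacts_spec _ _ _ _ _ _ items156160 156160 facts_ok156160 j h (lt_of_lt_of_eq hj (by decide +kernel))
theorem facts_ok_upto157184 : ∀ j < 157184, ∃ item, checkFact facts 18364758544493064720 words 576 subs 35228 j item = true := fun j hj =>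
  (Nat.lt_or_ge j 156672).elim (facts_ok_upto156672 j) fun h =>
    checkFacts_spec _ _ _ _ _ _ items156672 156672 facts_ok156672 j h (lt_of_lt_of_eq hj (by decide +kernel))
theorem facts_ok_upto157696 : ∀ j < 157696, ∃ item, checkFact facts 18364758544493064720 words 576 subs 35228 j item = true := fun j hj =>
  (Nat.lt_or_ge j 157184).elim (facts_ok_upto157184 j) fun h =>
    checkFacts_spec _ _ _ _ _ _ items157184 157184 facts_ok157184 j h (lt_of_lt_of_eq hj (by decide +kernel))
theorem facts_ok_upto158208 : ∀ j < 158208, ∃ item, checkFact facts 18364758544493064720 words 576 subs 35228 j item = true := fun j hj =>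
  (Nat.lt_or_ge j 157696).elim (facts_ok_upto157696 j) fun h =>
    checkFacts_spec _ _ _ _ _ _ items157696 157696 facts_ok157696 j h (lt_of_lt_of_eq hj (by decide +kernel))
theorem facts_ok_upto158720 : ∀ j < 158720, ∃ item, checkFact facts 18364758544493064720 words 576 subs 35228 j item = true := fun j hj =>
  (Nat.lt_or_ge j 158208).elim (facts_ok_upto158208 j) fun h =>
    checkFacts_spec _ _ _ _ _ _ items158208 158208 facts_ok158208 j h (lt_of_lt_of_eq hj (by decide +kernel))
theorem facts_ok_upto159232 : ∀ j < 159232, ∃ item, checkFact facts 18364758544493064720 words 576 subs 35228 j item = true := fun j hj =>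
  (Nat.lt_or_ge j 158720).elim (facts_ok_upto158720 j) fun h =>
    checkFacts_spec _ _ _ _ _ _ items158720 158720 facts_ok158720 j h (lt_of_lt_of_eq hj (by decide +kernel))
theorem facts_ok_upto159744 : ∀ j < 159744, ∃ item, checkFact facts 18364758544493064720 words 576 subs 35228 j item = true := fun j hj =>
  (Nat.lt_or_ge j 159232).elim (facts_ok_upto159232 j) fun h =>
    checkFacts_spec _ _ _ _ _ _ items159232 159232 facts_ok159232 j h (lt_of_lt_of_eq hj (by decide +kernel))
theorem facts_ok_upto160256 : ∀ j < 160256, ∃ item, checkFact facts 18364758544493064720 words 576 subs 35228 j item = true := fun j hj =>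
  (Nat.lt_or_ge j 159744).elim (facts_ok_upto159744 j) fun h =>
    checkFacts_spec _ _ _ _ _ _ items159744 159744 facts_ok159744 j h (lt_of_lt_of_eq hj (by decide +kernel))
theorem facts_ok_upto160768 : ∀ j < 160768, ∃ item, checkFact facts 18364758544493064720 words 576 subs 35228 j item = true := fun j hj =>
  (Nat.lt_or_ge j 160256).elim (facts_ok_upto160256 j) fun h =>
    checkFacts_spec _ _ _ _ _ _ items160256 160256 facts_ok160256 j h (lt_of_lt_of_eq hj (by decide +kernel))
theorem facts_ok_upto161280 : ∀ j < 161280, ∃ item, checkFact facts 18364758544493064720 words 576 subs 35228 j item = true := fun j hj =>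
  (Nat.lt_or_ge j 160768).elim (facts_ok_upto160768 j) fun h =>
    checkFacts_spec _ _ _ _ _ _ items160768 160768 facts_ok160768 j h (lt_of_lt_of_eq hj (by decide +kernel))
theorem facts_ok_upto161792 : ∀ j < 161792, ∃ item, checkFact facts 18364758544493064720 words 576 subs 35228 j item = true := fun j hj =>
  (Nat.lt_or_ge j 161280).elim (facts_ok_upto161280 j) fun h =>
    checkFacts_spec _ _ _ _ _ _ items161280 161280 facts_ok161280 j h (lt_of_lt_of_eq hj (by decide +kernel))
theorem facts_ok_upto162304 : ∀ j < 162304, ∃ item, checkFact facts 18364758544493064720 words 576 subs 35228 j item = true := fun j hj =>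
  (Nat.lt_or_ge j 161792).elim (facts_ok_upto161792 j) fun h =>
    checkFacts_spec _ _ _ _ _ _ items161792 161792 facts_ok161792 j h (lt_of_lt_of_eq hj (by decide +kernel))
theorem facts_ok_upto162816 : ∀ j < 162816, ∃ item, checkFact facts 18364758544493064720 words 576 subs 35228 j item = true := fun j hj =>
  (Nat.lt_or_ge j 162304).elim (facts_ok_upto162304 j) fun h =>
    checkFacts_spec _ _ _ _ _ _ items162304 162304 facts_ok162304 j h (lt_of_lt_of_eq hj (by decide +kernel))
theorem facts_ok_upto163328 : ∀ j < 163328, ∃ item, checkFact facts 18364758544493064720 words 576 subs 35228 j item = true := fun j hj =>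
  (Nat.lt_or_ge j 162816).elim (facts_ok_upto162816 j) fun h =>
    checkFacts_spec _ _ _ _ _ _ items162816 162816 facts_ok162816 j h (lt_of_lt_of_eq hj (by decide +kernel))
theorem facts_ok_upto163840 : ∀ j < 163840, ∃ item, checkFact facts 18364758544493064720 words 576 subs 35228 j item = true := fun j hj =>
  (Nat.lt_or_ge j 163328).elim (facts_ok_upto163328 j) fun h =>
    checkFacts_spec _ _ _ _ _ _ items163328 163328 facts_ok163328 j h (lt_of_lt_of_eq hj (by decide +kernel))
theorem facts_ok_upto164352 : ∀ j < 164352, ∃ item, checkFact facts 18364758544493064720 words 576 subs 35228 j item = true := fun j hj =>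
  (Nat.lt_or_ge j 163840).elim (facts_ok_upto163840 j) fun h =>
    checkFacts_spec _ _ _ _ _ _ items163840 163840 facts_ok163840 j h (lt_of_lt_of_eq hj (by decide +kernel))
theorem facts_ok_upto164864 : ∀ j < 164864, ∃ item, checkFact facts 18364758544493064720 words 576 subs 35228 j item = true := fun j hj =>
  (Nat.lt_or_ge j 164352).elim (facts_ok_upto164352 j) fun h =>
    checkFacts_spec _ _ _ _ _ _ items164352 164352 facts_ok164352 j h (lt_of_lt_of_eq hj (by decide +kernel))
theorem facts_ok_upto165376 : ∀ j < 165376, ∃ item, checkFact facts 18364758544493064720 words 576 subs 35228 j item = true := fun j hj =>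
  (Nat.lt_or_ge j 164864).elim (facts_ok_upto164864 j) fun h =>
    checkFacts_spec _ _ _ _ _ _ items164864 164864 facts_ok164864 j h (lt_of_lt_of_eq hj (by decide +kernel))
theorem facts_ok_upto165888 : ∀ j < 165888, ∃ item, checkFact facts 18364758544493064720 words 576 subs 35228 j item = true := fun j hj =>
  (Nat.lt_or_ge j 165376).elim (facts_ok_upto165376 j) fun h =>
    checkFacts_spec _ _ _ _ _ _ items165376 165376 facts_ok165376 j h (lt_of_lt_of_eq hj (by decide +kernel))
theorem facts_ok_upto166400 : ∀ j < 166400, ∃ item, checkFact facts 18364758544493064720 words 576 subs 35228 j item = true := fun j hj =>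
  (Nat.lt_or_ge j 165888).elim (facts_ok_upto165888 j) fun h =>
    checkFacts_spec _ _ _ _ _ _ items165888 165888 facts_ok165888 j h (lt_of_lt_of_eq hj (by decide +kernel))
theorem facts_ok_upto166912 : ∀ j < 166912, ∃ item, checkFact facts 18364758544493064720 words 576 subs 35228 j item = true := fun j hj =>
  (Nat.lt_or_ge j 166400).elim (facts_ok_upto166400 j) fun h =>
    checkFacts_spec _ _ _ _ _ _ items166400 166400 facts_ok166400 j h (lt_of_lt_of_eq hj (by decide +kernel))
theorem facts_ok_upto167424 : ∀ j < 167424, ∃ item, checkFact facts 18364758544493064720 words 576 subs 35228 j item = true := fun j hj =>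
  (Nat.lt_or_ge j 166912).elim (facts_ok_upto166912 j) fun h =>
    checkFacts_spec _ _ _ _ _ _ items166912 166912 facts_ok166912 j h (lt_of_lt_of_eq hj (by decide +kernel))
theorem facts_ok_upto167936 : ∀ j < 167936, ∃ item, checkFact facts 18364758544493064720 words 576 subs 35228 j item = true := fun j hj =>
  (Nat.lt_or_ge j 167424).elim (facts_ok_upto167424 j) fun h =>
    checkFacts_spec _ _ _ _ _ _ items167424 167424 facts_ok167424 j h (lt_of_lt_of_eq hj (by decide +kernel))
theorem facts_ok_upto168448 : ∀ j < 168448, ∃ item, checkFact facts 18364758544493064720 words 576 subs 35228 j item = true := fun j hj =>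
  (Nat.lt_or_ge j 167936).elim (facts_ok_upto167936 j) fun h =>
    checkFacts_spec _ _ _ _ _ _ items167936 167936 facts_ok167936 j h (lt_of_lt_of_eq hj (by decide +kernel))
theorem facts_ok_upto168960 : ∀ j < 168960, ∃ item, checkFact facts 18364758544493064720 words 576 subs 35228 j item = true := fun j hj =>
  (Nat.lt_or_ge j 168448).elim (facts_ok_upto168448 j) fun h =>
    checkFacts_spec _ _ _ _ _ _ items168448 168448 facts_ok168448 j h (lt_of_lt_of_eq hj (by decide +kernel))
theorem facts_ok_upto169472 : ∀ j < 169472, ∃ item, checkFact facts 18364758544493064720 words 576 subs 35228 j item = true := fun j hj =>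
  (Nat.lt_or_ge j 168960).elim (facts_ok_upto168960 j) fun h =>
    checkFacts_spec _ _ _ _ _ _ items168960 168960 facts_ok168960 j h (lt_of_lt_of_eq hj (by decide +kernel))
theorem facts_ok_upto169984 : ∀ j < 169984, ∃ item, checkFact facts 18364758544493064720 words 576 subs 35228 j item = true := fun j hj =>
  (Nat.lt_or_ge j 169472).elim (facts_ok_upto169472 j) fun h =>
    checkFacts_spec _ _ _ _ _ _ items169472 169472 facts_ok169472 j h (lt_of_lt_of_eq hj (by decide +kernel))
theorem facts_ok_upto170496 : ∀ j < 170496, ∃ item, checkFact facts 18364758544493064720 words 576 subs 35228 j item = true := fun j hj =>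
  (Nat.lt_or_ge j 169984).elim (facts_ok_upto169984 j) fun h =>
    checkFacts_spec _ _ _ _ _ _ items169984 169984 facts_ok169984 j h (lt_of_lt_of_eq hj (by decide +kernel))
theorem facts_ok_upto171008 : ∀ j < 171008, ∃ item, checkFact facts 18364758544493064720 words 576 subs 35228 j item = true := fun j hj =>
  (Nat.lt_or_ge j 170496).elim (facts_ok_upto170496 j) fun h =>
    checkFacts_spec _ _ _ _ _ _ items170496 170496 facts_ok170496 j h (lt_of_lt_of_eq hj (by decide +kernel))
theorem facts_ok_upto171520 : ∀ j < 171520, ∃ item, checkFact facts 18364758544493064720 words 576 subs 35228 j item = true := fun j hj =>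
  (Nat.lt_or_ge j 171008).elim (facts_ok_upto171008 j) fun h =>
    checkFacts_spec _ _ _ _ _ _ items171008 171008 facts_ok171008 j h (lt_of_lt_of_eq hj (by decide +kernel))
theorem facts_ok_upto172032 : ∀ j < 172032, ∃ item, checkFact facts 18364758544493064720 words 576 subs 35228 j item = true := fun j hj =>
  (Nat.lt_or_ge j 171520).elim (facts_ok_upto171520 j) fun h =>
    checkFacts_spec _ _ _ _ _ _ items171520 171520 facts_ok171520 j h (lt_of_lt_of_eq hj (by decide +kernel))
theorem facts_ok_upto172544 : ∀ j < 172544, ∃ item, checkFact facts 18364758544493064720 words 576 subs 35228 j item = true := fun j hj =>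
  (Nat.lt_or_ge j 172032).elim (facts_ok_upto172032 j) fun h =>
    checkFacts_spec _ _ _ _ _ _ items172032 172032 facts_ok172032 j h (lt_of_lt_of_eq hj (by decide +kernel))
theorem facts_ok_upto173056 : ∀ j < 173056, ∃ item, checkFact facts 18364758544493064720 words 576 subs 35228 j item = true := fun j hj =>
  (Nat.lt_or_ge j 172544).elim (facts_ok_upto172544 j) fun h =>
    checkFacts_spec _ _ _ _ _ _ items172544 172544 facts_ok172544 j h (lt_of_lt_of_eq hj (by decide +kernel))
theorem facts_ok_upto173568 : ∀ j < 173568, ∃ item, checkFact facts 18364758544493064720 words 576 subs 35228 j item = true := fun j hj =>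
  (Nat.lt_or_ge j 173056).elim (facts_ok_upto173056 j) fun h =>
    checkFacts_spec _ _ _ _ _ _ items173056 173056 facts_ok173056 j h (lt_of_lt_of_eq hj (by decide +kernel))
theorem facts_ok_upto174080 : ∀ j < 174080, ∃ item, checkFact facts 18364758544493064720 words 576 subs 35228 j item = true := fun j hj =>
  (Nat.lt_or_ge j 173568).elim (facts_ok_upto173568 j) fun h =>
    checkFacts_spec _ _ _ _ _ _ items173568 173568 facts_ok173568 j h (lt_of_lt_of_eq hj (by decide +kernel))
theorem facts_ok_upto174592 : ∀ j < 174592, ∃ item, checkFact facts 18364758544493064720 words 576 subs 35228 j item = true := fun j hj =>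
  (Nat.lt_or_ge j 174080).elim (facts_ok_upto174080 j) fun h =>
    checkFacts_spec _ _ _ _ _ _ items174080 174080 facts_ok174080 j h (lt_of_lt_of_eq hj (by decide +kernel))
theorem facts_ok_upto175104 : ∀ j < 175104, ∃ item, checkFact facts 18364758544493064720 words 576 subs 35228 j item = true := fun j hj =>
  (Nat.lt_or_ge j 174592).elim (facts_ok_upto174592 j) fun h =>
    checkFacts_spec _ _ _ _ _ _ items174592 174592 facts_ok174592 j h (lt_of_lt_of_eq hj (by decide +kernel))
theorem facts_ok_upto175616 : ∀ j < 175616, ∃ item, checkFact facts 18364758544493064720 words 576 subs 35228 j item = true := fun j hj =>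
  (Nat.lt_or_ge j 175104).elim (facts_ok_upto175104 j) fun h =>
    checkFacts_spec _ _ _ _ _ _ items175104 175104 facts_ok175104 j h (lt_of_lt_of_eq hj (by decide +kernel))
theorem facts_ok_upto176128 : ∀ j < 176128, ∃ item, checkFact facts 18364758544493064720 words 576 subs 35228 j item = true := fun j hj =>
  (Nat.lt_or_ge j 175616).elim (facts_ok_upto175616 j) fun h =>
    checkFacts_spec _ _ _ _ _ _ items175616 175616 facts_ok175616 j h (lt_of_lt_of_eq hj (by decide +kernel))
theorem facts_ok_upto176640 : ∀ j < 176640, ∃ item, checkFact facts 18364758544493064720 words 576 subs 35228 j item = true := fun j hj =>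
  (Nat.lt_or_ge j 176128).elim (facts_ok_upto176128 j) fun h =>
    checkFacts_spec _ _ _ _ _ _ items176128 176128 facts_ok176128 j h (lt_of_lt_of_eq hj (by decide +kernel))
theorem facts_ok_upto177152 : ∀ j < 177152, ∃ item, checkFact facts 18364758544493064720 words 576 subs 35228 j item = true := fun j hj =>
  (Nat.lt_or_ge j 176640).elim (facts_ok_upto176640 j) fun h =>
    checkFacts_spec _ _ _ _ _ _ items176640 176640 facts_ok176640 j h (lt_of_lt_of_eq hj (by decide +kernel))
theorem facts_ok_upto177664 : ∀ j < 177664, ∃ item, checkFact facts 18364758544493064720 words 576 subs 35228 j item = true := fun j hj =>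
  (Nat.lt_or_ge j 177152).elim (facts_ok_upto177152 j) fun h =>
    checkFacts_spec _ _ _ _ _ _ items177152 177152 facts_ok177152 j h (lt_of_lt_of_eq hj (by decide +kernel))
theorem facts_ok_upto178176 : ∀ j < 178176, ∃ item, checkFact facts 18364758544493064720 words 576 subs 35228 j item = true := fun j hj =>
  (Nat.lt_or_ge j 177664).elim (facts_ok_upto177664 j) fun h =>
    checkFacts_spec _ _ _ _ _ _ items177664 177664 facts_ok177664 j h (lt_of_lt_of_eq hj (by decide +kernel))
theorem facts_ok_upto178688 : ∀ j < 178688, ∃ item, checkFact facts 18364758544493064720 words 576 subs 35228 j item = true := fun j hj =>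
  (Nat.lt_or_ge j 178176).elim (facts_ok_upto178176 j) fun h =>
    checkFacts_spec _ _ _ _ _ _ items178176 178176 facts_ok178176 j h (lt_of_lt_of_eq hj (by decide +kernel))
theorem facts_ok_upto179200 : ∀ j < 179200, ∃ item, checkFact facts 18364758544493064720 words 576 subs 35228 j item = true := fun j hj =>
  (Nat.lt_or_ge j 178688).elim (facts_ok_upto178688 j) fun h =>
    checkFacts_spec _ _ _ _ _ _ items178688 178688 facts_ok178688 j h (lt_of_lt_of_eq hj (by decide +kernel))
theorem facts_ok_upto179712 : ∀ j < 179712, ∃ item, checkFact facts 18364758544493064720 words 576 subs 35228 j item = true := fun j hj =>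
  (Nat.lt_or_ge j 179200).elim (facts_ok_upto179200 j) fun h =>
    checkFacts_spec _ _ _ _ _ _ items179200 179200 facts_ok179200 j h (lt_of_lt_of_eq hj (by decide +kernel))
theorem facts_ok_upto180224 : ∀ j < 180224, ∃ item, checkFact facts 18364758544493064720 words 576 subs 35228 j item = true := fun j hj =>
  (Nat.lt_or_ge j 179712).elim (facts_ok_upto179712 j) fun h =>
    checkFacts_spec _ _ _ _ _ _ items179712 179712 facts_ok179712 j h (lt_of_lt_of_eq hj (by decide +kernel))
theorem facts_ok_upto180736 : ∀ j < 180736, ∃ item, checkFact facts 18364758544493064720 words 576 subs 35228 j item = true := fun j hj =>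
  (Nat.lt_or_ge j 180224).elim (facts_ok_upto180224 j) fun h =>
    checkFacts_spec _ _ _ _ _ _ items180224 180224 facts_ok180224 j h (lt_of_lt_of_eq hj (by decide +kernel))
theorem facts_ok_upto181248 : ∀ j < 181248, ∃ item, checkFact facts 18364758544493064720 words 576 subs 35228 j item = true := fun j hj =>
  (Nat.lt_or_ge j 180736).elim (facts_ok_upto180736 j) fun h =>
    checkFacts_spec _ _ _ _ _ _ items180736 180736 facts_ok180736 j h (lt_of_lt_of_eq hj (by decide +kernel))
theorem facts_ok_upto181760 : ∀ j < 181760, ∃ item, checkFact facts 18364758544493064720 words 576 subs 35228 j item = true := fun j hj =>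
  (Nat.lt_or_ge j 181248).elim (facts_ok_upto181248 j) fun h =>
    checkFacts_spec _ _ _ _ _ _ items181248 181248 facts_ok181248 j h (lt_of_lt_of_eq hj (by decide +kernel))
theorem facts_ok_upto182272 : ∀ j < 182272, ∃ item, checkFact facts 18364758544493064720 words 576 subs 35228 j item = true := fun j hj =>
  (Nat.lt_or_ge j 181760).elim (facts_ok_upto181760 j) fun h =>
    checkFacts_spec _ _ _ _ _ _ items181760 181760 facts_ok181760 j h (lt_of_lt_of_eq hj (by decide +kernel))
theorem facts_ok_upto182784 : ∀ j < 182784, ∃ item, checkFact facts 18364758544493064720 words 576 subs 35228 j item = true := fun j hj =>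
  (Nat.lt_or_ge j 182272).elim (facts_ok_upto182272 j) fun h =>
    checkFacts_spec _ _ _ _ _ _ items182272 182272 facts_ok182272 j h (lt_of_lt_of_eq hj (by decide +kernel))
theorem facts_ok_upto183296 : ∀ j < 183296, ∃ item, checkFact facts 18364758544493064720 words 576 subs 35228 j item = true := fun j hj =>
  (Nat.lt_or_ge j 182784).elim (facts_ok_upto182784 j) fun h =>
    checkFacts_spec _ _ _ _ _ _ items182784 182784 facts_ok182784 j h (lt_of_lt_of_eq hj (by decide +kernel))
theorem facts_ok_upto183808 : ∀ j < 183808, ∃ item, checkFact facts 18364758544493064720 words 576 subs 35228 j item = true := fun j hj =>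
  (Nat.lt_or_ge j 183296).elim (facts_ok_upto183296 j) fun h =>
    checkFacts_spec _ _ _ _ _ _ items183296 183296 facts_ok183296 j h (lt_of_lt_of_eq hj (by decide +kernel))
theorem facts_ok_upto184320 : ∀ j < 184320, ∃ item, checkFact facts 18364758544493064720 words 576 subs 35228 j item = true := fun j hj =>
  (Nat.lt_or_ge j 183808).elim (facts_ok_upto183808 j) fun h =>
    checkFacts_spec _ _ _ _ _ _ items183808 183808 facts_ok183808 j h (lt_of_lt_of_eq hj (by decide +kernel))
theorem facts_ok_upto184832 : ∀ j < 184832, ∃ item, checkFact facts 18364758544493064720 words 576 subs 35228 j item = true := fun j hj =>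
  (Nat.lt_or_ge j 184320).elim (facts_ok_upto184320 j) fun h =>
    checkFacts_spec _ _ _ _ _ _ items184320 184320 facts_ok184320 j h (lt_of_lt_of_eq hj (by decide +kernel))
theorem facts_ok_upto185344 : ∀ j < 185344, ∃ item, checkFact facts 18364758544493064720 words 576 subs 35228 j item = true := fun j hj =>
  (Nat.lt_or_ge j 184832).elim (facts_ok_upto184832 j) fun h =>
    checkFacts_spec _ _ _ _ _ _ items184832 184832 facts_ok184832 j h (lt_of_lt_of_eq hj (by decide +kernel))
theorem facts_ok_upto185856 : ∀ j < 185856, ∃ item, checkFact facts 18364758544493064720 words 576 subs 35228 j item = true := fun j hj =>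
  (Nat.lt_or_ge j 185344).elim (facts_ok_upto185344 j) fun h =>
    checkFacts_spec _ _ _ _ _ _ items185344 185344 facts_ok185344 j h (lt_of_lt_of_eq hj (by decide +kernel))
theorem facts_ok_upto186368 : ∀ j < 186368, ∃ item, checkFact facts 18364758544493064720 words 576 subs 35228 j item = true := fun j hj =>
  (Nat.lt_or_ge j 185856).elim (facts_ok_upto185856 j) fun h =>
    checkFacts_spec _ _ _ _ _ _ items185856 185856 facts_ok185856 j h (lt_of_lt_of_eq hj (by decide +kernel))
theorem facts_ok_upto186880 : ∀ j < 186880, ∃ item, checkFact facts 18364758544493064720 words 576 subs 35228 j item = true := fun j hj =>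
  (Nat.lt_or_ge j 186368).elim (facts_ok_upto186368 j) fun h =>
    checkFacts_spec _ _ _ _ _ _ items186368 186368 facts_ok186368 j h (lt_of_lt_of_eq hj (by decide +kernel))
theorem facts_ok_upto187392 : ∀ j < 187392, ∃ item, checkFact facts 18364758544493064720 words 576 subs 35228 j item = true := fun j hj =>
  (Nat.lt_or_ge j 186880).elim (facts_ok_upto186880 j) fun h =>
    checkFacts_spec _ _ _ _ _ _ items186880 186880 facts_ok186880 j h (lt_of_lt_of_eq hj (by decide +kernel))
theorem facts_ok_upto187904 : ∀ j < 187904, ∃ item, checkFact facts 18364758544493064720 words 576 subs 35228 j item = true := fun j hj =>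
  (Nat.lt_or_ge j 187392).elim (facts_ok_upto187392 j) fun h =>
    checkFacts_spec _ _ _ _ _ _ items187392 187392 facts_ok187392 j h (lt_of_lt_of_eq hj (by decide +kernel))
theorem facts_ok_upto188416 : ∀ j < 188416, ∃ item, checkFact facts 18364758544493064720 words 576 subs 35228 j item = true := fun j hj =>
  (Nat.lt_or_ge j 187904).elim (facts_ok_upto187904 j) fun h =>
    checkFacts_spec _ _ _ _ _ _ items187904 187904 facts_ok187904 j h (lt_of_lt_of_eq hj (by decide +kernel))
theorem facts_ok_upto188928 : ∀ j < 188928, ∃ item, checkFact facts 18364758544493064720 words 576 subs 35228 j item = true := fun j hj =>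
  (Nat.lt_or_ge j 188416).elim (facts_ok_upto188416 j) fun h =>
    checkFacts_spec _ _ _ _ _ _ items188416 188416 facts_ok188416 j h (lt_of_lt_of_eq hj (by decide +kernel))
theorem facts_ok_upto189091 : ∀ j < 189091, ∃ item, checkFact facts 18364758544493064720 words 576 subs 35228 j item = true := fun j hj =>
  (Nat.lt_or_ge j 188928).elim (facts_ok_upto188928 j) fun h =>
    checkFacts_spec _ _ _ _ _ _ items188928 188928 facts_ok188928 j h (lt_of_lt_of_eq hj (by decide +kernel))
theorem facts_ok : ∀ j < 189091, ∃ item, checkFact facts 18364758544493064720 words 576 subs 35228 j item = true := facts_ok_upto189091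
theorem rows_0 : checkRows facts 18364758544493064720 lives entryFact table 31671 10 189091 1024 0 = true := by decide +kernel
theorem rows_1024 : checkRows facts 18364758544493064720 lives entryFact table 31671 10 189091 1024 1024 = true := by decide +kernel
theorem rows_2048 : checkRows facts 18364758544493064720 lives entryFact table 31671 10 189091 1024 2048 = true := by decide +kernel
theorem rows_3072 : checkRows facts 18364758544493064720 lives entryFact table 31671 10 189091 1024 3072 = true := by decide +kernel
theorem rows_4096 : checkRows facts 18364758544493064720 lives entryFact table 31671 10 189091 1024 4096 = true := by decide +kernel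
theorem rows_5120 : checkRows facts 18364758544493064720 lives entryFact table 31671 10 189091 1024 5120 = true := by decide +kernel
theorem rows_6144 : checkRows facts 18364758544493064720 lives entryFact table 31671 10 189091 1024 6144 = true := by decide +kernel
theorem rows_7168 : checkRows facts 18364758544493064720 lives entryFact table 31671 10 189091 1024 7168 = true := by decide +kernel
theorem rows_8192 : checkRows facts 18364758544493064720 lives entryFact table 31671 10 189091 1024 8192 = true := by decide +kernel
theorem rows_9216 : checkRows facts 18364758544493064720 lives entryFact table 31671 10 189091 1024 9216 = true := by decide +kernel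
theorem rows_10240 : checkRows facts 18364758544493064720 lives entryFact table 31671 10 189091 1024 10240 = true := by decide +kernel
theorem rows_11264 : checkRows facts 18364758544493064720 lives entryFact table 31671 10 189091 1024 11264 = true := by decide +kernel
theorem rows_12288 : checkRows facts 18364758544493064720 lives entryFact table 31671 10 189091 1024 12288 = true := by decide +kernel
theorem rows_13312 : checkRows facts 18364758544493064720 lives entryFact table 31671 10 189091 1024 13312 = true := by decide +kernel
theorem rows_14336 : checkRows facts 18364758544493064720 lives entryFact table 31671 10 189091 1024 14336 = true := by decide +kernel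
theorem rows_15360 : checkRows facts 18364758544493064720 lives entryFact table 31671 10 189091 1024 15360 = true := by decide +kernel
theorem rows_16384 : checkRows facts 18364758544493064720 lives entryFact table 31671 10 189091 1024 16384 = true := by decide +kernel
theorem rows_17408 : checkRows facts 18364758544493064720 lives entryFact table 31671 10 189091 1024 17408 = true := by decide +kernel
theorem rows_18432 : checkRows facts 18364758544493064720 lives entryFact table 31671 10 189091 1024 18432 = true := by decide +kernel
theorem rows_19456 : checkRows facts 18364758544493064720 lives entryFact table 31671 10 189091 1024 19456 = true := by decide +kernel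
theorem rows_20480 : checkRows facts 18364758544493064720 lives entryFact table 31671 10 189091 1024 20480 = true := by decide +kernel
theorem rows_21504 : checkRows facts 18364758544493064720 lives entryFact table 31671 10 189091 1024 21504 = true := by decide +kernel
theorem rows_22528 : checkRows facts 18364758544493064720 lives entryFact table 31671 10 189091 1024 22528 = true := by decide +kernel
theorem rows_23552 : checkRows facts 18364758544493064720 lives entryFact table 31671 10 189091 1024 23552 = true := by decide +kernel
theorem rows_24576 : checkRows facts 18364758544493064720 lives entryFact table 31671 10 189091 1024 24576 = true := by decide +kernel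
theorem rows_25600 : checkRows facts 18364758544493064720 lives entryFact table 31671 10 189091 1024 25600 = true := by decide +kernel
theorem rows_26624 : checkRows facts 18364758544493064720 lives entryFact table 31671 10 189091 1024 26624 = true := by decide +kernel
theorem rows_27648 : checkRows facts 18364758544493064720 lives entryFact table 31671 10 189091 1024 27648 = true := by decide +kernel
theorem rows_28672 : checkRows facts 18364758544493064720 lives entryFact table 31671 10 189091 1024 28672 = true := by decide +kernel
theorem rows_29696 : checkRows facts 18364758544493064720 lives entryFact table 31671 10 189091 1024 29696 = true := by decide +kernel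
theorem rows_30720 : checkRows facts 18364758544493064720 lives entryFact table 31671 10 189091 951 30720 = true := by decide +kernel
theorem rows_ok_upto1024 : ∀ k < 1024, checkRow facts 18364758544493064720 lives entryFact 31671 10 189091 k table 0 = true := fun k hk =>
  have h : 0 ≤ k := Nat.zero_le k
  checkRows_spec _ _ _ _ _ _ _ _ _ _ rows_0 k h hk
theorem rows_ok_upto2048 : ∀ k < 2048, checkRow facts 18364758544493064720 lives entryFact 31671 10 189091 k table 0 = true := fun k hk =>
  (Nat.lt_or_ge k 1024).elim (rows_ok_upto1024 k) fun h =>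
    checkRows_spec _ _ _ _ _ _ _ _ _ _ rows_1024 k h hk
theorem rows_ok_upto3072 : ∀ k < 3072, checkRow facts 18364758544493064720 lives entryFact 31671 10 189091 k table 0 = true := fun k hk =>
  (Nat.lt_or_ge k 2048).elim (rows_ok_upto2048 k) fun h =>
    checkRows_spec _ _ _ _ _ _ _ _ _ _ rows_2048 k h hk
theorem rows_ok_upto4096 : ∀ k < 4096, checkRow facts 18364758544493064720 lives entryFact 31671 10 189091 k table 0 = true := fun k hk =>
  (Nat.lt_or_ge k 3072).elim (rows_ok_upto3072 k) fun h =>
    checkRows_spec _ _ _ _ _ _ _ _ _ _ rows_3072 k h hk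
theorem rows_ok_upto5120 : ∀ k < 5120, checkRow facts 18364758544493064720 lives entryFact 31671 10 189091 k table 0 = true := fun k hk =>
  (Nat.lt_or_ge k 4096).elim (rows_ok_upto4096 k) fun h =>
    checkRows_spec _ _ _ _ _ _ _ _ _ _ rows_4096 k h hk
theorem rows_ok_upto6144 : ∀ k < 6144, checkRow facts 18364758544493064720 lives entryFact 31671 10 189091 k table 0 = true := fun k hk =>
  (Nat.lt_or_ge k 5120).elim (rows_ok_upto5120 k) fun h =>
    checkRows_spec _ _ _ _ _ _ _ _ _ _ rows_5120 k h hk
theorem rows_ok_upto7168 : ∀ k < 7168, checkRow facts 18364758544493064720 lives entryFact 31671 10 189091 k table 0 = true := fun k hk =>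
  (Nat.lt_or_ge k 6144).elim (rows_ok_upto6144 k) fun h =>
    checkRows_spec _ _ _ _ _ _ _ _ _ _ rows_6144 k h hk
theorem rows_ok_upto8192 : ∀ k < 8192, checkRow facts 18364758544493064720 lives entryFact 31671 10 189091 k table 0 = true := fun k hk =>
  (Nat.lt_or_ge k 7168).elim (rows_ok_upto7168 k) fun h =>
    checkRows_spec _ _ _ _ _ _ _ _ _ _ rows_7168 k h hk
theorem rows_ok_upto9216 : ∀ k < 9216, checkRow facts 18364758544493064720 lives entryFact 31671 10 189091 k table 0 = true := fun k hk =>
  (Nat.lt_or_ge k 8192).elim (rows_ok_upto8192 k) fun h =>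
    checkRows_spec _ _ _ _ _ _ _ _ _ _ rows_8192 k h hk
theorem rows_ok_upto10240 : ∀ k < 10240, checkRow facts 18364758544493064720 lives entryFact 31671 10 189091 k table 0 = true := fun k hk =>
  (Nat.lt_or_ge k 9216).elim (rows_ok_upto9216 k) fun h =>
    checkRows_spec _ _ _ _ _ _ _ _ _ _ rows_9216 k h hk
theorem rows_ok_upto11264 : ∀ k < 11264, checkRow facts 18364758544493064720 lives entryFact 31671 10 189091 k table 0 = true := fun k hk =>
  (Nat.lt_or_ge k 10240).elim (rows_ok_upto10240 k) fun h =>
    checkRows_spec _ _ _ _ _ _ _ _ _ _ rows_10240 k h hk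
theorem rows_ok_upto12288 : ∀ k < 12288, checkRow facts 18364758544493064720 lives entryFact 31671 10 189091 k table 0 = true := fun k hk =>
  (Nat.lt_or_ge k 11264).elim (rows_ok_upto11264 k) fun h =>
    checkRows_spec _ _ _ _ _ _ _ _ _ _ rows_11264 k h hk
theorem rows_ok_upto13312 : ∀ k < 13312, checkRow facts 18364758544493064720 lives entryFact 31671 10 189091 k table 0 = true := fun k hk =>
  (Nat.lt_or_ge k 12288).elim (rows_ok_upto12288 k) fun h =>
    checkRows_spec _ _ _ _ _ _ _ _ _ _ rows_12288 k h hk
theorem rows_ok_upto14336 : ∀ k < 14336, checkRow facts 18364758544493064720 lives entryFact 31671 10 189091 k table 0 = true := fun k hk =>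
  (Nat.lt_or_ge k 13312).elim (rows_ok_upto13312 k) fun h =>
    checkRows_spec _ _ _ _ _ _ _ _ _ _ rows_13312 k h hk
theorem rows_ok_upto15360 : ∀ k < 15360, checkRow facts 18364758544493064720 lives entryFact 31671 10 189091 k table 0 = true := fun k hk =>
  (Nat.lt_or_ge k 14336).elim (rows_ok_upto14336 k) fun h =>
    checkRows_spec _ _ _ _ _ _ _ _ _ _ rows_14336 k h hk
theorem rows_ok_upto16384 : ∀ k < 16384, checkRow facts 18364758544493064720 lives entryFact 31671 10 189091 k table 0 = true := fun k hk =>
  (Nat.lt_or_ge k 15360).elim (rows_ok_upto15360 k) fun h =>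
    checkRows_spec _ _ _ _ _ _ _ _ _ _ rows_15360 k h hk
theorem rows_ok_upto17408 : ∀ k < 17408, checkRow facts 18364758544493064720 lives entryFact 31671 10 189091 k table 0 = true := fun k hk =>
  (Nat.lt_or_ge k 16384).elim (rows_ok_upto16384 k) fun h =>
    checkRows_spec _ _ _ _ _ _ _ _ _ _ rows_16384 k h hk
theorem rows_ok_upto18432 : ∀ k < 18432, checkRow facts 18364758544493064720 lives entryFact 31671 10 189091 k table 0 = true := fun k hk =>
  (Nat.lt_or_ge k 17408).elim (rows_ok_upto17408 k) fun h =>
    checkRows_spec _ _ _ _ _ _ _ _ _ _ rows_17408 k h hk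
theorem rows_ok_upto19456 : ∀ k < 19456, checkRow facts 18364758544493064720 lives entryFact 31671 10 189091 k table 0 = true := fun k hk =>
  (Nat.lt_or_ge k 18432).elim (rows_ok_upto18432 k) fun h =>
    checkRows_spec _ _ _ _ _ _ _ _ _ _ rows_18432 k h hk
theorem rows_ok_upto20480 : ∀ k < 20480, checkRow facts 18364758544493064720 lives entryFact 31671 10 189091 k table 0 = true := fun k hk =>
  (Nat.lt_or_ge k 19456).elim (rows_ok_upto19456 k) fun h =>
    checkRows_spec _ _ _ _ _ _ _ _ _ _ rows_19456 k h hk
theorem rows_ok_upto21504 : ∀ k < 21504, checkRow facts 18364758544493064720 lives entryFact 31671 10 189091 k table 0 = true := fun k hk =>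
  (Nat.lt_or_ge k 20480).elim (rows_ok_upto20480 k) fun h =>
    checkRows_spec _ _ _ _ _ _ _ _ _ _ rows_20480 k h hk
theorem rows_ok_upto22528 : ∀ k < 22528, checkRow facts 18364758544493064720 lives entryFact 31671 10 189091 k table 0 = true := fun k hk =>
  (Nat.lt_or_ge k 21504).elim (rows_ok_upto21504 k) fun h =>
    checkRows_spec _ _ _ _ _ _ _ _ _ _ rows_21504 k h hk
theorem rows_ok_upto23552 : ∀ k < 23552, checkRow facts 18364758544493064720 lives entryFact 31671 10 189091 k table 0 = true := fun k hk =>
  (Nat.lt_or_ge k 22528).elim (rows_ok_upto22528 k) fun h =>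
    checkRows_spec _ _ _ _ _ _ _ _ _ _ rows_22528 k h hk
theorem rows_ok_upto24576 : ∀ k < 24576, checkRow facts 18364758544493064720 lives entryFact 31671 10 189091 k table 0 = true := fun k hk =>
  (Nat.lt_or_ge k 23552).elim (rows_ok_upto23552 k) fun h =>
    checkRows_spec _ _ _ _ _ _ _ _ _ _ rows_23552 k h hk
theorem rows_ok_upto25600 : ∀ k < 25600, checkRow facts 18364758544493064720 lives entryFact 31671 10 189091 k table 0 = true := fun k hk =>
  (Nat.lt_or_ge k 24576).elim (rows_ok_upto24576 k) fun h =>
    checkRows_spec _ _ _ _ _ _ _ _ _ _ rows_24576 k h hk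
theorem rows_ok_upto26624 : ∀ k < 26624, checkRow facts 18364758544493064720 lives entryFact 31671 10 189091 k table 0 = true := fun k hk =>
  (Nat.lt_or_ge k 25600).elim (rows_ok_upto25600 k) fun h =>
    checkRows_spec _ _ _ _ _ _ _ _ _ _ rows_25600 k h hk
theorem rows_ok_upto27648 : ∀ k < 27648, checkRow facts 18364758544493064720 lives entryFact 31671 10 189091 k table 0 = true := fun k hk =>
  (Nat.lt_or_ge k 26624).elim (rows_ok_upto26624 k) fun h =>
    checkRows_spec _ _ _ _ _ _ _ _ _ _ rows_26624 k h hk
theorem rows_ok_upto28672 : ∀ k < 28672, checkRow facts 18364758544493064720 lives entryFact 31671 10 189091 k table 0 = true := fun k hk =>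
  (Nat.lt_or_ge k 27648).elim (rows_ok_upto27648 k) fun h =>
    checkRows_spec _ _ _ _ _ _ _ _ _ _ rows_27648 k h hk
theorem rows_ok_upto29696 : ∀ k < 29696, checkRow facts 18364758544493064720 lives entryFact 31671 10 189091 k table 0 = true := fun k hk =>
  (Nat.lt_or_ge k 28672).elim (rows_ok_upto28672 k) fun h =>
    checkRows_spec _ _ _ _ _ _ _ _ _ _ rows_28672 k h hk
theorem rows_ok_upto30720 : ∀ k < 30720, checkRow facts 18364758544493064720 lives entryFact 31671 10 189091 k table 0 = true := fun k hk =>
  (Nat.lt_or_ge k 29696).elim (rows_ok_upto29696 k) fun h =>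
    checkRows_spec _ _ _ _ _ _ _ _ _ _ rows_29696 k h hk
theorem rows_ok_upto31671 : ∀ k < 31671, checkRow facts 18364758544493064720 lives entryFact 31671 10 189091 k table 0 = true := fun k hk =>
  (Nat.lt_or_ge k 30720).elim (rows_ok_upto30720 k) fun h =>
    checkRows_spec _ _ _ _ _ _ _ _ _ _ rows_30720 k h hk
theorem rows_ok : ∀ k < 31671, checkRow facts 18364758544493064720 lives entryFact 31671 10 189091 k table 0 = true := rows_ok_upto31671
theorem words_fit : words.fits 576 14 = true := by decide +kernel
theorem words_eq : listEq (words.entries 576 14) (allCodes 18364758544493064720 10 lsl) = true := by decide +kernel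
theorem subs_fit : subs.fits 576 14 = true := by decide +kernel
theorem subs_eq : listEq (subs.entries 576 14) (subCodes 18364758544493064720 lsub) = true := by decide +kernel
theorem lives_zero : Nat.beq (lives.get 20 0) 0 = true := by decide +kernel

theorem covers {X : Type*} [Group X] {g : ℕ → X} (h : Rels lsA g) : CoversCosets (Level g [0, 1, 2, 3, 4, 5, 6, 7, 8, 9]) (Level g [0, 1, 2, 3, 4, 5, 6, 8, 9]) 31671 :=
  covers_level h.h15 h.hinv lsA h.words [0, 1, 2, 3, 4, 5, 6, 7, 8, 9] [0, 1, 2, 3, 4, 5, 6, 8, 9] 18364758544493064720 (ip := 18364758544493064720) (by decide +kernel) lsl lsub (by decide +kernel) (by decide +kernel)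
    facts Top.words subs lives entryFact Top.table 576 14 35228 189091 31671 10 rfl rfl (by omega)
    words_fit words_eq subs_fit subs_eq facts_ok lives_zero rows_ok

end Top

end CfsgLib.SchurFi23
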