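import Cfsg.Agent.Lib.CosetEnum.Chain
import Cfsg.Agent.Lib.Schur.FiTwentyThree.PermD
import Cfsg.Agent.Lib.Schur.FiTwentyThree.Top
import Cfsg.Agent.Lib.Schur.FiTwentyThree.Mid
import Cfsg.Agent.Lib.Schur.FiTwentyThree.D8
import Cfsg.Agent.Lib.Schur.FiTwentyThree.D7
import Cfsg.Agent.Lib.Schur.FiTwentyThree.D6
import Cfsg.Agent.Lib.Schur.FiTwentyThree.D5
import Cfsg.Agent.Lib.Schur.FiTwentyThree.D4
import Cfsg.Agent.Lib.Schur.FiTwentyThree.D3
import Cfsg.Agent.Lib.Schur.FiTwentyThree.D2
import Cfsg.Agent.Lib.Schur.FiTwentyThree.D1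
import Cfsg.Agent.Lib.Schur.FiTwentyThree.D0

set_option autoImplicit false
set_option linter.all false
set_option synthInstance.maxSize 2000

/-! A group generated by ten involutions satisfying `lsA` and `lsD` has order at most that of `Fi23`. -/

namespace CfsgLib.SchurFi23

open CfsgLib.CosetEnum

variable {X : Type} [Group X] {y : ℕ → X}

theorem step_le {K H : Subgroup X} {N c : ℕ} (hc : CoversCosets K H N) (hH : Finite H ∧ Nat.card H ≤ c) :
    Finite K ∧ Nat.card K ≤ N * c := by
  haveI := hH.1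
  exact ⟨(hc.card_le).1, (hc.card_le).2.trans (Nat.mul_le_mul_left _ hH.2)⟩

theorem card_levelD {g : ℕ → X} (h : Rels lsD g) :
    Finite (Level g [7, 6, 5, 4, 3, 2, 1, 8, 9]) ∧ Nat.card (Level g [7, 6, 5, 4, 3, 2, 1, 8, 9]) ≤ 28431 * 696729600 := by
  have h0 : Finite (Level g []) ∧ Nat.card (Level g []) ≤ 1 := ⟨(card_level_nil g).1, (card_level_nil g).2.le⟩
  have h1 := step_le (D0.covers h) h0
  have h2 := step_le (D1.covers h) h1
  have h3 := step_le (D2.covers h) h2
  have h4 := step_le (D3.covers h) h3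
  have h5 := step_le (D4.covers h) h4
  have h6 := step_le (D5.covers h) h5
  have h7 := step_le (D6.covers h) h6
  have h8 := step_le (D7.covers h) h7
  have h9 := step_le (D8.covers h) h8
  exact ⟨h9.1, h9.2.trans (by norm_num)⟩

theorem ip_ok : ipOK 18364758544493064720 = true := by decide +kernel

/-- The permutations of the letters. -/
noncomputable def pD (x : ℕ) : Equiv.Perm (Fin 2160) :=
  permOf PermD.table 18364758544493064720 2160 ip_ok PermD.row_ok x

theorem pD_rels : Rels lsD pD := by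
  refine ⟨permOf_out _ _ _ _ _ (by omega) (by decide +kernel), fun x hx => permOf_linv _ _ _ _ _ hx, fun l hl => ?_⟩
  have h16 : ∀ x ∈ l, x < 16 := by revert l; decide +kernel
  exact ⟨h16, prod_eq_one_of_scan PermD.table 18364758544493064720 2160 ip_ok PermD.row_ok l h16 fun k hk => fixesAll_spec _ _ _ (PermD.rel_ok k hk) l hl⟩

/-- The product of the given letters with the permutations. -/
noncomputable def prodLetters (y : ℕ → X) (x : ℕ) : X × Equiv.Perm (Fin 2160) := (y x, pD x)

theorem prod_rels (h : Rels lsD y) : Rels lsD (prodLetters y) := by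
  refine ⟨Prod.ext h.h15 pD_rels.h15, fun x hx => Prod.ext (h.hinv x hx) (pD_rels.hinv x hx), fun l hl => ⟨(h.words l hl).1, ?_⟩⟩
  have hp : ∀ l : List ℕ, (l.map (prodLetters y)).prod = ((l.map y).prod, (l.map pD).prod) := by
    intro l
    induction l with
    | nil => rfl
    | cons a r ih => simp [ih, prodLetters]
  rw [hp, (h.words l hl).2, (pD_rels.words l hl).2]
  rfl

/-- The bound on the subgroup generated by `b … i`. -/
theorem card_levelH (h : Rels lsD y) :
    Finite (Level y [1, 2, 3, 4, 5, 6, 8, 9]) ∧ Nat.card (Level y [1, 2, 3, 4, 5, 6, 8, 9]) ≤ 9170703360 := by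
  classical
  set g := prodLetters y
  have hg : Rels lsD g := prod_rels h
  set S := Level g [7, 6, 5, 4, 3, 2, 1, 8, 9]
  obtain ⟨hfin, hS⟩ : Finite S ∧ Nat.card S ≤ 28431 * 696729600 := card_levelD hg
  set Hs := Level g [1, 2, 3, 4, 5, 6, 8, 9]
  have hle : Hs ≤ S := level_mono g (by decide)
  haveI : Finite Hs := Finite.of_injective _ (Subgroup.inclusion_injective hle)
  let f : S →* Equiv.Perm (Fin 2160) := (MonoidHom.snd X (Equiv.Perm (Fin 2160))).comp S.subtype
  let g' : ℕ → S := fun x => if hx : g x ∈ S then ⟨g x, hx⟩ else 1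
  letI : MulAction S (Fin 2160) := MulAction.compHom (Fin 2160) f
  have hgS : ∀ x ∈ [7, 6, 5, 4, 3, 2, 1, 8, 9], g x ∈ S := fun x hx => mem_level g hx
  have hgS' : ∀ x < 16, (x ∈ [7, 6, 5, 4, 3, 2, 1, 8, 9] ∨ g x ∈ S) → f (g' x) = pD x := by
    intro x hx hxS
    have : g x ∈ S := hxS.elim (hgS x) id
    show (Prod.snd (((g' x) : S) : X × Equiv.Perm (Fin 2160))) = _
    simp only [g', dif_pos this]
    rfl
  have horb : ∀ k : ℕ, ∀ hk : k < 2160, (⟨k, hk⟩ : Fin 2160) ∈ MulAction.orbit S (⟨0, by omega⟩ : Fin 2160) := by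
    intro k
    induction k using Nat.strong_induction_on with
    | _ k ih =>
      intro hk
      have hk' := PermD.tree_ok k hk
      unfold treeOK at hk'
      simp only [strict_eq, Bool.or_eq_true, Bool.and_eq_true] at hk'
      rcases hk' with h0 | ⟨hj, hx⟩
      · have hk0 : k = 0 := Nat.eq_of_beq_eq_true h0
        subst hk0
        exact MulAction.mem_orbit_self _
      · have hj : PermD.par.get 24 k >>> 4 < k := Nat.le_of_ble_eq_true hj
        obtain ⟨z, hz⟩ := ih _ hj (by omega)
        set i := PermD.par.get 24 k &&& 15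
        set xl := ([7, 6, 5, 4, 3, 2, 1, 8, 9] : List ℕ).getD i 15 with hxl
        have hmem : xl ∈ [7, 6, 5, 4, 3, 2, 1, 8, 9] ∨ xl = 15 := by
          rcases Nat.lt_or_ge i 9 with hi | hi
          · exact Or.inl (by rw [hxl, List.getD_eq_getElem _ _ (by simpa using hi)]; exact List.getElem_mem _)
          · exact Or.inr (by rw [hxl, List.getD_eq_default _ _ (by simpa using hi)])
        have hx16 : xl < 16 := by
          rcases hmem with hm | hm
          · exact (by decide : ∀ x ∈ [7, 6, 5, 4, 3, 2, 1, 8, 9], x < 16) xl hm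
          · omega
        have hgm : g xl ∈ S := by
          rcases hmem with hm | hm
          · exact hgS _ hm
          · rw [hm, hg.h15]; exact one_mem _
        refine ⟨(g' xl)⁻¹ * z, ?_⟩
        show ((g' xl)⁻¹ * z) • (⟨0, _⟩ : Fin 2160) = _
        rw [mul_smul]
        show f (g' xl)⁻¹ (z • (⟨0, _⟩ : Fin 2160)) = _
        rw [show z • (⟨0, _⟩ : Fin 2160) = ⟨_, _⟩ from hz, map_inv, hgS' xl hx16 (Or.inr hgm)]
        refine Fin.ext ?_
        rw [show (pD xl)⁻¹ = pD (linv 18364758544493064720 xl) from (pD_rels.hinv xl hx16).symm]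
        rw [show pD (linv 18364758544493064720 xl) = permOf PermD.table 18364758544493064720 2160 ip_ok PermD.row_ok
          (linv 18364758544493064720 xl) from rfl, permOf_apply _ _ _ _ _ (linv_lt _ xl), ipOK_spec ip_ok hx16]
        exact Nat.eq_of_beq_eq_true hx
  have hindex : (MulAction.stabilizer S (⟨0, by omega⟩ : Fin 2160)).index = 2160 := by
    rw [MulAction.index_stabilizer]
    have : MulAction.orbit S (⟨0, by omega⟩ : Fin 2160) = Set.univ := Set.eq_univ_of_forall fun k => horb k k.2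
    rw [this, Set.ncard_univ, Nat.card_fin]
  have hstab : Hs.subgroupOf S ≤ MulAction.stabilizer S (⟨0, by omega⟩ : Fin 2160) := by
    have key : ∀ w ∈ Hs, w.2 (⟨0, by omega⟩ : Fin 2160) = ⟨0, by omega⟩ := by
      intro w hw
      induction hw using Subgroup.closure_induction with
      | mem a ha =>
        obtain ⟨x, hx, rfl⟩ := ha
        have hx16 : x < 16 := (by decide : ∀ x ∈ [1, 2, 3, 4, 5, 6, 8, 9], x < 16) x hx
        refine Fin.ext ?_
        show ((pD x) (⟨0, _⟩ : Fin 2160) : ℕ) = 0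
        rw [pD, permOf_apply _ _ _ _ _ hx16]
        have h1 := fixesAll_spec _ _ _ PermD.stab [linv 18364758544493064720 x]
          ((by decide +kernel : ∀ x ∈ [1, 2, 3, 4, 5, 6, 8, 9],
            [linv 18364758544493064720 x] ∈ [[1], [2], [3], [4], [5], [6], [8], [9]]) x hx)
        simpa [scan_cons, scan_nil] using h1
      | one => simp
      | mul a b _ _ iha ihb =>
        show (a.2 * b.2) _ = _
        rw [Equiv.Perm.mul_apply, ihb, iha]
      | inv a _ iha =>
        show (a.2)⁻¹ _ = _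
        rw [Equiv.Perm.inv_def, Equiv.symm_apply_eq]
        exact iha.symm
    intro w hw
    exact key _ hw
  haveI : Finite S := hfin
  have hcard : Nat.card Hs ≤ 9170703360 := by
    have h1 := (MulAction.stabilizer S (⟨0, by omega⟩ : Fin 2160)).card_mul_index
    rw [hindex] at h1
    have h2 : Nat.card (Hs.subgroupOf S) ≤ Nat.card (MulAction.stabilizer S (⟨0, by omega⟩ : Fin 2160)) :=
      Nat.card_le_card_of_injective _ (Subgroup.inclusion_injective hstab)
    rw [Nat.card_congr (Subgroup.subgroupOfEquivOfLe hle).toEquiv] at h2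
    omega
  have hmap : Level y [1, 2, 3, 4, 5, 6, 8, 9] ≤ Hs.map (MonoidHom.fst X (Equiv.Perm (Fin 2160))) := by
    refine (Subgroup.closure_le _).mpr ?_
    rintro _ ⟨x, hx, rfl⟩
    exact ⟨g x, mem_level g hx, rfl⟩
  haveI : Finite (Hs.map (MonoidHom.fst X (Equiv.Perm (Fin 2160)))) :=
    Finite.of_surjective _ ((MonoidHom.fst X (Equiv.Perm (Fin 2160))).subgroupMap_surjective Hs)
  refine ⟨Finite.of_injective _ (Subgroup.inclusion_injective hmap), ?_⟩
  calc Nat.card (Level y [1, 2, 3, 4, 5, 6, 8, 9])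
      ≤ Nat.card (Hs.map (MonoidHom.fst X (Equiv.Perm (Fin 2160)))) :=
        Nat.card_le_card_of_injective _ (Subgroup.inclusion_injective hmap)
    _ ≤ Nat.card Hs := Nat.card_le_card_of_surjective _ ((MonoidHom.fst X (Equiv.Perm (Fin 2160))).subgroupMap_surjective Hs)
    _ ≤ _ := hcard

/-- The bound on the whole group. -/
theorem card_levelG (hA : Rels lsA y) (hD : Rels lsD y) :
    Finite (Level y [0, 1, 2, 3, 4, 5, 6, 7, 8, 9]) ∧ Nat.card (Level y [0, 1, 2, 3, 4, 5, 6, 7, 8, 9]) ≤ 4089470473293004800 := by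
  have h := step_le (Top.covers hA) (step_le (Mid.covers hA) (card_levelH hD))
  exact ⟨h.1, h.2.trans (by norm_num)⟩

end CfsgLib.SchurFi23
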