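import Cfsg.Agent.Lib.CosetEnum.Fi23.ThreeTrans

set_option autoImplicit false
set_option linter.all false

/-! A word conjugating the pair `(z, a)` of commuting transpositions of `Fi23` to the pair `(a, c)`. -/

namespace CfsgLib.SchurFi23.Pair

open CfsgLib.CosetEnum CfsgLib.CosetEnum.Fi23

/-- The conjugating word. -/
def gw : List ℕ := [1, 2, 3, 4, 5, 8, 3, 2, 1, 4, 3, 2, 8, 3, 4, 5, 7, 6, 5, 4, 3, 2, 1, 0, 8, 3, 2, 4, 3, 5, 4, 6,
  5, 7, 6, 8, 3, 2, 4, 3, 5, 4, 8, 3, 2, 1]

/-- The test at a point. -/
noncomputable def test (k : ℕ) : Bool :=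
  strict (scan table gw.reverse k) fun m =>
    Nat.beq (scan table gw (zCol.get 20 m)) (act table 0 k) && Nat.beq (scan table gw (act table 0 m)) (act table 2 k)

theorem test_0 : allFrom test 4096 0 = true := by decide +kernel
theorem test_4096 : allFrom test 4096 4096 = true := by decide +kernel
theorem test_8192 : allFrom test 4096 8192 = true := by decide +kernel
theorem test_12288 : allFrom test 4096 12288 = true := by decide +kernel
theorem test_16384 : allFrom test 4096 16384 = true := by decide +kernel
theorem test_20480 : allFrom test 4096 20480 = true := by decide +kernel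
theorem test_24576 : allFrom test 4096 24576 = true := by decide +kernel
theorem test_28672 : allFrom test 2999 28672 = true := by decide +kernel

theorem test_ok (k : ℕ) (hk : k < 31671) : test k = true := by
  by_cases h1 : k < 4096
  · exact allFrom_spec _ _ _ test_0 k (by omega) (by omega)
  by_cases h2 : k < 8192
  · exact allFrom_spec _ _ _ test_4096 k (by omega) (by omega)
  by_cases h3 : k < 12288
  · exact allFrom_spec _ _ _ test_8192 k (by omega) (by omega)
  by_cases h4 : k < 16384
  · exact allFrom_spec _ _ _ test_12288 k (by omega) (by omega)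
  by_cases h5 : k < 20480
  · exact allFrom_spec _ _ _ test_16384 k (by omega) (by omega)
  by_cases h6 : k < 24576
  · exact allFrom_spec _ _ _ test_20480 k (by omega) (by omega)
  by_cases h7 : k < 28672
  · exact allFrom_spec _ _ _ test_24576 k (by omega) (by omega)
  exact allFrom_spec _ _ _ test_28672 k (by omega) (by omega)

theorem gw_lt : ∀ x ∈ gw, x < 16 := by decide

theorem conj (w l : List ℕ) (hw : ∀ x ∈ w, x < 16) (hl : ∀ x ∈ l, x < 16)
    (h : ∀ k < 31671, scan table gw (scan table w (scan table gw.reverse k)) = scan table l k) :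
    (gw.reverse.map g).prod * (w.map g).prod * (gw.map g).prod = (l.map g).prod := by
  have hr : ∀ x ∈ gw.reverse, x < 16 := fun x hx => gw_lt x (List.mem_reverse.mp hx)
  have h1 := prod_eq_of_scan_eq table 18364758544493064720 ip_ok row_ok π g hinv hπ injective
    (gw.reverse ++ w ++ gw) l
    (by
      simp only [List.mem_append]
      rintro y ((hy | hy) | hy)
      exacts [hr y hy, hw y hy, gw_lt y hy])
    hl (fun k hk => by rw [scan_append, scan_append]; exact h k hk)
  simpa only [List.map_append, List.prod_append] using h1

theorem conj_z : (gw.reverse.map g).prod * z * (gw.map g).prod = g 0 := by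
  have h := conj zw [0] zw_lt (by decide) fun k hk => by
    have h1 := test_ok k hk
    unfold test at h1
    simp only [strict_eq, Bool.and_eq_true] at h1
    rw [zc_eq _ (scan_lt _ (fun x hx => gw_lt x (List.mem_reverse.mp hx)) k hk), scan_cons, scan_nil]
    exact Nat.eq_of_beq_eq_true h1.1
  simpa [z] using h

theorem conj_a : (gw.reverse.map g).prod * g 0 * (gw.map g).prod = g 2 := by
  have h := conj [0] [2] (by decide) (by decide) fun k hk => by
    have h1 := test_ok k hk
    unfold test at h1
    simp only [strict_eq, Bool.and_eq_true] at h1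
    rw [scan_cons, scan_nil, scan_cons, scan_nil]
    exact Nat.eq_of_beq_eq_true h1.2
  simpa using h

end CfsgLib.SchurFi23.Pair
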