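import Cfsg.Agent.Lib.CosetEnum.Chain

set_option autoImplicit false
set_option linter.all false

namespace CfsgLib.SchurFi23

open CfsgLib.CosetEnum

variable {X : Type*} [Group X]

/-- Elements satisfying a list of relators in involutory letters. -/
structure Rels (ls : List (List ℕ)) (g : ℕ → X) : Prop where
  h15 : g 15 = 1
  hinv : ∀ x < 16, g (linv 18364758544493064720 x) = (g x)⁻¹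
  words : ∀ l ∈ ls, (∀ x ∈ l, x < 16) ∧ (l.map g).prod = 1

/-- Coxeter relators of `Y₄₃₂` and the relator on `E₇`. -/
def lsA : List (List ℕ) := [[0, 0],
  [0, 1, 0, 1, 0, 1],
  [0, 2, 0, 2],
  [0, 3, 0, 3],
  [0, 4, 0, 4],
  [0, 5, 0, 5],
  [0, 6, 0, 6],
  [0, 7, 0, 7],
  [0, 8, 0, 8],
  [0, 9, 0, 9],
  [1, 0, 1, 0, 1, 0],
  [1, 1],
  [1, 2, 1, 2, 1, 2],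
  [1, 3, 1, 3],
  [1, 4, 1, 4],
  [1, 5, 1, 5],
  [1, 6, 1, 6],
  [1, 7, 1, 7],
  [1, 8, 1, 8],
  [1, 9, 1, 9],
  [2, 0, 2, 0],
  [2, 1, 2, 1, 2, 1],
  [2, 2],
  [2, 3, 2, 3, 2, 3],
  [2, 4, 2, 4],
  [2, 5, 2, 5],
  [2, 6, 2, 6],
  [2, 7, 2, 7],
  [2, 8, 2, 8],
  [2, 9, 2, 9],
  [3, 0, 3, 0],
  [3, 1, 3, 1],
  [3, 2, 3, 2, 3, 2],
  [3, 3],
  [3, 4, 3, 4, 3, 4],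
  [3, 5, 3, 5],
  [3, 6, 3, 6],
  [3, 7, 3, 7],
  [3, 8, 3, 8, 3, 8],
  [3, 9, 3, 9],
  [4, 0, 4, 0],
  [4, 1, 4, 1],
  [4, 2, 4, 2],
  [4, 3, 4, 3, 4, 3],
  [4, 4],
  [4, 5, 4, 5, 4, 5],
  [4, 6, 4, 6],
  [4, 7, 4, 7],
  [4, 8, 4, 8],
  [4, 9, 4, 9],
  [5, 0, 5, 0],
  [5, 1, 5, 1],
  [5, 2, 5, 2],
  [5, 3, 5, 3],
  [5, 4, 5, 4, 5, 4],
  [5, 5],
  [5, 6, 5, 6, 5, 6],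
  [5, 7, 5, 7],
  [5, 8, 5, 8],
  [5, 9, 5, 9],
  [6, 0, 6, 0],
  [6, 1, 6, 1],
  [6, 2, 6, 2],
  [6, 3, 6, 3],
  [6, 4, 6, 4],
  [6, 5, 6, 5, 6, 5],
  [6, 6],
  [6, 7, 6, 7, 6, 7],
  [6, 8, 6, 8],
  [6, 9, 6, 9],
  [7, 0, 7, 0],
  [7, 1, 7, 1],
  [7, 2, 7, 2],
  [7, 3, 7, 3],
  [7, 4, 7, 4],
  [7, 5, 7, 5],
  [7, 6, 7, 6, 7, 6],
  [7, 7],
  [7, 8, 7, 8],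
  [7, 9, 7, 9],
  [8, 0, 8, 0],
  [8, 1, 8, 1],
  [8, 2, 8, 2],
  [8, 3, 8, 3, 8, 3],
  [8, 4, 8, 4],
  [8, 5, 8, 5],
  [8, 6, 8, 6],
  [8, 7, 8, 7],
  [8, 8],
  [8, 9, 8, 9, 8, 9],
  [9, 0, 9, 0],
  [9, 1, 9, 1],
  [9, 2, 9, 2],
  [9, 3, 9, 3],
  [9, 4, 9, 4],
  [9, 5, 9, 5],
  [9, 6, 9, 6],
  [9, 7, 9, 7],
  [9, 8, 9, 8, 9, 8],
  [9, 9],
  [0, 1, 2, 3, 4, 5, 8, 0, 1, 2, 3, 4, 5, 8, 0, 1, 2, 3, 4, 5, 8, 0, 1, 2, 3, 4, 5, 8, 0, 1, 2, 3, 4, 5, 8, 0, 1, 2, 3, 4, 5, 8, 0, 1, 2, 3, 4, 5, 8, 0, 1, 2, 3, 4, 5, 8, 0, 1, 2, 3, 4, 5, 8],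
  [1, 2, 3, 4, 5, 6, 8, 1, 2, 3, 4, 5, 6, 8, 1, 2, 3, 4, 5, 6, 8, 1, 2, 3, 4, 5, 6, 8, 1, 2, 3, 4, 5, 6, 8, 1, 2, 3, 4, 5, 6, 8, 1, 2, 3, 4, 5, 6, 8, 1, 2, 3, 4, 5, 6, 8, 1, 2, 3, 4, 5, 6, 8, 9, 8, 6, 5, 4, 3, 2, 1, 8, 6, 5, 4, 3, 2, 1, 8, 6, 5, 4, 3, 2, 1, 8, 6, 5, 4, 3, 2, 1, 8, 6, 5, 4, 3, 2, 1, 8, 6, 5, 4, 3, 2, 1, 8, 6, 5, 4, 3, 2, 1, 8, 6, 5, 4, 3, 2, 1, 8, 6, 5, 4, 3, 2, 1, 9]]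

/-- Coxeter relators of `Y₄₂₂` and a commutator relator. -/
def lsD : List (List ℕ) := [[1, 1],
  [1, 2, 1, 2, 1, 2],
  [1, 3, 1, 3],
  [1, 4, 1, 4],
  [1, 5, 1, 5],
  [1, 6, 1, 6],
  [1, 7, 1, 7],
  [1, 8, 1, 8],
  [1, 9, 1, 9],
  [2, 1, 2, 1, 2, 1],
  [2, 2],
  [2, 3, 2, 3, 2, 3],
  [2, 4, 2, 4],
  [2, 5, 2, 5],
  [2, 6, 2, 6],
  [2, 7, 2, 7],
  [2, 8, 2, 8],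
  [2, 9, 2, 9],
  [3, 1, 3, 1],
  [3, 2, 3, 2, 3, 2],
  [3, 3],
  [3, 4, 3, 4, 3, 4],
  [3, 5, 3, 5],
  [3, 6, 3, 6],
  [3, 7, 3, 7],
  [3, 8, 3, 8, 3, 8],
  [3, 9, 3, 9],
  [4, 1, 4, 1],
  [4, 2, 4, 2],
  [4, 3, 4, 3, 4, 3],
  [4, 4],
  [4, 5, 4, 5, 4, 5],
  [4, 6, 4, 6],
  [4, 7, 4, 7],
  [4, 8, 4, 8],
  [4, 9, 4, 9],
  [5, 1, 5, 1],
  [5, 2, 5, 2],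
  [5, 3, 5, 3],
  [5, 4, 5, 4, 5, 4],
  [5, 5],
  [5, 6, 5, 6, 5, 6],
  [5, 7, 5, 7],
  [5, 8, 5, 8],
  [5, 9, 5, 9],
  [6, 1, 6, 1],
  [6, 2, 6, 2],
  [6, 3, 6, 3],
  [6, 4, 6, 4],
  [6, 5, 6, 5, 6, 5],
  [6, 6],
  [6, 7, 6, 7, 6, 7],
  [6, 8, 6, 8],
  [6, 9, 6, 9],
  [7, 1, 7, 1],
  [7, 2, 7, 2],
  [7, 3, 7, 3],
  [7, 4, 7, 4],
  [7, 5, 7, 5],
  [7, 6, 7, 6, 7, 6],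
  [7, 7],
  [7, 8, 7, 8],
  [7, 9, 7, 9],
  [8, 1, 8, 1],
  [8, 2, 8, 2],
  [8, 3, 8, 3, 8, 3],
  [8, 4, 8, 4],
  [8, 5, 8, 5],
  [8, 6, 8, 6],
  [8, 7, 8, 7],
  [8, 8],
  [8, 9, 8, 9, 8, 9],
  [9, 1, 9, 1],
  [9, 2, 9, 2],
  [9, 3, 9, 3],
  [9, 4, 9, 4],
  [9, 5, 9, 5],
  [9, 6, 9, 6],
  [9, 7, 9, 7],
  [9, 8, 9, 8, 9, 8],
  [9, 9],
  [1, 2, 3, 4, 5, 6, 8, 1, 2, 3, 4, 5, 6, 8, 1, 2, 3, 4, 5, 6, 8, 1, 2, 3, 4, 5, 6, 8, 1, 2, 3, 4, 5, 6, 8, 1, 2, 3, 4, 5, 6, 8, 1, 2, 3, 4, 5, 6, 8, 1, 2, 3, 4, 5, 6, 8, 1, 2, 3, 4, 5, 6, 8, 9, 8, 6, 5, 4, 3, 2, 1, 8, 6, 5, 4, 3, 2, 1, 8, 6, 5, 4, 3, 2, 1, 8, 6, 5, 4, 3, 2, 1, 8, 6, 5, 4, 3, 2, 1, 8, 6, 5, 4, 3, 2, 1, 8, 6, 5, 4, 3, 2, 1, 8, 6, 5, 4, 3, 2, 1,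 8, 6, 5, 4, 3, 2, 1, 9]]

end CfsgLib.SchurFi23
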