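import Cfsg.Prelude.Def_KGroupFacts
import Cfsg.Agent.Lib.Schur.CoxeterCover
import Cfsg.Agent.Lib.Schur.Multiplier
import Cfsg.Agent.Lib.Weyl.E7
import Cfsg.Agent.Lib.Schur.FiTwentyThree.Pres
import Cfsg.Agent.Lib.Schur.FiTwentyThree.Pair

set_option autoImplicit false
set_option linter.all false
set_option synthInstance.maxSize 4000
set_option synthInstance.maxHeartbeats 400000
set_option maxRecDepth 20000

/-!
Every stem extension of `Fi23` contains involutory lifts of the generators satisfying the Coxeter relations,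
the `E₇` relator and the commutation of the transposition `z` with `i`.
-/

namespace CfsgLib.SchurFi23

open CfsgLib.CosetEnum CfsgLib.Schur.CoxeterCover
open scoped commutatorElement

local notation "G" => Cfsg.Spor.Fi23
local notation "g" => CfsgLib.CosetEnum.Fi23.g

/-- The edges of `Y₄₃₂`. -/
def adj (i j : ℕ) : Bool :=
  decide ((i, j) ∈ [(0, 1), (1, 2), (2, 3), (3, 4), (4, 5), (5, 6), (6, 7), (3, 8), (8, 9)] ∨
    (j, i) ∈ [(0, 1), (1, 2), (2, 3), (3, 4), (4, 5), (5, 6), (6, 7), (3, 8), (8, 9)])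

/-- The word `abcdefh` nine times. -/
def w9 : List ℕ := (List.replicate 9 [0, 1, 2, 3, 4, 5, 8]).flatten

theorem g_sq {i : ℕ} (hi : i < 10) : g i * g i = 1 := by
  have h := (Fi23.lsWords [i, i] ((by decide : ∀ i < 10, [i, i] ∈ Fi23.ls) i hi)).2
  simpa using h

theorem g_comm {i j : ℕ} (hi : i < 10) (hj : j < 10) (hne : i ≠ j) (h : adj i j = false) : g i * g j = g j * g i := by
  have h1 := (Fi23.lsWords [i, j, i, j]
    ((by decide +kernel : ∀ i < 10, ∀ j < 10, i ≠ j → adj i j = false → [i, j, i, j] ∈ Fi23.ls) i hi j hj hne h)).2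
  simp only [List.map_cons, List.map_nil, List.prod_cons, List.prod_nil, mul_one] at h1
  calc g i * g j = g i * g j * (g i * (g i * (g j * g j))) := by rw [g_sq hj, mul_one, g_sq hi, mul_one]
    _ = (g i * (g j * (g i * g j))) * ((g j * g i) * 1) := by
      have e1 : g i * g j * (g i * g j) = 1 := by rw [mul_assoc]; exact h1
      rw [g_sq hj, mul_one, g_sq hi, mul_one, h1, one_mul, mul_one]
      calc g i * g j = (g i * g j) * ((g i * g j) * (g j * g i)) := by
            rw [mul_assoc (g i) (g j) (g j * g i), ← mul_assoc (g j) (g j), g_sq hj, one_mul, g_sq hi, mul_one]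
        _ = g j * g i := by rw [← mul_assoc, e1, one_mul]
    _ = g j * g i := by rw [h1, one_mul, mul_one]

theorem g_braid {i j : ℕ} (hi : i < 10) (hj : j < 10) (h : adj i j = true) : g i * g j * g i = g j * g i * g j := by
  have h1 := (Fi23.lsWords [i, j, i, j, i, j]
    ((by decide +kernel : ∀ i < 10, ∀ j < 10, adj i j = true → [i, j, i, j, i, j] ∈ Fi23.ls) i hi j hj h)).2
  simp only [List.map_cons, List.map_nil, List.prod_cons, List.prod_nil, mul_one] at h1
  have e : (g i * g j * g i) * (g j * g i * g j) = 1 := by simp only [mul_assoc]; exact h1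
  calc g i * g j * g i = (g i * g j * g i) * ((g j * g i * g j) * (g j * g i * g j)) := by
        have : (g j * g i * g j) * (g j * g i * g j) = 1 := by
          calc _ = g j * (g i * ((g j * g j) * g i)) * g j := by group
            _ = 1 := by rw [g_sq hj, one_mul, g_sq hi, mul_one, g_sq hj]
        rw [this, mul_one]
    _ = g j * g i * g j := by rw [← mul_assoc, e, one_mul]

theorem commutator_top : _root_.commutator G = ⊤ := by
  haveI := Fi23.Simple.isSimple
  rcases (inferInstance : (_root_.commutator G).Normal).eq_bot_or_eq_top with h | h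
  · exfalso
    have hc : Subgroup.centralizer ({Fi23.z} : Set G) = ⊤ := by
      refine eq_top_iff.mpr fun x _ => Subgroup.mem_centralizer_singleton_iff.mpr ?_
      have hm : ⁅x, Fi23.z⁆ ∈ _root_.commutator G :=
        Subgroup.commutator_mem_commutator (Subgroup.mem_top _) (Subgroup.mem_top _)
      rw [h, Subgroup.mem_bot] at hm
      exact commutatorElement_eq_one_iff_mul_comm.mp hm
    rw [Fi23.centralizer_z] at hc
    have := Fi23.index_H
    rw [hc, Subgroup.index_top] at this
    omega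
  · exact h

/-- The derivation of all commuting pairs from the pair `(0, 2)`. -/
def steps : List (ℕ × ℕ × ℕ) := [(2, 3, 0), (3, 4, 0), (3, 8, 0), (0, 1, 3), (4, 5, 0), (0, 1, 4), (8, 9, 0), (0, 1, 8),
  (5, 6, 0), (0, 1, 5), (1, 2, 4), (0, 1, 9), (1, 2, 8), (6, 7, 0), (0, 1, 6), (1, 2, 5), (1, 2, 9), (0, 1, 7),
  (1, 2, 6), (2, 3, 5), (2, 3, 9), (1, 2, 7), (2, 3, 6), (3, 8, 5), (3, 4, 9), (2, 3, 7), (3, 4, 6), (3, 8, 6),
  (8, 9, 5), (5, 4, 8), (3, 4, 7), (3, 8, 7), (8, 9, 6), (4, 5, 7), (8, 9, 7)]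

/-- One derivation step. -/
def step (L : List (ℕ × ℕ)) (p : ℕ × ℕ × ℕ) : List (ℕ × ℕ) :=
  if p.1 < 10 ∧ p.2.1 < 10 ∧ p.2.2 < 10 ∧ adj p.1 p.2.1 = true ∧ adj p.2.1 p.2.2 = false ∧ p.2.1 ≠ p.2.2 ∧
      adj p.1 p.2.2 = false ∧ p.1 ≠ p.2.2 ∧ ((p.1, p.2.2) ∈ L ∨ (p.2.2, p.1) ∈ L)
  then (p.2.1, p.2.2) :: L else L

theorem derived_all : ∀ i < 10, ∀ j < 10, i ≠ j → adj i j = false →
    (i, j) ∈ steps.foldl step [(0, 2)] ∨ (j, i) ∈ steps.foldl step [(0, 2)] := by decide +kernel

section lifts

variable {Γ : Type} [Group Γ] (σ : Γ →* G)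

/-- Facts about the lifts. -/
structure Good (x : ℕ → Γ) (z₀ : Γ) : Prop where
  map : ∀ i < 10, σ (x i) = g i
  out : ∀ i, 10 ≤ i → x i = 1
  sq : ∀ i < 10, x i * x i = z₀
  braid : ∀ i < 10, ∀ j < 10, adj i j = true → x i * x j * x i = x j * x i * x j

theorem exists_next (hs : Function.Surjective σ) (hc : ∀ a, σ a = 1 → ∀ b : Γ, Commute a b) {z₀ t : Γ} (i j : ℕ)
    (hi : i < 10) (hj : j < 10) (h : adj i j = true) (ht : σ t = g i) (hsq : t * t = z₀) :
    ∃ u : Γ, σ u = g j ∧ t * u * t = u * t * u ∧ u * u = z₀ := by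
  obtain ⟨u, h1, h2, h3⟩ := exists_braid_lift σ hc hs (t := t) (b := g j)
    (by rw [ht]; exact g_braid hi hj h) (by rw [map_mul, ht]; exact g_sq hi)
  exact ⟨u, h1, h2, h3.trans hsq⟩

theorem exists_good (hs : Function.Surjective σ) (hc : ∀ a, σ a = 1 → ∀ b : Γ, Commute a b) :
    ∃ (x : ℕ → Γ) (z₀ : Γ), Good σ x z₀ := by
  obtain ⟨a, ha⟩ := hs (g 0)
  obtain ⟨b, hb, qb, sb⟩ := exists_next σ hs hc 0 1 (by decide) (by decide) rfl ha rfl
  obtain ⟨c, hc', qc, sc⟩ := exists_next σ hs hc 1 2 (by decide) (by decide) rfl hb sb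
  obtain ⟨d, hd, qd, sd⟩ := exists_next σ hs hc 2 3 (by decide) (by decide) rfl hc' sc
  obtain ⟨e, he, qe, se⟩ := exists_next σ hs hc 3 4 (by decide) (by decide) rfl hd sd
  obtain ⟨f, hf, qf, sf⟩ := exists_next σ hs hc 4 5 (by decide) (by decide) rfl he se
  obtain ⟨k, hk, qk, sk⟩ := exists_next σ hs hc 5 6 (by decide) (by decide) rfl hf sf
  obtain ⟨j, hj, qj, sj⟩ := exists_next σ hs hc 6 7 (by decide) (by decide) rfl hk sk
  obtain ⟨h, hh, qh, sh⟩ := exists_next σ hs hc 3 8 (by decide) (by decide) rfl hd sd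
  obtain ⟨i, hi, qi, si⟩ := exists_next σ hs hc 8 9 (by decide) (by decide) rfl hh sh
  refine ⟨fun n => [a, b, c, d, e, f, k, j, h, i].getD n 1, a * a, ⟨?_, ?_, ?_, ?_⟩⟩
  · intro n hn
    interval_cases n <;> simpa
  · intro n hn
    exact List.getD_eq_default _ _ (by simpa using hn)
  · intro n hn
    interval_cases n <;> simpa
  · intro n hn m hm hnm
    interval_cases n <;> interval_cases m <;> simp [adj] at hnm ⊢ <;>
      first
      | assumption
      | (apply Eq.symm; assumption)

variable {x : ℕ → Γ} {z₀ : Γ} (hc : ∀ a, σ a = 1 → ∀ b : Γ, Commute a b) (hx : Good σ x z₀)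

include hx in
theorem map_word (l : List ℕ) (hl : ∀ i ∈ l, i < 10) : σ (l.map x).prod = (l.map g).prod := by
  rw [map_list_prod, List.map_map]
  exact congrArg _ (List.map_congr_left fun i hi => hx.map i (hl i hi))

include hc in
theorem comm_of_lifts {A B A' B' : Γ} (ha : σ A = σ A') (hb : σ B = σ B') (h : Commute A B) : Commute A' B' := by
  have h1 := commute_div σ hc ha.symm
  have h2 := commute_div σ hc hb.symm
  have : Commute (A * (A⁻¹ * A')) (B * (B⁻¹ * B')) :=
    ((h.mul_right (h2 A).symm).mul_left ((h1 B).mul_right (h1 _)))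
  simpa using this

include hc hx in
theorem z0_comm : ∀ b : Γ, Commute z₀ b := by
  refine hc z₀ ?_
  rw [← hx.sq 0 (by omega), map_mul, hx.map 0 (by omega)]
  exact g_sq (by omega)

include hc in
theorem w9_comm (hm : σ (w9.map x).prod = 1) : ∀ b : Γ, Commute (w9.map x).prod b := hc _ hm

include hx in
theorem map_w9 : σ (w9.map x).prod = 1 := by
  rw [map_word σ hx w9 (by decide)]
  exact (Fi23.lsWords w9 (by decide +kernel)).2

include hc hx in
theorem comm_Z : ∀ i, i ∈ [0, 1, 2, 3, 4, 5, 6, 8, 9] → Commute (x i) (Fi23.zw.map x).prod := by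
  set Z := (Fi23.zw.map x).prod with hZ
  have hσZ : σ Z = Fi23.z := map_word σ hx _ (by decide)
  have hσ : ∀ i ∈ [0, 1, 2, 3, 4, 5, 6, 8, 9], σ (x i) * σ Z = σ Z * σ (x i) := fun i hi => by
    rw [hσZ, hx.map i ((by decide : ∀ i ∈ [0, 1, 2, 3, 4, 5, 6, 8, 9], i < 10) i hi)]
    exact Fi23.z_comm _ (Fi23.mem_sub i ((by decide : ∀ i ∈ [0, 1, 2, 3, 4, 5, 6, 8, 9], i ∈ Fi23.sel) i hi))
  set e := ⁅x 0, Z⁆ with he
  have tr : ∀ i k, i ∈ [0, 1, 2, 3, 4, 5, 6, 8, 9] → k ∈ [0, 1, 2, 3, 4, 5, 6, 8, 9] → adj i k = true →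
      ⁅x i, Z⁆ = e → ⁅x k, Z⁆ = e := fun i k hi hk h he' =>
    (commutator_transfer σ hc (hx.braid i ((by decide : ∀ i ∈ [0, 1, 2, 3, 4, 5, 6, 8, 9], i < 10) i hi)
      k ((by decide : ∀ i ∈ [0, 1, 2, 3, 4, 5, 6, 8, 9], i < 10) k hk) h) (hσ i hi) (hσ k hk)).trans he'
  have h1 := tr 0 1 (by decide) (by decide) rfl rfl
  have h2 := tr 1 2 (by decide) (by decide) rfl h1
  have h3 := tr 2 3 (by decide) (by decide) rfl h2
  have h4 := tr 3 4 (by decide) (by decide) rfl h3
  have h5 := tr 4 5 (by decide) (by decide) rfl h4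
  have h6 := tr 5 6 (by decide) (by decide) rfl h5
  have h8 := tr 3 8 (by decide) (by decide) rfl h3
  have h9 := tr 8 9 (by decide) (by decide) rfl h8
  have hall : ∀ i ∈ [0, 1, 2, 3, 4, 5, 6, 8, 9], ⁅x i, Z⁆ = e := by
    intro i hi
    simp only [List.mem_cons, List.not_mem_nil, or_false] at hi
    rcases hi with rfl | rfl | rfl | rfl | rfl | rfl | rfl | rfl | rfl
    exacts [rfl, h1, h2, h3, h4, h5, h6, h8, h9]
  have hecen : ∀ b : Γ, Commute e b := hc e (map_commutator_eq_one σ (hσ 0 (by decide)))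
  have hprod : ∀ l : List ℕ, (∀ i ∈ l, i ∈ [0, 1, 2, 3, 4, 5, 6, 8, 9]) → ⁅(l.map x).prod, Z⁆ = e ^ l.length := by
    intro l
    induction l with
    | nil => intro _; simp
    | cons i r ih =>
      intro hl
      have e1 : ⁅x i * (r.map x).prod, Z⁆ = x i * ⁅(r.map x).prod, Z⁆ * (x i)⁻¹ * ⁅x i, Z⁆ := by
        simp only [commutatorElement_def]; group
      rw [List.map_cons, List.prod_cons, e1, ih (fun j hj => hl j (List.mem_cons_of_mem _ hj)),
        hall i (hl i (by simp)), ← ((hecen (x i)).pow_left r.length).eq, mul_inv_cancel_right,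
        List.length_cons, pow_succ]
  have e63 : e ^ 63 = 1 := by
    have h := hprod w9 (by decide)
    rw [commutatorElement_eq_one_iff_commute.mpr (hc _ (map_w9 σ hx) Z)] at h
    rw [show w9.length = 63 from by decide] at h
    exact h.symm
  have e2 : e ^ 2 = 1 := by
    have h := hprod [0, 0] (by decide)
    simp only [List.map_cons, List.map_nil, List.prod_cons, List.prod_nil, mul_one] at h
    rw [hx.sq 0 (by omega), commutatorElement_eq_one_iff_commute.mpr (z0_comm σ hc hx Z)] at h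
    exact h.symm
  have e1 : e = 1 := by
    rw [show 63 = 2 * 31 + 1 from rfl, pow_succ, pow_mul, e2, one_pow, one_mul] at e63
    exact e63
  intro i hi
  rw [← commutatorElement_eq_one_iff_commute, hall i hi, e1]

include hc hx in
theorem comm_base : Commute (x 0) (x 2) := by
  set U := (Pair.gw.reverse.map x).prod
  have hU : σ U = (Pair.gw.reverse.map g).prod := map_word σ hx _ (by decide)
  have hV : (Pair.gw.reverse.map g).prod⁻¹ = (Pair.gw.map g).prod := by
    refine inv_eq_of_mul_eq_one_right ?_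
    have key : ∀ l : List ℕ, (∀ i ∈ l, i < 10) → (l.reverse.map g).prod * (l.map g).prod = 1 := by
      intro l
      induction l with
      | nil => simp
      | cons i r ih =>
        intro hl
        rw [List.reverse_cons, List.map_append, List.prod_append, List.map_cons, List.map_cons, List.prod_cons,
          List.map_nil, List.prod_cons, List.prod_nil, mul_one]
        calc (r.reverse.map g).prod * g i * (g i * (r.map g).prod)
            = (r.reverse.map g).prod * (g i * g i) * (r.map g).prod := by group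
          _ = 1 := by rw [g_sq (hl i (by simp)), mul_one]; exact ih fun j hj => hl j (List.mem_cons_of_mem _ hj)
    exact key _ (by decide)
  refine comm_of_lifts σ hc (A := U * (Fi23.zw.map x).prod * U⁻¹) (B := U * x 0 * U⁻¹) ?_ ?_ ?_
  · rw [hx.map 0 (by omega), map_mul, map_mul, map_inv, hU, map_word σ hx _ (by decide), hV]
    exact Pair.conj_z
  · rw [hx.map 2 (by omega), map_mul, map_mul, map_inv, hU, hV, hx.map 0 (by omega)]
    exact Pair.conj_a
  · exact Commute.conj (comm_Z σ hc hx 0 (by decide)).symm U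

include hc hx in
theorem comm_all {i j : ℕ} (hi : i < 10) (hj : j < 10) (hne : i ≠ j) (h : adj i j = false) : Commute (x i) (x j) := by
  have key : ∀ (S : List (ℕ × ℕ × ℕ)) (L : List (ℕ × ℕ)), (∀ p ∈ L, Commute (x p.1) (x p.2)) →
      ∀ p ∈ S.foldl step L, Commute (x p.1) (x p.2) := by
    intro S
    induction S with
    | nil => exact fun L hL => hL
    | cons s r ih =>
      intro L hL
      rw [List.foldl_cons]
      refine ih _ fun p hp => ?_
      obtain ⟨a, k, b⟩ := s
      rw [step] at hp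
      split_ifs at hp with hcond
      · obtain ⟨ha, hk, hb, hak, hkb, hkbne, hab, habne, hmem⟩ := hcond
        rcases List.mem_cons.mp hp with rfl | hp
        · have hC : Commute (x a) (x b) := hmem.elim (fun h => hL _ h) (fun h => (hL _ h).symm)
          rw [← commutatorElement_eq_one_iff_commute,
            commutator_transfer σ hc (hx.braid a ha k hk hak)
              (by rw [hx.map a ha, hx.map b hb]; exact g_comm ha hb habne hab)
              (by rw [hx.map k hk, hx.map b hb]; exact g_comm hk hb hkbne hkb),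
            commutatorElement_eq_one_iff_commute]
          exact hC
        · exact hL p hp
      · exact hL p hp
  have hbase : ∀ p ∈ [(0, 2)], Commute (x (p : ℕ × ℕ).1) (x p.2) := by
    intro p hp; rw [List.mem_singleton] at hp; subst hp; exact comm_base σ hc hx
  rcases derived_all i hi j hj hne h with h1 | h1
  · exact key _ _ hbase _ h1
  · exact (key _ _ hbase _ h1).symm

/-- Letters of the nodes of `E₇`. -/
def e7 : Fin 7 → ℕ := ![5, 8, 4, 3, 2, 1, 0]

theorem e7_table : ∀ i j : Fin 7,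
    (decide (i = j) || decide (CoxeterMatrix.E₇.M i j = bif adj (e7 i) (e7 j) then 3 else 2)) = true := by
  decide

theorem e7_matrix (i j : Fin 7) (h : i ≠ j) : (CoxeterMatrix.E₇ i j = 2 ∧ adj (e7 i) (e7 j) = false) ∨
    (CoxeterMatrix.E₇ i j = 3 ∧ adj (e7 i) (e7 j) = true) := by
  have h1 := e7_table i j
  simp only [Bool.or_eq_true, decide_eq_true_eq, h, false_or] at h1
  cases ha : adj (e7 i) (e7 j) <;> rw [ha] at h1
  · exact Or.inl ⟨h1, rfl⟩
  · exact Or.inr ⟨h1, rfl⟩

theorem e7_lt : ∀ i : Fin 7, e7 i < 10 ∧ ∀ j : Fin 7, i ≠ j → e7 i ≠ e7 j := by decide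

include hc hx in
theorem w9_sq : (w9.map x).prod * (w9.map x).prod = z₀ ^ 63 := by
  set M := CoxeterMatrix.E₇
  have hz := z0_comm σ hc hx
  have hR : CfsgLib.Schur.CoxeterCover.Rels M (fun i => x (e7 i)) z₀ 1 := by
    refine ⟨fun i j hij => (e7_matrix i j hij).elim (fun h => Or.inl h.1) (fun h => Or.inr h.1), hz,
      fun b => Commute.one_left b, fun i => hx.sq _ (e7_lt i).1, fun i j h => ?_, fun i j h => ?_⟩
    · have hij : i ≠ j := by rintro rfl; rw [M.diagonal] at h; omega
      rcases e7_matrix i j hij with ⟨-, ha⟩ | ⟨h3, -⟩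
      · rw [one_mul]
        exact (comm_all σ hc hx (e7_lt i).1 (e7_lt j).1 ((e7_lt i).2 j hij) ha).eq
      · rw [h] at h3; omega
    · have hij : i ≠ j := by rintro rfl; rw [M.diagonal] at h; omega
      rcases e7_matrix i j hij with ⟨h2, -⟩ | ⟨-, ha⟩
      · rw [h] at h2; omega
      · exact hx.braid _ (e7_lt i).1 _ (e7_lt j).1 ha
  have hN := relSubgroup_normal (z := z₀) (c := (1 : Γ)) hz (fun b => Commute.one_left b)
  let ψ := M.toCoxeterSystem.lift ⟨_, isLiftable hR⟩
  have hψ : ∀ i, ψ (M.simple i) = QuotientGroup.mk' (relSubgroup z₀ (1 : Γ))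
      (x (e7 i), Multiplicative.ofAdd (1 : ℤ)) := fun i =>
    M.toCoxeterSystem.lift_apply_simple (isLiftable hR) i
  set cw : List (Fin 7) := [6, 5, 4, 3, 2, 0, 1]
  have hord : orderOf (CfsgLib.Weyl.wp M cw) = 18 :=
    CfsgLib.Weyl.orderOf_wp CfsgLib.Weyl.E7.card_and_faithful.2.2 cw 18 (by decide +kernel)
  have hwp : ψ (CfsgLib.Weyl.wp M cw) = QuotientGroup.mk' (relSubgroup z₀ (1 : Γ))
      (([0, 1, 2, 3, 4, 5, 8].map x).prod, Multiplicative.ofAdd (7 : ℤ)) := by
    simp only [CfsgLib.Weyl.wp, cw, List.map_cons, List.map_nil, List.prod_cons, List.prod_nil, map_mul,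
      map_one, hψ]
    rw [← map_one (QuotientGroup.mk' (relSubgroup z₀ (1 : Γ)))]
    simp only [← map_mul]
    rfl
  have h18 := congrArg ψ (pow_orderOf_eq_one (CfsgLib.Weyl.wp M cw))
  rw [hord, map_pow, hwp, map_one, ← map_pow] at h18
  have hmem : ((w9.map x).prod * (w9.map x).prod, Multiplicative.ofAdd (126 : ℤ)) ∈ relSubgroup z₀ (1 : Γ) := by
    have h := (QuotientGroup.eq_one_iff _).mp h18
    convert h using 1
    refine Prod.ext ?_ rfl
    show _ = ([0, 1, 2, 3, 4, 5, 8].map x).prod ^ 18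
    rw [w9, List.map_flatten, List.map_replicate, List.prod_flatten, List.map_replicate, List.prod_replicate,
      ← pow_add]
  have hzm : ((z₀, Multiplicative.ofAdd (2 : ℤ)) : Γ × Multiplicative ℤ) ∈ relSubgroup z₀ (1 : Γ) :=
    Subgroup.subset_closure (Or.inl rfl)
  have h1 := mul_mem hmem (inv_mem (pow_mem hzm 63))
  have h2 : (((w9.map x).prod * (w9.map x).prod) * (z₀ ^ 63)⁻¹, (1 : Multiplicative ℤ)) ∈ relSubgroup z₀ (1 : Γ) := by
    convert h1 using 1
    exact Prod.ext rfl rfl
  have h3 := mem_zpowers_of_mem_relSubgroup hz h2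
  rw [Subgroup.zpowers_one_eq_bot, Subgroup.mem_bot] at h3
  exact mul_inv_eq_one.mp h3

end lifts

variable {Γ : Type} [Group Γ] (σ : Γ →* G)

/-- The lifts that satisfy the relators. -/
theorem exists_rels (hσ : Cfsg.IsStemExtension σ) :
    ∃ y : ℕ → Γ, Rels lsA y ∧ Rels lsD y ∧ Subgroup.closure {b | ∃ i < 10, b = y i} = ⊤ := by
  obtain ⟨hs, hcen, hder⟩ := hσ
  have hc : ∀ a, σ a = 1 → ∀ b : Γ, Commute a b := fun a ha b =>
    (Subgroup.mem_center_iff.mp (hcen (MonoidHom.mem_ker.mpr ha)) b).symm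
  obtain ⟨x, z₀, hx⟩ := exists_good σ hs hc
  set W := (w9.map x).prod
  set t := W * (z₀ ^ 31)⁻¹ with ht
  have hz := z0_comm σ hc hx
  have hW : ∀ b, Commute W b := hc W (map_w9 σ hx)
  have htc : ∀ b, Commute t b := fun b => (hW b).mul_left ((hz b).pow_left 31).inv_left
  have ht2 : t * t = z₀ := by
    calc t * t = W * W * ((z₀ ^ 31)⁻¹ * (z₀ ^ 31)⁻¹) := by
          rw [ht, mul_assoc W, ← mul_assoc ((z₀ ^ 31)⁻¹), ← (hW (z₀ ^ 31)⁻¹).eq]; group
      _ = z₀ := by rw [w9_sq σ hc hx]; group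
  have hσt : σ t = 1 := by
    rw [ht, map_mul, map_w9 σ hx, one_mul, map_inv, map_pow, ← hx.sq 0 (by omega), map_mul, hx.map 0 (by omega),
      g_sq (by omega), one_pow, inv_one]
  set y : ℕ → Γ := fun i => if i < 10 then x i * t⁻¹ else 1 with hy
  have hyi : ∀ i < 10, y i = x i * t⁻¹ := fun i hi => if_pos hi
  have hsq : ∀ i < 10, y i * y i = 1 := fun i hi => by
    rw [hyi i hi]
    calc x i * t⁻¹ * (x i * t⁻¹) = x i * (x i * t⁻¹) * t⁻¹ := by
          rw [mul_assoc (x i), ((htc _).inv_left).eq, ← mul_assoc]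
      _ = (x i * x i) * (t * t)⁻¹ := by group
      _ = 1 := by rw [hx.sq i hi, ht2, mul_inv_cancel]
  have hbr : ∀ i < 10, ∀ j < 10, adj i j = true → y i * y j * y i = y j * y i * y j := fun i hi j hj h => by
    rw [hyi i hi, hyi j hj]
    have key : ∀ a b : Γ, a * t⁻¹ * (b * t⁻¹) * (a * t⁻¹) = a * b * a * (t⁻¹ * t⁻¹ * t⁻¹) := by
      intro a b
      calc a * t⁻¹ * (b * t⁻¹) * (a * t⁻¹) = a * (t⁻¹ * b) * ((t⁻¹ * a) * t⁻¹) := by group
        _ = a * (b * t⁻¹) * ((a * t⁻¹) * t⁻¹) := by rw [((htc b).inv_left).eq, ((htc a).inv_left).eq]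
        _ = a * b * (t⁻¹ * a) * (t⁻¹ * t⁻¹) := by group
        _ = _ := by rw [((htc a).inv_left).eq]; group
    rw [key, key, hx.braid i hi j hj h]
  have hcm : ∀ i < 10, ∀ j < 10, i ≠ j → adj i j = false → Commute (y i) (y j) := fun i hi j hj hne h => by
    rw [hyi i hi, hyi j hj]
    exact ((comm_all σ hc hx hi hj hne h).mul_right ((htc (x i)).inv_left).symm).mul_left
      ((htc _).inv_left)
  have hprod : ∀ l : List ℕ, (∀ i ∈ l, i < 10) → (l.map y).prod = (l.map x).prod * t⁻¹ ^ l.length := by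
    intro l
    induction l with
    | nil => intro _; simp
    | cons i r ih =>
      intro hl
      rw [List.map_cons, List.prod_cons, ih fun j hj => hl j (List.mem_cons_of_mem _ hj), hyi i (hl i (by simp)),
        List.map_cons, List.prod_cons, List.length_cons, pow_succ']
      calc x i * t⁻¹ * ((r.map x).prod * t⁻¹ ^ r.length) = x i * (t⁻¹ * (r.map x).prod) * t⁻¹ ^ r.length := by group
        _ = x i * ((r.map x).prod * t⁻¹) * t⁻¹ ^ r.length := by rw [((htc _).inv_left).eq]
        _ = _ := by group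
  have h15 : y 15 = 1 := if_neg (by omega)
  have hinv : ∀ i < 16, y (linv 18364758544493064720 i) = (y i)⁻¹ := fun i hi => by
    rw [Fi23.linv_eq i hi]
    by_cases h : i < 10
    · exact (inv_eq_of_mul_eq_one_right (hsq i h)).symm
    · simp [hy, if_neg h]
  have hcox : ∀ i < 10, ∀ j < 10, ([i, j].map y).prod ^ (if i = j then 1 else if adj i j then 3 else 2) = 1 := by
    intro i hi j hj
    simp only [List.map_cons, List.map_nil, List.prod_cons, List.prod_nil, mul_one]
    split_ifs with h1 h2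
    · rw [pow_one, ← h1]; exact hsq i hi
    · calc (y i * y j) ^ 3 = (y i * y j * y i) * (y j * y i * y j) := by
            simp only [pow_succ, pow_zero, one_mul, mul_assoc]
        _ = (y i * y j * y i) * (y i * y j * y i) := by rw [hbr i hi j hj h2]
        _ = y i * (y j * ((y i * y i) * y j)) * y i := by group
        _ = 1 := by rw [hsq i hi, one_mul, hsq j hj, mul_one, hsq i hi]
    · have h2' : adj i j = false := by simpa using h2
      rw [(hcm i hi j hj h1 h2').mul_pow, pow_two, pow_two, hsq i hi, hsq j hj, one_mul]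
  have hw9 : (w9.map y).prod = 1 := by
    rw [hprod w9 (by decide), show w9.length = 63 from by decide, show (63 : ℕ) = 2 * 31 + 1 from rfl, pow_succ,
      pow_mul, pow_two, ← mul_inv_rev, ht2, inv_pow, ← mul_inv_rev]
    exact mul_inv_eq_one.mpr (by rw [ht, inv_mul_cancel_right])
  have hzi : Commute (Fi23.zw.map y).prod (y 9) := by
    rw [hprod _ (by decide), hyi 9 (by omega)]
    exact (((comm_Z σ hc hx 9 (by decide)).symm).mul_left ((htc _).inv_left.pow_left _)).mul_right
      ((htc _).inv_left.symm)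
  have hrev : ∀ l : List ℕ, (∀ i ∈ l, i < 10) → (l.map y).prod * (l.reverse.map y).prod = 1 := by
    intro l
    induction l with
    | nil => simp
    | cons i r ih =>
      intro hl
      rw [List.reverse_cons, List.map_append, List.prod_append, List.map_cons, List.map_cons, List.prod_cons,
        List.map_nil, List.prod_cons, List.prod_nil, mul_one]
      calc y i * (r.map y).prod * ((r.reverse.map y).prod * y i)
          = y i * ((r.map y).prod * (r.reverse.map y).prod) * y i := by group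
        _ = 1 := by
          rw [ih fun j hj => hl j (List.mem_cons_of_mem _ hj), mul_one]; exact hsq i (hl i (by simp))
  have hzc : ((Fi23.zw ++ [9] ++ Fi23.zw.reverse ++ [9]).map y).prod = 1 := by
    simp only [List.map_append, List.prod_append, List.map_cons, List.map_nil, List.prod_cons, List.prod_nil,
      mul_one]
    rw [hzi.eq, mul_assoc (y 9), hrev _ (by decide), mul_one]
    exact hsq 9 (by omega)
  have hcase : ∀ l, ((∃ i, i < 10 ∧ ∃ j, j < 10 ∧ l = (List.replicate (if i = j then 1 else if adj i j then 3 else 2) [i, j]).flatten) ∨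
      l = w9 ∨ l = Fi23.zw ++ [9] ++ Fi23.zw.reverse ++ [9]) → (∀ a ∈ l, a < 16) ∧ (l.map y).prod = 1 := by
    rintro l (⟨i, hi, j, hj, rfl⟩ | rfl | rfl)
    · refine ⟨fun a ha => ?_, ?_⟩
      · simp only [List.mem_flatten, List.mem_replicate] at ha
        obtain ⟨l', ⟨-, rfl⟩, ha⟩ := ha
        simp only [List.mem_cons, List.not_mem_nil, or_false] at ha
        omega
      · rw [List.map_flatten, List.map_replicate, List.prod_flatten, List.map_replicate, List.prod_replicate]
        exact hcox i hi j hj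
    · exact ⟨by decide, hw9⟩
    · exact ⟨by decide, hzc⟩
  refine ⟨y, ⟨h15, hinv, fun l hl => hcase l ?_⟩, ⟨h15, hinv, fun l hl => hcase l ?_⟩, ?_⟩
  · revert l; decide +kernel
  · revert l; decide +kernel
  · set K := Subgroup.closure {b | ∃ i < 10, b = y i}
    have hym : ∀ i < 10, σ (y i) = g i := fun i hi => by
      rw [hyi i hi, map_mul, map_inv, hσt, inv_one, mul_one, hx.map i hi]
    have hmap : K.map σ = ⊤ := by
      refine eq_top_iff.mpr (Fi23.translation.closure_top.trans ((Subgroup.closure_le _).mpr ?_))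
      rintro _ ⟨i, hi, rfl⟩
      rcases Fi23.gen_or_one i hi with h | h
      · exact ⟨y i, Subgroup.subset_closure ⟨i, h, rfl⟩, hym i h⟩
      · show g i ∈ K.map σ
        rw [h]; exact one_mem _
    have hdec : ∀ b : Γ, ∃ k ∈ K, ∀ c, Commute (k⁻¹ * b) c := fun b => by
      obtain ⟨k, hk, hkb⟩ : σ b ∈ K.map σ := by rw [hmap]; exact Subgroup.mem_top _
      exact ⟨k, hk, hc _ (by rw [map_mul, map_inv, hkb, inv_mul_cancel])⟩
    have hle : _root_.commutator Γ ≤ K := by
      rw [commutator_def, Subgroup.commutator_le]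
      intro a _ b _
      obtain ⟨k, hk, hka⟩ := hdec a
      obtain ⟨m, hm, hmb⟩ := hdec b
      have e : ⁅a, b⁆ = ⁅k, m⁆ := by
        calc ⁅a, b⁆ = ⁅k * (k⁻¹ * a), m * (m⁻¹ * b)⁆ := by rw [mul_inv_cancel_left, mul_inv_cancel_left]
          _ = ⁅k, m⁆ := Schur.commutatorElement_mul_center
              (Subgroup.mem_center_iff.mpr fun c => (hka c).eq.symm)
              (Subgroup.mem_center_iff.mpr fun c => (hmb c).eq.symm)
      rw [e, commutatorElement_def]
      exact mul_mem (mul_mem (mul_mem hk hm) (inv_mem hk)) (inv_mem hm)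
    refine eq_top_iff.mpr fun b _ => ?_
    obtain ⟨k, hk, hkb⟩ : σ b ∈ K.map σ := by rw [hmap]; exact Subgroup.mem_top _
    have : k⁻¹ * b ∈ K := hle (hder (by rw [MonoidHom.mem_ker, map_mul, map_inv, hkb, inv_mul_cancel]))
    simpa using mul_mem hk this

end CfsgLib.SchurFi23
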