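import Cfsg.Agent.Lib.Schur.FiTwentyThree.Lifts
import Cfsg.Agent.Lib.Schur.FiTwentyThree.Bound
import Cfsg.Agent.Lib.CosetEnum.Fi23.Exact

set_option autoImplicit false
set_option linter.all false

/-! The Schur multiplier of `Fi23` is trivial. -/

namespace CfsgLib.SchurFi23

open CfsgLib.CosetEnum

theorem ker_eq_bot {Γ : Type} [Group Γ] (σ : Γ →* Cfsg.Spor.Fi23) (hσ : Cfsg.IsStemExtension σ) : σ.ker = ⊥ := by
  obtain ⟨y, hA, hD, htop⟩ := exists_rels σ hσ
  obtain ⟨hfin, hcard⟩ := card_levelG hA hD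
  have hL : Level y [0, 1, 2, 3, 4, 5, 6, 7, 8, 9] = ⊤ := by
    refine eq_top_iff.mpr (htop.symm.le.trans ((Subgroup.closure_le _).mpr ?_))
    rintro _ ⟨i, hi, rfl⟩
    exact mem_level y ((by decide : ∀ i < 10, i ∈ [0, 1, 2, 3, 4, 5, 6, 7, 8, 9]) i hi)
  rw [hL] at hfin hcard
  haveI : Finite (⊤ : Subgroup Γ) := hfin
  haveI : Finite Γ := Finite.of_equiv _ Subgroup.topEquiv.toEquiv
  rw [Subgroup.card_top] at hcard
  have h1 := σ.ker.index_mul_card
  have h2 : σ.ker.index = 4089470473293004800 := by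
    rw [Subgroup.index_ker, MonoidHom.range_eq_top.mpr hσ.1, Subgroup.card_top, Fi23.card_group]
  rw [h2] at h1
  refine Subgroup.card_eq_one.mp ?_
  have h3 : 0 < Nat.card σ.ker := Nat.card_pos
  nlinarith

end CfsgLib.SchurFi23
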